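import Cfsg.Prelude.Def_Blocks
import Cfsg.Agent.Lib.Char.Ortho
import Cfsg.Agent.Lib.Char.Integral

/-!
# Degrees of irreducible characters, and integrality arguments on degrees

* `charDegree_eq`, `coe_charDegree`, `charDegree_pos`, `charDegree_dvd_card`.
* `not_prime_pow_denom`: an algebraic integer cannot be `r / p ^ e` with `e > 0`, `p ∤ r`.
* `exists_pow_dvd_degree`: if `∑ f χ / χ 1 = r / p ^ e` with integral `f χ` and `p ∤ r`, some
  degree is divisible by `p ^ e`.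
-/

namespace CfsgLib.CharBlocks

open CfsgLib.Char

variable {G : Type*} [Group G]

theorem charDegree_eq {χ : G → ℂ} {n : ℕ} (h : χ 1 = n) : Cfsg.charDegree χ = n := by
  simp [Cfsg.charDegree, h]

theorem coe_charDegree {χ : G → ℂ} (h : Cfsg.IsCharacter G χ) :
    (Cfsg.charDegree χ : ℂ) = χ 1 := by
  obtain ⟨n, hn⟩ := exists_degree h
  rw [charDegree_eq hn, hn]

theorem coe_charDegree_irr (χ : Cfsg.IrrCharacter G) :
    (Cfsg.charDegree (χ : G → ℂ) : ℂ) = (χ : G → ℂ) 1 :=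
  coe_charDegree (isCharacter_of_isIrr χ.2)

theorem charDegree_pos {χ : G → ℂ} (h : Cfsg.IsIrrCharacter G χ) : 0 < Cfsg.charDegree χ := by
  obtain ⟨n, hn, h1⟩ := exists_degree_pos h
  rwa [charDegree_eq h1]

theorem charDegree_dvd_card [Finite G] {χ : G → ℂ} (h : Cfsg.IsIrrCharacter G χ) :
    Cfsg.charDegree χ ∣ Nat.card G := by
  have := Fintype.ofFinite G
  obtain ⟨n, hn⟩ := exists_degree (isCharacter_of_isIrr h)
  rw [charDegree_eq hn]
  exact degree_dvd_card h hn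

theorem charDegree_one : Cfsg.charDegree (fun _ : G => (1 : ℂ)) = 1 :=
  charDegree_eq (by simp)

theorem isIntegral_natCast (n : ℕ) : IsIntegral ℤ ((n : ℂ)) := by
  simpa using (isIntegral_algebraMap (R := ℤ) (A := ℂ) (x := (n : ℤ)))

theorem not_prime_pow_denom {p : ℕ} (hp : p.Prime) {e r : ℕ} (he : e ≠ 0) (hr : ¬ p ∣ r)
    (h : IsIntegral ℤ ((r : ℂ) / (p : ℂ) ^ e)) : False := by
  have h' : IsIntegral ℤ ((r : ℂ) / ((p ^ e : ℕ) : ℂ)) := by exact_mod_cast h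
  exact hr ((dvd_pow_self p he).trans (dvd_of_isIntegral_div (pow_ne_zero e hp.ne_zero) h'))

/-- If `∑ f χ / χ 1 = r / p ^ e` with all `f χ` integral and `p ∤ r`, then some degree is divisible
by `p ^ e`. -/
theorem exists_pow_dvd_degree [Finite G] [Fintype (Cfsg.IrrCharacter G)] {p : ℕ} (hp : p.Prime)
    (f : Cfsg.IrrCharacter G → ℂ) (hf : ∀ χ, IsIntegral ℤ (f χ)) {r e : ℕ} (hr : ¬ p ∣ r)
    (hsum : ∑ χ : Cfsg.IrrCharacter G, f χ / (χ : G → ℂ) 1 = (r : ℂ) / (p : ℂ) ^ e) :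
    ∃ χ : Cfsg.IrrCharacter G, p ^ e ∣ Cfsg.charDegree (χ : G → ℂ) := by
  by_contra hcon
  push Not at hcon
  have hN : Nat.card G ≠ 0 := Nat.card_pos.ne'
  rcases Nat.eq_zero_or_pos e with rfl | he
  · exact hcon ⟨_, isIrrCharacter_one⟩ (by simp)
  obtain ⟨e, rfl⟩ : ∃ k, e = k + 1 := ⟨e - 1, by omega⟩
  let s := ordCompl[p] (Nat.card G)
  let L := p ^ e * s
  have hdvd : ∀ χ : Cfsg.IrrCharacter G, Cfsg.charDegree (χ : G → ℂ) ∣ L := by
    intro χ
    have hd := charDegree_dvd_card χ.2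
    have hd0 := (charDegree_pos χ.2).ne'
    rw [← Nat.ordProj_mul_ordCompl_eq_self (Cfsg.charDegree (χ : G → ℂ)) p]
    refine Nat.mul_dvd_mul (Nat.pow_dvd_pow p ?_) (Nat.ordCompl_dvd_ordCompl_of_dvd hd p)
    by_contra hlt
    exact hcon χ ((Nat.pow_dvd_pow p (by omega)).trans (Nat.ordProj_dvd _ _))
  have hint : IsIntegral ℤ (∑ χ : Cfsg.IrrCharacter G, (L : ℂ) * (f χ / (χ : G → ℂ) 1)) := by
    refine IsIntegral.sum _ fun χ _ => ?_
    obtain ⟨k, hk⟩ := hdvd χ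
    have e0 : (L : ℂ) * (f χ / (χ : G → ℂ) 1) = (k : ℂ) * f χ := by
      rw [hk, Nat.cast_mul, coe_charDegree_irr]
      field_simp [irr_one_ne_zero χ.2]
    rw [e0]
    exact (isIntegral_natCast k).mul (hf χ)
  rw [← Finset.mul_sum, hsum] at hint
  refine not_prime_pow_denom hp one_ne_zero (r := s * r) ?_ ?_
  · rw [hp.dvd_mul]
    exact fun h => h.elim (Nat.not_dvd_ordCompl hp hN) hr
  · have hp0 : (p : ℂ) ≠ 0 := by exact_mod_cast hp.ne_zero
    convert hint using 1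
    simp only [L, Nat.cast_mul, Nat.cast_pow]
    field_simp
    ring

end CfsgLib.CharBlocks
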