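import Cfsg.Agent.Lib.CharNormal.Galois
import Mathlib.Analysis.SpecialFunctions.Log.Basic
import Mathlib.RingTheory.RootsOfUnity.Complex

/-!
# Siegel-type lower bounds from the inequality of arithmetic and geometric means

* `exists_int_of_fixed`: an algebraic integer fixed by all automorphisms of `ℂ` is in `ℤ`.
* `card_le_sum_of_galois`: nonzero nonnegative algebraic integers with Galois-invariant product
  have sum at least their number.
* `card_le_sum_normSq`: if `χ` is nowhere zero on `s`, and `s` is closed under coprime powers,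
  then `#s ≤ ∑ g ∈ s, |χ g|²`.
-/

namespace CfsgLib.CharBlocks

open CfsgLib.Char CfsgLib.CharNormal
open scoped ComplexConjugate

theorem exists_int_of_fixed {z : ℂ} (hint : IsIntegral ℤ z) (h : ∀ σ : ℂ ≃+* ℂ, σ z = z) :
    ∃ m : ℤ, z = m := by
  let L : IntermediateField ℚ ℂ := algebraicClosure ℚ ℂ
  haveI hL : IsAlgClosure ℚ L := algebraicClosure.isAlgClosure ℚ ℂ
  haveI : Normal ℚ L := IsAlgClosure.normal ℚ L
  haveI : Algebra.IsSeparable ℚ L := IsAlgClosure.separable ℚ L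
  let x : L := ⟨z, (mem_algebraicClosure_iff' ..).mpr hint.tower_top⟩
  have hxb : x ∈ (⊥ : Subalgebra ℚ L) := by
    by_contra hx
    obtain ⟨y, hne, hy⟩ := (notMem_iff_exists_ne_and_isConjRoot (Algebra.IsSeparable.isSeparable ℚ x)
      (Normal.splits inferInstance x)).mp hx
    obtain ⟨τ, hτ⟩ := hy.exists_algEquiv
    obtain ⟨σ, hσ⟩ := exists_ringEquiv_extend τ.toRingEquiv
    have h3 : τ x = x := Subtype.ext ((hσ x).symm.trans (h σ))
    exact hne (τ.injective (h3.trans hτ.symm))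
  obtain ⟨q, hq⟩ := Algebra.mem_bot.mp hxb
  have hq' : algebraMap ℚ ℂ q = z := congrArg (fun w : L => (w : ℂ)) hq
  rw [← hq'] at hint
  obtain ⟨m, hm⟩ := IsIntegrallyClosed.isIntegral_iff.mp
    ((isIntegral_algebraMap_iff (algebraMap ℚ ℂ).injective).mp hint)
  exact ⟨m, by rw [← hq', ← hm]; simp⟩

/-- Nonzero nonnegative algebraic integers with Galois-invariant product have sum at least their
number. -/
theorem card_le_sum_of_galois {α : Type*} (s : Finset α) (f : α → ℝ)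
    (hint : ∀ a ∈ s, IsIntegral ℤ ((f a : ℂ))) (hpos : ∀ a ∈ s, 0 < f a)
    (hgal : ∀ σ : ℂ ≃+* ℂ, σ (∏ a ∈ s, (f a : ℂ)) = ∏ a ∈ s, (f a : ℂ)) :
    (s.card : ℝ) ≤ ∑ a ∈ s, f a := by
  obtain ⟨m, hm⟩ := exists_int_of_fixed (IsIntegral.prod _ hint) hgal
  rw [← Complex.ofReal_prod] at hm
  have hm' : ∏ a ∈ s, f a = (m : ℝ) := by
    exact_mod_cast hm
  have h1 : (1 : ℝ) ≤ ∏ a ∈ s, f a := by
    have h0 : (0 : ℝ) < (m : ℝ) := hm' ▸ Finset.prod_pos hpos
    rw [hm']
    exact_mod_cast (show (1 : ℤ) ≤ m from by exact_mod_cast h0)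
  have h2 : 0 ≤ Real.log (∏ a ∈ s, f a) := Real.log_nonneg h1
  rw [Real.log_prod (fun a ha => (hpos a ha).ne')] at h2
  have h3 : ∑ a ∈ s, Real.log (f a) ≤ ∑ a ∈ s, (f a - 1) :=
    Finset.sum_le_sum fun a ha => Real.log_le_sub_one_of_pos (hpos a ha)
  rw [Finset.sum_sub_distrib, Finset.sum_const, nsmul_eq_mul, mul_one] at h3
  linarith

variable {G : Type*} [Group G] [Finite G]

/-- Every automorphism of `ℂ` acts on character values as a power map. -/
theorem exists_pow_galois (σ : ℂ ≃+* ℂ) :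
    ∃ k : ℕ, k.Coprime (Nat.card G) ∧ ∀ χ : G → ℂ, Cfsg.IsCharacter G χ → ∀ g : G,
      σ (χ g) = χ (g ^ k) := by
  have hn0 : Nat.card G ≠ 0 := Nat.card_pos.ne'
  have hζ := Complex.isPrimitiveRoot_exp (Nat.card G) hn0
  set ζ := Complex.exp (2 * Real.pi * Complex.I / (Nat.card G))
  have : NeZero (Nat.card G) := ⟨hn0⟩
  obtain ⟨k, -, hk, hkζ⟩ := hζ.isPrimitiveRoot_iff.mp (hζ.map_of_injective σ.injective)
  refine ⟨k, hk, fun χ hχ g => ringEquiv_char_apply (n := Nat.card G) (fun z hz => ?_) hχ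
    (orderOf_dvd_natCard g)⟩
  obtain ⟨i, -, rfl⟩ := hζ.eq_pow_of_pow_eq_one hz
  rw [map_pow, ← hkζ, ← pow_mul, ← pow_mul, mul_comm k i]

/-- If `χ` is nowhere zero on a set closed under coprime powers, its squared absolute values sum to
at least the size of the set. -/
theorem card_le_sum_normSq {χ : G → ℂ} (hχ : Cfsg.IsCharacter G χ) (s : Finset G)
    (hs : ∀ g ∈ s, ∀ k : ℕ, k.Coprime (Nat.card G) → g ^ k ∈ s) (hne : ∀ g ∈ s, χ g ≠ 0) :
    (s.card : ℝ) ≤ ∑ g ∈ s, Complex.normSq (χ g) := by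
  refine card_le_sum_of_galois s _ (fun g _ => ?_) (fun g hg => Complex.normSq_pos.mpr (hne g hg))
    (fun σ => ?_)
  · rw [Complex.normSq_eq_conj_mul_self, ← char_inv hχ]
    exact (char_isIntegral hχ _).mul (char_isIntegral hχ _)
  · obtain ⟨k, hk, hkσ⟩ := exists_pow_galois (G := G) σ
    have e : ∀ g : G, ((Complex.normSq (χ g) : ℝ) : ℂ) = χ g⁻¹ * χ g := fun g => by
      rw [Complex.normSq_eq_conj_mul_self, char_inv hχ]
    simp only [e, map_prod, map_mul, hkσ χ hχ, inv_pow]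
    let em : {g // g ∈ s} → {g // g ∈ s} := fun g => ⟨g.1 ^ k, hs _ g.2 k hk⟩
    have hem : Function.Bijective em := by
      refine Finite.injective_iff_bijective.mp fun a b hab => Subtype.ext ?_
      exact (powCoprime (G := G) (n := k) hk.symm).injective (congrArg Subtype.val hab)
    rw [← Finset.prod_coe_sort s (fun g => χ (g ^ k)⁻¹ * χ (g ^ k)),
      ← Finset.prod_coe_sort s (fun g => χ g⁻¹ * χ g)]
    exact Fintype.prod_equiv (Equiv.ofBijective em hem) _ _ (fun g => rfl)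

end CfsgLib.CharBlocks

namespace CfsgLib.CharBlocks

open CfsgLib.Char CfsgLib.CharNormal

variable {G : Type*} [Group G] [Finite G]

theorem char_pow_eq_zero_iff {χ : G → ℂ} (hχ : Cfsg.IsCharacter G χ) {k : ℕ}
    (hk : k.Coprime (Nat.card G)) (g : G) : χ (g ^ k) = 0 ↔ χ g = 0 := by
  obtain ⟨σ, hσ⟩ := exists_ringEquiv_root_pow (n := Nat.card G) Nat.card_pos.ne' hk
  rw [← ringEquiv_char_apply hσ hχ (orderOf_dvd_natCard g), map_eq_zero_iff σ σ.injective]

theorem mem_of_coprime_pow_mem {H : Subgroup G} {k : ℕ} (hk : k.Coprime (Nat.card G)) {g : G}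
    (h : g ^ k ∈ H) : g ∈ H := by
  obtain ⟨n, hn⟩ := exists_pow_eq_self_of_coprime
    (Nat.Coprime.coprime_dvd_right (orderOf_dvd_natCard g) hk)
  exact hn ▸ pow_mem h n

end CfsgLib.CharBlocks
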