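import Cfsg.Agent.Lib.Char.Ortho
import Cfsg.Agent.Lib.Char.Integral

/-!
# The class multiplication formula

* `sum_conj_mul`: `χ 1 * ∑ g, χ (g x g⁻¹ y) = |G| χ x χ y` for irreducible `χ`.
* `card_conj_mul_isConj`: `#{g | g x g⁻¹ y ~ z} * |C(z)| = |G| ∑ χ x χ y conj (χ z) / χ 1`.
-/

namespace CfsgLib.CharBlocks

open CfsgLib.Char
open scoped ComplexConjugate

variable {G : Type*} [Group G] [Fintype G]

/-- Averaging an irreducible character over a translate of a class. -/
theorem sum_conj_mul {χ : G → ℂ} (hχ : Cfsg.IsIrrCharacter G χ) (x y : G) :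
    χ 1 * ∑ g : G, χ (g * x * g⁻¹ * y) = (Nat.card G : ℂ) * χ x * χ y := by
  obtain ⟨n, ρ, hirr, rfl⟩ := hχ
  have hn := finrank_pos_of_irreducible ρ
  obtain ⟨ω, hω⟩ := exists_eq_smul_id ρ (∑ g : G, ρ (g * x * g⁻¹)) (fun a => by
    rw [← Module.End.mul_eq_comp, ← Module.End.mul_eq_comp, Finset.sum_mul, Finset.mul_sum]
    refine Fintype.sum_equiv (Equiv.mulLeft a⁻¹) _ _ fun g => ?_
    simp [← map_mul, mul_assoc])
  have h1 : (Nat.card G : ℂ) * ρ.character x = ω * ρ.character 1 := by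
    have := congrArg (LinearMap.trace ℂ (Fin n → ℂ)) hω
    rw [map_sum, map_smul] at this
    have e : ∀ g : G, LinearMap.trace ℂ (Fin n → ℂ) (ρ (g * x * g⁻¹)) = ρ.character x :=
      fun g => ρ.char_conj x g
    rw [Finset.sum_congr rfl (fun g _ => e g), Finset.sum_const, Finset.card_univ, nsmul_eq_mul,
      Nat.card_eq_fintype_card.symm] at this
    simpa [Representation.character] using this
  have h2 : ∑ g : G, ρ.character (g * x * g⁻¹ * y) = ω * ρ.character y := by
    have := congrArg (fun T => LinearMap.trace ℂ (Fin n → ℂ) (T * ρ y)) hω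
    simp only [Finset.sum_mul, map_sum, smul_mul_assoc, map_smul, smul_eq_mul] at this
    have e : (LinearMap.id : (Fin n → ℂ) →ₗ[ℂ] (Fin n → ℂ)) * ρ y = ρ y := rfl
    rw [e] at this
    simpa only [Representation.character, map_mul] using this
  rw [h2, h1]
  ring

theorem card_conj_mul_isConj (x y z : G) :
    (Nat.card {g : G // IsConj (g * x * g⁻¹ * y) z} : ℂ) *
        (Nat.card (Subgroup.centralizer ({z} : Set G)) : ℂ) =
      (Nat.card G : ℂ) *
        ∑ χ : Cfsg.IrrCharacter G,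
          (χ : G → ℂ) x * (χ : G → ℂ) y * conj ((χ : G → ℂ) z) / (χ : G → ℂ) 1 := by
  classical
  have h : ∀ g : G, ∑ χ : Cfsg.IrrCharacter G, (χ : G → ℂ) (g * x * g⁻¹ * y) * conj ((χ : G → ℂ) z)
      = if IsConj (g * x * g⁻¹ * y) z then
          (Nat.card (Subgroup.centralizer ({z} : Set G)) : ℂ) else 0 := by
    intro g
    rw [second_orthogonality]
    split_ifs with hc
    · have e1 := card_isConj_mul_card_centralizer (g * x * g⁻¹ * y)
      have e2 := card_isConj_mul_card_centralizer z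
      have e3 : Nat.card {w : G // IsConj (g * x * g⁻¹ * y) w} = Nat.card {w : G // IsConj z w} :=
        Nat.card_congr (Equiv.subtypeEquivRight fun w =>
          ⟨fun e => hc.symm.trans e, fun e => hc.trans e⟩)
      rw [e3] at e1
      have : Nonempty {w : G // IsConj z w} := ⟨⟨z, IsConj.refl z⟩⟩
      exact_mod_cast Nat.eq_of_mul_eq_mul_left Nat.card_pos (e1.trans e2.symm)
    · rfl
  have hs := Finset.sum_congr (s₁ := (Finset.univ : Finset G)) rfl (fun g _ => h g)
  rw [← Finset.sum_filter, Finset.sum_const, nsmul_eq_mul, ← Fintype.card_subtype,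
    ← Nat.card_eq_fintype_card, Finset.sum_comm] at hs
  rw [← hs, Finset.mul_sum]
  refine Finset.sum_congr rfl fun χ _ => ?_
  rw [← Finset.sum_mul]
  have hx := sum_conj_mul χ.2 x y
  field_simp [irr_one_ne_zero χ.2]
  linear_combination (conj ((χ : G → ℂ) z)) * hx

theorem sum_eq_zero_of_not_isConj {x y z : G} (h : ∀ g : G, ¬ IsConj (g * x * g⁻¹ * y) z) :
    ∑ χ : Cfsg.IrrCharacter G,
      (χ : G → ℂ) x * (χ : G → ℂ) y * conj ((χ : G → ℂ) z) / (χ : G → ℂ) 1 = 0 := by
  have h1 := card_conj_mul_isConj x y z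
  have : IsEmpty {g : G // IsConj (g * x * g⁻¹ * y) z} := ⟨fun g => h g.1 g.2⟩
  rw [Nat.card_of_isEmpty, Nat.cast_zero, zero_mul] at h1
  exact (mul_eq_zero.mp h1.symm).resolve_left card_ne_zero'

end CfsgLib.CharBlocks

namespace CfsgLib.CharBlocks

open CfsgLib.Char
open scoped ComplexConjugate

variable {G : Type*} [Group G] [Fintype G]

/-- Convolution of two irreducible characters. -/
theorem sum_mul_inv_mul [DecidableEq (Cfsg.IrrCharacter G)] (χ ψ : Cfsg.IrrCharacter G) (g : G) :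
    ∑ w : G, (χ : G → ℂ) w * (ψ : G → ℂ) (w⁻¹ * g) =
      if χ = ψ then (Nat.card G : ℂ) * (χ : G → ℂ) g / (χ : G → ℂ) 1 else 0 := by
  have hG := card_ne_zero' (G := G)
  apply mul_left_cancel₀ (mul_ne_zero hG (irr_one_ne_zero ψ.2))
  -- average over conjugates of `w`
  have hh : ∀ h : G, ∑ w : G, (χ : G → ℂ) w * (ψ : G → ℂ) (w⁻¹ * g) =
      ∑ w : G, (χ : G → ℂ) w * (ψ : G → ℂ) (h * w⁻¹ * h⁻¹ * g) := by
    intro h
    refine Fintype.sum_equiv (MulAut.conj h⁻¹).toEquiv _ _ fun w => ?_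
    show _ = (χ : G → ℂ) (h⁻¹ * w * h⁻¹⁻¹) * (ψ : G → ℂ) (h * (h⁻¹ * w * h⁻¹⁻¹)⁻¹ * h⁻¹ * g)
    rw [isClassFunction_of_isIrr χ.2 w h⁻¹]
    simp [mul_assoc]
  calc (Nat.card G : ℂ) * (ψ : G → ℂ) 1 * ∑ w : G, (χ : G → ℂ) w * (ψ : G → ℂ) (w⁻¹ * g)
      = (ψ : G → ℂ) 1 * ∑ h : G, ∑ w : G, (χ : G → ℂ) w * (ψ : G → ℂ) (h * w⁻¹ * h⁻¹ * g) := by
        rw [← Finset.sum_congr rfl (fun h _ => hh h), Finset.sum_const, Finset.card_univ,
          ← Nat.card_eq_fintype_card, nsmul_eq_mul]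
        ring
    _ = ∑ w : G, (χ : G → ℂ) w * ((Nat.card G : ℂ) * (ψ : G → ℂ) w⁻¹ * (ψ : G → ℂ) g) := by
        rw [Finset.sum_comm, Finset.mul_sum]
        refine Finset.sum_congr rfl fun w _ => ?_
        rw [← Finset.mul_sum, ← sum_conj_mul ψ.2]
        ring
    _ = (Nat.card G : ℂ) * (ψ : G → ℂ) g * ((Nat.card G : ℂ) * Cfsg.classInner (χ : G → ℂ) (ψ : G → ℂ)) := by
        rw [card_mul_classInner, Finset.mul_sum]
        refine Finset.sum_congr rfl fun w _ => ?_
        rw [char_inv (isCharacter_of_isIrr ψ.2)]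
        ring
    _ = _ := by
        rw [classInner_irrCharacter]
        by_cases e : χ = ψ
        · subst e
          simp only [if_true]
          field_simp [irr_one_ne_zero χ.2]
        · simp [e]

end CfsgLib.CharBlocks
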