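import Cfsg.Agent.Lib.Char.FrobeniusSchur
import Cfsg.Agent.Lib.Char.Induced

/-!
# The Frobenius–Schur indicator of an irreducible character and the square root count
-/

set_option autoImplicit false

noncomputable section

namespace CfsgLib.CharBlocks

open Cfsg CfsgLib.Char
open scoped ComplexConjugate

variable {G : Type*} [Group G] [Fintype G]

/-- The Frobenius–Schur indicator. -/
def fsInd (χ : G → ℂ) : ℂ := (Nat.card G : ℂ)⁻¹ * ∑ s : G, χ (s * s)

theorem fsInd_cases {χ : G → ℂ} (hχ : IsIrrCharacter G χ) :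
    ((∀ g, conj (χ g) = χ g) ∧ (fsInd χ = 1 ∨ fsInd χ = -1)) ∨
      (¬ (∀ g, conj (χ g) = χ g) ∧ fsInd χ = 0) := by
  obtain ⟨n, σ, hσ, rfl⟩ := hχ
  by_cases hreal : ∀ g, conj (σ.character g) = σ.character g
  · refine Or.inl ⟨hreal, ?_⟩
    rcases fsIndicator_of_real σ hreal with h | ⟨h, -⟩
    · exact Or.inl h
    · exact Or.inr h
  · exact Or.inr ⟨hreal, fsIndicator_of_not_real σ hreal⟩

theorem fsInd_ne_zero_iff {χ : G → ℂ} (hχ : IsIrrCharacter G χ) :
    fsInd χ ≠ 0 ↔ ∀ g, conj (χ g) = χ g := by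
  rcases fsInd_cases hχ with ⟨h, e | e⟩ | ⟨h, e⟩ <;> simp [h, e]

theorem conj_fsInd {χ : G → ℂ} (hχ : IsIrrCharacter G χ) : conj (fsInd χ) = fsInd χ := by
  rcases fsInd_cases hχ with ⟨-, e | e⟩ | ⟨-, e⟩ <;> simp [e]

theorem fsInd_irrOne : fsInd ((irrOne : IrrCharacter G) : G → ℂ) = 1 := by
  simp only [fsInd, irrOne_apply, Finset.sum_const, Finset.card_univ, nsmul_eq_mul, mul_one,
    ← Nat.card_eq_fintype_card]
  exact inv_mul_cancel₀ card_ne_zero'

/-- The number of square roots. -/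
theorem sum_fsInd_mul (g : G) [DecidableEq G] :
    ∑ χ : IrrCharacter G, fsInd (χ : G → ℂ) * (χ : G → ℂ) g =
      ((Finset.univ.filter fun s : G => s * s = g).card : ℂ) := by
  let f : G → ℂ := fun x => ((Finset.univ.filter fun s : G => s * s = x).card : ℂ)
  have hf : IsClassFunction G f := fun x c => by
    refine congrArg (Nat.cast : ℕ → ℂ) (Finset.card_bij (fun s _ => c⁻¹ * s * c) (fun s hs => ?_)
      (fun a _ b _ e => mul_left_cancel (mul_right_cancel e)) fun s hs => ?_)
    · simp only [Finset.mem_filter, Finset.mem_univ, true_and] at hs ⊢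
      calc c⁻¹ * s * c * (c⁻¹ * s * c) = c⁻¹ * (s * s) * c := by group
        _ = x := by rw [hs]; group
    · simp only [Finset.mem_filter, Finset.mem_univ, true_and] at hs ⊢
      exact ⟨c * s * c⁻¹, by rw [← hs]; group, by group⟩
  have hcoef : ∀ χ : IrrCharacter G, classInner f (χ : G → ℂ) = fsInd (χ : G → ℂ) := fun χ => by
    rw [← conj_fsInd χ.2, fsInd, map_mul, map_inv₀, map_natCast, map_sum, classInner_def,
      ← Finset.sum_fiberwise Finset.univ (fun s : G => s * s) (fun s => conj ((χ : G → ℂ) (s * s)))]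
    refine congrArg _ (Finset.sum_congr rfl fun x _ => ?_)
    rw [Finset.sum_congr rfl (fun s hs => by rw [(Finset.mem_filter.mp hs).2]), Finset.sum_const,
      nsmul_eq_mul]
  have h := congrFun (classFun_eq_sum hf) g
  simp only [Finset.sum_apply, Pi.smul_apply, smul_eq_mul, hcoef] at h
  exact h.symm

end CfsgLib.CharBlocks
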