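import Cfsg.Agent.Lib.Blocks.SecondMain
import Cfsg.Agent.Lib.Blocks.ThirdMain

/-!
# Columns of the principal block at `p`-elements

`∑_{χ ∈ B₀} χ(x) conj χ(y)` for `p`-elements `x`, `y`: zero unless conjugate, and then the sum of the
squared degrees in the principal block of the centralizer.
-/

set_option autoImplicit false

noncomputable section

namespace CfsgLib.CharBlocks

open Cfsg CfsgLib.Blocks
open scoped ComplexConjugate

variable {M : Ideal AlgInt} [M.IsMaximal] {G : Type*} [Group G] [Fintype G] {p : ℕ} [hp : Fact p.Prime]

/-- The principal block column at `x`, paired with itself. -/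
theorem principal_column_self (hM : IsPModular p M) {x : G} (hx : ∃ k : ℕ, orderOf x = p ^ k)
    [Fintype ↥(Subgroup.centralizer ({x} : Set G))]
    [DecidablePred (· ∈ principalBlock M G)]
    [DecidablePred (· ∈ principalBlock M ↥(Subgroup.centralizer ({x} : Set G)))] :
    ∑ χ : IrrCharacter G, (if χ ∈ principalBlock M G then
        (χ : G → ℂ) x * conj ((χ : G → ℂ) x) else 0) =
      ∑ ψ : IrrCharacter ↥(Subgroup.centralizer ({x} : Set G)),
        if ψ ∈ principalBlock M ↥(Subgroup.centralizer ({x} : Set G)) then
          (charDegree (ψ : ↥(Subgroup.centralizer ({x} : Set G)) → ℂ) : ℂ) ^ 2 else 0 := by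
  classical
  set H := Subgroup.centralizer ({x} : Set G)
  have hB : IsPBlock M (principalBlock M G) := by
    rw [principalBlock_eq]; exact isPBlock_blockOf _
  have hb : IsPBlock M (principalBlock M H) := by
    rw [principalBlock_eq]; exact isPBlock_blockOf _
  have h1 : ¬ p ∣ orderOf (1 : H) := by rw [orderOf_one]; exact hp.out.not_dvd_one
  let _ := Fintype.ofFinite {b : Set (IrrCharacter H) // IsPBlock M b}
  have hsec : ∀ χ : IrrCharacter G,
      (if χ ∈ principalBlock M G then (χ : G → ℂ) x else 0) =
        ∑ k : H, blockCoeff (principalBlock M H) k * (χ : G → ℂ) (x * (k : G)) := by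
    intro χ
    have h := sum_inducing hM hx hB χ (y := (1 : H)) h1
    simp only [Subgroup.coe_one, mul_one] at h
    rw [← h, Finset.sum_eq_single ⟨principalBlock M H, hb⟩]
    · rw [if_pos ((third_main hM (exists_inducedBlock_centralizer hM hx hb)).mpr rfl),
        ← sum_blockCoeff_mul hb
          (isClassFunction_shift (CfsgLib.Char.isClassFunction_of_isIrr χ.2))]
      exact Finset.sum_congr rfl fun k _ => by rw [mul_one]
    · intro b _ hne
      exact if_neg fun hi => hne (Subtype.ext ((third_main hM ⟨_, hi⟩).mp hi))
    · simp
  calc ∑ χ : IrrCharacter G, (if χ ∈ principalBlock M G then (χ : G → ℂ) x * conj ((χ : G → ℂ) x) else 0)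
      = ∑ k : H, blockCoeff (principalBlock M H) k *
          ∑ χ : IrrCharacter G, (χ : G → ℂ) (x * (k : G)) * conj ((χ : G → ℂ) x) := by
        simp only [Finset.mul_sum, ← mul_assoc]
        rw [Finset.sum_comm]
        refine Finset.sum_congr rfl fun χ _ => ?_
        rw [← Finset.sum_mul, ← hsec χ]
        split_ifs <;> simp
    _ = blockCoeff (principalBlock M H) (1 : H) * (Nat.card H : ℂ) := by
        rw [Finset.sum_eq_single (1 : H)]
        · rw [Subgroup.coe_one, mul_one, CfsgLib.Char.second_orthogonality, if_pos (IsConj.refl x)]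
        · intro k _ hk
          by_cases hp' : p ∣ orderOf k
          · rw [blockCoeff_eq_zero hM hb hp', zero_mul]
          · rw [CfsgLib.Char.second_orthogonality, if_neg, mul_zero]
            intro hcj
            obtain ⟨g, hg⟩ := isConj_iff.mp hcj
            have hpart : IsPPart p (x * (k : G)) x :=
              isPPart_mul (commute_of_mem_centralizer k) hx (by rwa [Subgroup.orderOf_coe])
            have h3 := isPPart_conj hpart g
            rw [hg] at h3
            have hgx : g * x * g⁻¹ = x := isPPart_unique h3 (isPPart_self hp.out hx)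
            refine hk (Subtype.ext ?_)
            have h2 : g * (x * (k : G)) * g⁻¹ = g * x * g⁻¹ := hg.trans hgx.symm
            simpa using h2
        · simp
    _ = _ := by
        rw [blockCoeff_eq, mul_comm, ← mul_assoc,
          mul_inv_cancel₀ (CfsgLib.Char.card_ne_zero' (G := H)), one_mul]
        refine Finset.sum_congr rfl fun ψ _ => ?_
        split_ifs
        · rw [CfsgLib.Char.char_conj_one (CfsgLib.Char.isCharacter_of_isIrr ψ.2),
            CfsgLib.Blocks.charDegree_eq (CfsgLib.Char.isCharacter_of_isIrr ψ.2), sq]
        · rfl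

/-- Principal block column orthogonality at `p`-elements. -/
theorem principal_column_ne (hM : IsPModular p M) {x y : G} (hx : ∃ k : ℕ, orderOf x = p ^ k)
    (hy : ∃ k : ℕ, orderOf y = p ^ k) (hne : ¬ IsConj x y) [DecidablePred (· ∈ principalBlock M G)] :
    ∑ χ : IrrCharacter G, (if χ ∈ principalBlock M G then
        (χ : G → ℂ) x * conj ((χ : G → ℂ) y) else 0) = 0 :=
  block_orthogonality hM (isPPart_self hp.out hx) (isPPart_self hp.out hy) hne
    (by rw [principalBlock_eq]; exact isPBlock_blockOf _)

end CfsgLib.CharBlocks
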