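import Cfsg.Prelude.Def_DegreeGraph
import Cfsg.Agent.Lib.Char.Extension
import Cfsg.Agent.Lib.Char.PResidualSum
import Cfsg.Agent.Lib.CharNormal.Clifford
import Cfsg.Agent.Lib.CharNormal.Gallagher
import Cfsg.Agent.Lib.CharBlocks.Degree
import Mathlib.GroupTheory.PGroup
import Mathlib.RingTheory.RootsOfUnity.AlgebraicallyClosed
import Mathlib.GroupTheory.FiniteAbelian.Duality
import Mathlib.Analysis.Complex.Polynomial.Basic
import Mathlib.Combinatorics.SimpleGraph.Connectivity.Connected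
import Mathlib.Combinatorics.SimpleGraph.Maps

/-!
# The common-divisor graph on relative character degrees

For `N ≤ G'` and a prime `q`, either the graph on `cd(G|N)` is connected, or some linear character of
`q`-power order of `N` is a hub reached from every degree prime to `q`.

* `dHom`, `dHom_add`, `dHom_mul_lin`, `det_orbit`: determinants of restricted characters;
* `Linked`, `dichotomy`, `linked_of_two`.
-/

set_option autoImplicit false

namespace CfsgLib.CharBlocks.RelGraph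

open CfsgLib.Char CfsgLib.CharNormal

attribute [-instance] MonoidHom.instPow MonoidHom.mul MonoidHom.instInv instOneMonoidHom

theorem hpow_apply {A : Type*} [Group A] (f : A →* ℂˣ) (k : ℕ) (a : A) : (f ^ k) a = f a ^ k := rfl

theorem hmul_apply {A : Type*} [Group A] (f f' : A →* ℂˣ) (a : A) : (f * f') a = f a * f' a := rfl

theorem hmul_one {A : Type*} [Group A] (f : A →* ℂˣ) : f * 1 = f := MonoidHom.ext fun a => mul_one (f a)

theorem hinv_apply {A : Type*} [Group A] (f : A →* ℂˣ) (a : A) : f⁻¹ a = (f a)⁻¹ := rfl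

section Det

variable {H : Type*} [Group H] [Finite H]

open Classical in
/-- The determinant homomorphism of a character, `1` for non-characters. -/
noncomputable def dHom (χ : H → ℂ) : H →* ℂˣ :=
  if h : Cfsg.IsCharacter H χ then detHom h.choose_spec.choose else 1

theorem dHom_apply {χ : H → ℂ} (hχ : Cfsg.IsCharacter H χ) (g : H) :
    (dHom χ g : ℂ) = Cfsg.detChar χ g := by
  rw [dHom, dif_pos hχ, detHom_apply]
  conv_rhs => rw [← hχ.choose_spec.choose_spec, detChar_eq]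

theorem dHom_char {n : ℕ} (ρ : Representation ℂ H (Fin n → ℂ)) : dHom ρ.character = detHom ρ :=
  MonoidHom.ext fun g => Units.ext (by rw [dHom_apply ⟨n, ρ, rfl⟩, detChar_eq, detHom_apply])

theorem dHom_char' {V : Type*} [AddCommGroup V] [Module ℂ V] [FiniteDimensional ℂ V]
    (ρ : Representation ℂ H V) : dHom ρ.character = detHom ρ := by
  rw [← character_transport ρ (Module.finBasis ℂ V).equivFun, dHom_char]
  refine MonoidHom.ext fun g => Units.ext ?_
  rw [detHom_apply, detHom_apply]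
  exact LinearMap.det_conj (ρ g) (Module.finBasis ℂ V).equivFun

theorem dHom_add {χ ψ : H → ℂ} (hχ : Cfsg.IsCharacter H χ) (hψ : Cfsg.IsCharacter H ψ) :
    dHom (χ + ψ) = dHom χ * dHom ψ := by
  obtain ⟨n, ρ, rfl⟩ := hχ
  obtain ⟨m, σ, rfl⟩ := hψ
  have h : (ρ.prod σ).character = ρ.character + σ.character :=
    funext fun g => LinearMap.trace_prodMap' (ρ g) (σ g)
  rw [← h, dHom_char', dHom_char, dHom_char]
  exact MonoidHom.ext fun g => Units.ext (LinearMap.det_prodMap (ρ g) (σ g))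

theorem dHom_mul_lin {χ : H → ℂ} (hχ : Cfsg.IsCharacter H χ) {d : ℕ} (hd : χ 1 = (d : ℂ)) (f : H →* ℂˣ) :
    dHom (χ * linFun f) = f ^ d * dHom χ := by
  obtain ⟨n, ρ, rfl⟩ := hχ
  obtain rfl : n = d := by simpa using hd
  rw [← twist_character, dHom_char, dHom_char, detHom_twist]

theorem linFun_isIrr (f : H →* ℂˣ) : Cfsg.IsIrrCharacter H (linFun f) := isIrrCharacter_units_hom f

theorem linFun_one_apply (f : H →* ℂˣ) : linFun f 1 = 1 := by
  simp [linFun_apply]

theorem dHom_linFun (f : H →* ℂˣ) : dHom (linFun f) = f :=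
  MonoidHom.ext fun g => Units.ext (by
    rw [dHom_apply (isCharacter_of_isIrr (linFun_isIrr f)), detChar_linFun, linFun_apply])

theorem dHom_zero : dHom (0 : H → ℂ) = 1 := by
  have h0 : Cfsg.IsCharacter H (0 : H → ℂ) := by
    refine ⟨0, { toFun := fun _ => 1, map_one' := rfl, map_mul' := fun _ _ => (one_mul 1).symm }, funext fun g => ?_⟩
    simp [Representation.character]
  have h := dHom_add h0 h0
  rw [add_zero] at h
  refine MonoidHom.ext fun g => ?_
  have hg := DFunLike.congr_fun h g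
  rw [hmul_apply] at hg
  exact left_eq_mul.1 hg

theorem dHom_sum {ι : Type*} (s : Finset ι) (f : ι → H → ℂ) (hf : ∀ i ∈ s, Cfsg.IsCharacter H (f i)) :
    Cfsg.IsCharacter H (∑ i ∈ s, f i) ∧ dHom (∑ i ∈ s, f i) = ∏ i ∈ s, dHom (f i) := by
  classical
  induction s using Finset.induction_on with
  | empty =>
    refine ⟨?_, by simp [dHom_zero]⟩
    refine ⟨0, { toFun := fun _ => 1, map_one' := rfl, map_mul' := fun _ _ => (one_mul 1).symm }, funext fun g => ?_⟩
    simp [Representation.character]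
  | insert a s ha ih =>
    obtain ⟨h1, h2⟩ := ih fun i hi => hf i (Finset.mem_insert_of_mem hi)
    rw [Finset.sum_insert ha, Finset.prod_insert ha]
    have ha' := hf a (Finset.mem_insert_self a s)
    exact ⟨isCharacter_add ha' h1, by rw [dHom_add ha' h1, h2]⟩

theorem hom_pow_card (f : H →* ℂˣ) : f ^ Nat.card H = 1 :=
  MonoidHom.ext fun g => by rw [hpow_apply, ← map_pow, pow_card_eq_one', map_one]; rfl

end Det

section Normal

variable {G : Type*} [Group G] [Fintype G] {N : Subgroup G} [hN : N.Normal] [Fintype N]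

/-- Conjugation of linear characters. -/
def cjHom (g : G) (f : N →* ℂˣ) : N →* ℂˣ := f.comp (MulAut.conjNormal g).toMonoidHom

omit [Fintype G] [Fintype N] in
theorem cjHom_apply (g : G) (f : N →* ℂˣ) (n : N) :
    cjHom g f n = f ⟨g * n * g⁻¹, hN.conj_mem (n : G) n.2 g⟩ := rfl

omit [Fintype G] [Fintype N] in
theorem cjHom_mul (g : G) (f f' : N →* ℂˣ) : cjHom g (f * f') = cjHom g f * cjHom g f' := rfl

omit [Fintype G] [Fintype N] in
theorem cjHom_pow (g : G) (f : N →* ℂˣ) (k : ℕ) : cjHom g (f ^ k) = cjHom g f ^ k := rfl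

omit [Fintype G] [Fintype N] in
theorem cjHom_one' (g : G) : cjHom g (1 : N →* ℂˣ) = 1 := rfl

omit [Fintype G] [Fintype N] in
theorem cjHom_comp (a b : G) (f : N →* ℂˣ) : cjHom a (cjHom b f) = cjHom (b * a) f :=
  MonoidHom.ext fun n => congrArg f (Subtype.ext (by simp [mul_assoc]))

omit [Fintype G] [Fintype N] in
theorem cjHom_id (f : N →* ℂˣ) : cjHom (1 : G) f = f :=
  MonoidHom.ext fun n => congrArg f (Subtype.ext (by simp [MulAut.conjNormal_apply]))

omit [Fintype G] [Fintype N] in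
theorem cjHom_injective (g : G) : Function.Injective (cjHom (N := N) g) := fun f f' h => by
  have := congrArg (cjHom g⁻¹) h
  rwa [cjHom_comp, cjHom_comp, mul_inv_cancel, cjHom_id, cjHom_id] at this

omit [Fintype G] [Fintype N] in
theorem conjFun_linFun (g : G) (f : N →* ℂˣ) : conjFun N g (linFun f) = linFun (cjHom g f) :=
  funext fun n => by rw [conjFun_apply, linFun_apply, linFun_apply, cjHom_apply]

omit [Fintype G] in
theorem dHom_conjFun {θ : N → ℂ} (hθ : Cfsg.IsCharacter N θ) (g : G) :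
    dHom (conjFun N g θ) = cjHom g (dHom θ) := by
  obtain ⟨d, ρ, rfl⟩ := hθ
  let ρ' : Representation ℂ N (Fin d → ℂ) := ρ.comp (MulAut.conjNormal (H := N) g).toMonoidHom
  have h : conjFun N g ρ.character = ρ'.character := funext fun n => rfl
  rw [h, dHom_char, dHom_char]
  exact MonoidHom.ext fun n => Units.ext rfl

/-- The stabiliser of a linear character. -/
noncomputable def stab (f : N →* ℂˣ) : Subgroup G := inertia N (linFun f)

omit [Fintype G] [Fintype N] in
theorem mem_stab {g : G} {f : N →* ℂˣ} : g ∈ stab f ↔ cjHom g f = f := by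
  rw [stab, mem_inertia, conjFun_linFun]
  exact ⟨fun h => linFun_injective h, fun h => by rw [h]⟩

omit [Fintype G] [Fintype N] in
theorem stab_le_pow (f : N →* ℂˣ) (k : ℕ) : stab (G := G) f ≤ stab (f ^ k) := fun g hg => by
  rw [mem_stab] at hg ⊢
  rw [cjHom_pow, hg]

omit [Fintype G] [Fintype N] in
theorem stab_inf_le_mul (f f' : N →* ℂˣ) : stab (G := G) f ⊓ stab f' ≤ stab (f * f') := fun g hg => by
  rw [mem_stab, cjHom_mul, mem_stab.1 hg.1, mem_stab.1 hg.2]

omit [Fintype G] [Fintype N] in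
theorem stab_inf_le_right (f f' : N →* ℂˣ) : stab (G := G) f ⊓ stab (f * f') ≤ stab f' := fun g hg => by
  have h := mem_stab.1 hg.2
  rw [cjHom_mul, mem_stab.1 hg.1] at h
  exact mem_stab.2 (mul_left_cancel h)

omit [Fintype G] [Fintype N] in
theorem stab_one : stab (G := G) (1 : N →* ℂˣ) = ⊤ :=
  top_le_iff.1 fun g _ => mem_stab.2 (cjHom_one' g)

/-- `x` is a power of `x ^ k` when `k` is prime to an exponent of `x`. -/
theorem exists_pow_inv {A : Type*} [Monoid A] {x : A} {k m : ℕ} (hx : x ^ m = 1) (hk : Nat.Coprime k m) :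
    ∃ y : ℕ, (x ^ k) ^ y = x := by
  rcases Nat.lt_or_ge m 2 with hm | hm
  · interval_cases m
    · rw [Nat.coprime_zero_right] at hk; subst hk; exact ⟨1, by rw [pow_one, pow_one]⟩
    · rw [pow_one] at hx; exact ⟨1, by rw [hx, one_pow, one_pow]⟩
  · obtain ⟨y, -, hy⟩ := Nat.exists_mul_mod_eq_one_of_coprime hk hm
    refine ⟨y, ?_⟩
    rw [← pow_mul, ← Nat.mod_add_div (k * y) m, hy, pow_add, pow_mul, hx, one_pow, mul_one, pow_one]

omit [Fintype G] [Fintype N] in
theorem stab_pow_eq {f : N →* ℂˣ} {k m : ℕ} (hf : f ^ m = 1) (hk : Nat.Coprime k m) :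
    stab (G := G) (f ^ k) = stab f := by
  obtain ⟨y, hy⟩ := exists_pow_inv (A := N →* ℂˣ) hf hk
  refine le_antisymm ((stab_le_pow (f ^ k) y).trans_eq ?_) (stab_le_pow f k)
  rw [hy]

variable (G N) in
/-- Two degrees in `cd(G|N)` joined by a path. -/
def Linked (a b : ℕ) : Prop :=
  ∃ (ha : a ∈ Cfsg.relCharDegrees N) (hb : b ∈ Cfsg.relCharDegrees N),
    (Cfsg.commonDivisorGraph.induce (Cfsg.relCharDegrees N)).Reachable ⟨a, ha⟩ ⟨b, hb⟩

omit [Fintype G] [Fintype N] in
theorem Linked.trans' {a b c : ℕ} (h : Linked G N a b) (h' : Linked G N b c) : Linked G N a c :=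
  let ⟨ha, _, h1⟩ := h
  let ⟨_, hc, h2⟩ := h'
  ⟨ha, hc, h1.trans h2⟩

omit [Fintype G] [Fintype N] in
theorem Linked.symm' {a b : ℕ} (h : Linked G N a b) : Linked G N b a :=
  let ⟨ha, hb, h1⟩ := h
  ⟨hb, ha, h1.symm⟩

omit [Fintype G] [Fintype N] in
theorem linked_of_dvd {a b r : ℕ} (ha : a ∈ Cfsg.relCharDegrees N) (hb : b ∈ Cfsg.relCharDegrees N)
    (hr : 1 < r) (h1 : r ∣ a) (h2 : r ∣ b) : Linked G N a b := by
  refine ⟨ha, hb, ?_⟩
  by_cases hab : a = b
  · subst hab; rfl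
  · refine SimpleGraph.Adj.reachable ⟨hab, lt_of_lt_of_le hr (Nat.le_of_dvd ?_ (Nat.dvd_gcd h1 h2))⟩
    obtain ⟨χ, -, rfl⟩ := ha
    exact Nat.gcd_pos_of_pos_left _ (charDegree_pos χ.2)

/-- The degree `d` is afforded over `θ`. -/
def Over (θ : Cfsg.IrrCharacter N) (d : ℕ) : Prop :=
  ∃ χ : Cfsg.IrrCharacter G, Cfsg.classInner (fun n : N => (χ : G → ℂ) n) (θ : N → ℂ) ≠ 0 ∧
    Cfsg.charDegree (χ : G → ℂ) = d

theorem exists_over (θ : Cfsg.IrrCharacter N) : ∃ d, Over (G := G) θ d :=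
  let ⟨χ, hχ⟩ := exists_irr_over N θ.2
  ⟨_, χ, hχ, rfl⟩

theorem Over.mem {θ : Cfsg.IrrCharacter N} {d : ℕ} (h : Over (G := G) θ d)
    (hne : (θ : N → ℂ) ≠ fun _ => 1) : d ∈ Cfsg.relCharDegrees N := by
  obtain ⟨χ, hχ, rfl⟩ := h
  refine ⟨χ, ?_, rfl⟩
  by_contra hall
  push Not at hall
  apply hχ
  have h1 : (fun n : N => (χ : G → ℂ) n) =
      (χ : G → ℂ) 1 • ((irrOne : Cfsg.IrrCharacter N) : N → ℂ) := funext fun n => by
    simp [irrOne_apply, hall n n.2]
  rw [h1, classInner_smul_left, classInner_irr_ne (irrOne : Cfsg.IrrCharacter N).2 θ.2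
    (fun e => hne (e.symm.trans rfl)), mul_zero]

theorem Over.degree {θ : Cfsg.IrrCharacter N} {d : ℕ} (h : Over (G := G) θ d) {m : ℕ}
    (hm : (θ : N → ℂ) 1 = (m : ℂ)) :
    ∃ e : ℕ, d = e * (inertia N (θ : N → ℂ)).index * m := by
  obtain ⟨χ, hχ, rfl⟩ := h
  obtain ⟨e, he⟩ := classInner_char_nat (isCharacter_res N (isCharacter_of_isIrr χ.2))
    (isCharacter_of_isIrr θ.2)
  refine ⟨e, ?_⟩
  have hd := degree_eq_mul_card_orbit N χ.2 θ hχ
  rw [he, card_orbit_eq_index, hm, ← coe_charDegree_irr χ] at hd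
  exact_mod_cast hd

/-- The determinant of the restriction is trivial for `N ≤ G'`. -/
theorem det_orbit (hNG : N ≤ commutator G) {θ : Cfsg.IrrCharacter N} {d : ℕ} (h : Over (G := G) θ d)
    {m : ℕ} (hm : (θ : N → ℂ) 1 = (m : ℂ)) :
    ∃ e : ℕ, d = e * (orbit N θ).card * m ∧ (∏ ψ ∈ orbit N θ, dHom (ψ : N → ℂ)) ^ e = 1 := by
  classical
  obtain ⟨χ, hχ, rfl⟩ := h
  obtain ⟨e, he⟩ := classInner_char_nat (isCharacter_res N (isCharacter_of_isIrr χ.2))
    (isCharacter_of_isIrr θ.2)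
  have hd := degree_eq_mul_card_orbit N χ.2 θ hχ
  rw [he, hm, ← coe_charDegree_irr χ] at hd
  refine ⟨e, by exact_mod_cast hd, ?_⟩
  have hres := res_eq_smul_sum_orbit N χ.2 θ hχ
  rw [he] at hres
  have hres' : (fun n : N => (χ : G → ℂ) n) = ∑ j ∈ Finset.range e, ∑ ψ ∈ orbit N θ, (ψ : N → ℂ) := by
    rw [hres, Finset.sum_const, Finset.card_range, Nat.cast_smul_eq_nsmul]
  have hps := dHom_sum (orbit N θ) (fun ψ => (ψ : N → ℂ)) fun ψ _ => isCharacter_of_isIrr ψ.2
  have he' := dHom_sum (Finset.range e) (fun _ => ∑ ψ ∈ orbit N θ, (ψ : N → ℂ)) fun _ _ => hps.1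
  rw [← hres', Finset.prod_const, Finset.card_range, hps.2] at he'
  rw [← he'.2]
  -- the determinant of `χ` kills `G'`
  obtain ⟨n, ρ, hρ⟩ := isCharacter_of_isIrr χ.2
  have hN' : (fun x : N => (χ : G → ℂ) x) =
      (Representation.character (ρ.comp N.subtype : Representation ℂ N (Fin n → ℂ))) := funext fun x => by
    rw [← hρ]; rfl
  rw [hN', dHom_char]
  refine MonoidHom.ext fun x => ?_
  exact (Abelianization.commutator_subset_ker (detHom ρ)) (hNG x.2)

variable {q : ℕ}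

/-- `f` has `q`-power order. -/
def IsQ (q : ℕ) (f : N →* ℂˣ) : Prop := ∃ k, f ^ q ^ k = 1

omit [Fintype G] [hN : N.Normal] [Fintype N] in
theorem IsQ.mul {f f' : N →* ℂˣ} (h : IsQ q f) (h' : IsQ q f') : IsQ q (f * f') := by
  obtain ⟨k, hk⟩ := h
  obtain ⟨l, hl⟩ := h'
  refine ⟨k + l, ?_⟩
  rw [mul_pow, pow_add, pow_mul, hk, one_pow, one_mul, mul_comm (q ^ k), pow_mul, hl, one_pow]

/-- A linear character of `q`-power order with orbit of length prime to `q` and greater than one. -/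
def IsHub (G : Type*) [Group G] (N : Subgroup G) [N.Normal] (q : ℕ) (l : N →* ℂˣ) : Prop :=
  IsQ q l ∧ l ≠ 1 ∧ ¬ q ∣ (stab (G := G) l).index ∧ (stab (G := G) l).index ≠ 1

/-- The linear character as an irreducible character. -/
noncomputable def lin (l : N →* ℂˣ) : Cfsg.IrrCharacter N := ⟨linFun l, linFun_isIrr l⟩

theorem lin_ne_one {l : N →* ℂˣ} (hl : l ≠ 1) : ((lin l : Cfsg.IrrCharacter N) : N → ℂ) ≠ fun _ => 1 :=
  fun h => hl (linFun_injective (h.trans (funext fun n => by simp [linFun_apply])))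

theorem over_lin_index {l : N →* ℂˣ} {d : ℕ} (h : Over (G := G) (lin l) d) : (stab (G := G) l).index ∣ d := by
  obtain ⟨e, he⟩ := h.degree (m := 1) (by simp [lin, linFun_one_apply])
  exact ⟨e, by rw [he, mul_one, mul_comm]; rfl⟩

theorem linked_over_same {l : N →* ℂˣ} (hl : IsHub G N q l) {d d' : ℕ} (h : Over (G := G) (lin l) d)
    (h' : Over (G := G) (lin l) d') : Linked G N d d' :=
  linked_of_dvd (h.mem (lin_ne_one hl.2.1)) (h'.mem (lin_ne_one hl.2.1))
    (Nat.one_lt_iff_ne_zero_and_ne_one.2 ⟨Subgroup.index_ne_zero_of_finite, hl.2.2.2⟩)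
    (over_lin_index h) (over_lin_index h')

theorem linked_over_gcd {l l' : N →* ℂˣ} (hl : l ≠ 1) (hl' : l' ≠ 1) {d d' : ℕ}
    (h : Over (G := G) (lin l) d) (h' : Over (G := G) (lin l') d')
    (hg : ¬ Nat.Coprime (stab (G := G) l).index (stab (G := G) l').index) : Linked G N d d' := by
  obtain ⟨r, hr, h1, h2⟩ := Nat.Prime.not_coprime_iff_dvd.1 hg
  exact linked_of_dvd (h.mem (lin_ne_one hl)) (h'.mem (lin_ne_one hl')) hr.one_lt
    (h1.trans (over_lin_index h)) (h2.trans (over_lin_index h'))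

omit [Fintype N] in
/-- For coprime orbit lengths the orbit of a product is never coprime to either. -/
theorem not_coprime_stab_mul (hq : q.Prime) {a b : N →* ℂˣ} (ha : IsQ q a)
    (ha1 : (stab (G := G) a).index ≠ 1) (hqb : ¬ q ∣ (stab (G := G) b).index)
    (hab : Nat.Coprime (stab (G := G) a).index (stab (G := G) b).index) :
    ¬ Nat.Coprime (stab (G := G) (a * b)).index (stab (G := G) a).index := by
  classical
  intro hc
  set A := stab (G := G) a
  set B := stab (G := G) b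
  set C := stab (G := G) (a * b)
  have hAB : (A ⊓ B).index = A.index * B.index := le_antisymm Subgroup.index_inf_le
    (Nat.le_of_dvd (Nat.pos_of_ne_zero Subgroup.index_ne_zero_of_finite)
      (hab.mul_dvd_of_dvd_of_dvd (Subgroup.index_dvd_of_le inf_le_left) (Subgroup.index_dvd_of_le inf_le_right)))
  have hrel : B.relIndex A = B.index := by
    have h := Subgroup.relIndex_mul_index (inf_le_left : A ⊓ B ≤ A)
    rw [Subgroup.inf_relIndex_left, hAB, mul_comm A.index] at h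
    exact Nat.eq_of_mul_eq_mul_right (Nat.pos_of_ne_zero Subgroup.index_ne_zero_of_finite) h
  have hCB : C.index ∣ B.index :=
    hc.dvd_of_dvd_mul_left (hAB ▸ Subgroup.index_dvd_of_le (stab_inf_le_mul a b))
  -- the stabiliser of `a` is transitive on the conjugates of `b`
  have htrans : ∀ g : G, ∃ s ∈ A, ∃ t ∈ B, t * s = g := by
    intro g
    have h1 : Nat.card (A ⧸ B.subgroupOf A) = Nat.card (G ⧸ B) := by
      rw [← Subgroup.index_eq_card, ← Subgroup.index_eq_card]; exact hrel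
    let f : A ⧸ B.subgroupOf A → G ⧸ B := Quotient.lift (fun s : A => ((s : G) : G ⧸ B))
      (fun s s' h => QuotientGroup.eq.2 (by
        replace h := Subgroup.mem_subgroupOf.1 (QuotientGroup.leftRel_apply.1 h)
        simpa using h))
    have hf : Function.Injective f := by
      intro u v
      induction u using QuotientGroup.induction_on with
      | _ s =>
        induction v using QuotientGroup.induction_on with
        | _ s' =>
          intro h
          rw [QuotientGroup.eq, Subgroup.mem_subgroupOf]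
          have h' : (((s : G)) : G ⧸ B) = ((s' : G) : G ⧸ B) := h
          simpa using QuotientGroup.eq.1 h'
    obtain ⟨u, hu⟩ := ((Nat.bijective_iff_injective_and_card f).2 ⟨hf, h1⟩).2 ((g⁻¹ : G) : G ⧸ B)
    induction u using QuotientGroup.induction_on with
    | _ s =>
      have h' : (((s : G)) : G ⧸ B) = ((g⁻¹ : G) : G ⧸ B) := hu
      refine ⟨(s : G)⁻¹, A.inv_mem s.2, g * (s : G), ?_, by group⟩
      have h2 := B.inv_mem (QuotientGroup.eq.1 h')
      simpa using h2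
  have hshift : ∀ g : G, ∃ s : G, cjHom s a = a ∧ cjHom s b = cjHom g b := by
    intro g
    obtain ⟨s, hs, t, ht, rfl⟩ := htrans g
    exact ⟨s, mem_stab.1 hs, by rw [← cjHom_comp s t, mem_stab.1 ht]⟩
  have hpair : ∀ g g' : G, ∃ h : G, cjHom h a = cjHom g a ∧ cjHom h b = cjHom g' b := by
    intro g g'
    obtain ⟨s, hs1, hs2⟩ := hshift (g' * g⁻¹)
    refine ⟨s * g, by rw [← cjHom_comp g s, hs1], ?_⟩
    rw [← cjHom_comp g s, hs2, cjHom_comp, inv_mul_cancel_right]
  let O : (N →* ℂˣ) → Set (N →* ℂˣ) := fun f => Set.range fun g : G => cjHom g f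
  have hfin : ∀ f, (O f).Finite := fun f => Set.finite_range _
  have hcard : ∀ f : N →* ℂˣ, (O f).ncard = (stab (G := G) f).index := by
    intro f
    rw [Subgroup.index_eq_card, ← Nat.card_coe_set_eq]
    symm
    refine Nat.card_eq_of_bijective (fun x : G ⧸ stab f => ⟨cjHom (Quotient.out x)⁻¹ f, ⟨_, rfl⟩⟩) ⟨?_, ?_⟩
    · intro x y h
      have h1 : cjHom (Quotient.out x)⁻¹ f = cjHom (Quotient.out y)⁻¹ f := congrArg Subtype.val h
      have h2 := congrArg (cjHom (Quotient.out y)) h1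
      rw [cjHom_comp, cjHom_comp, inv_mul_cancel, cjHom_id] at h2
      rw [← QuotientGroup.out_eq' x, ← QuotientGroup.out_eq' y, QuotientGroup.eq]
      exact mem_stab.2 h2
    · rintro ⟨_, g, rfl⟩
      refine ⟨((g⁻¹ : G) : G ⧸ stab f), Subtype.ext ?_⟩
      obtain ⟨w, hw⟩ := QuotientGroup.mk_out_eq_mul (stab f) g⁻¹
      show cjHom (Quotient.out ((g⁻¹ : G) : G ⧸ stab f))⁻¹ f = cjHom g f
      rw [hw, mul_inv_rev, inv_inv, ← cjHom_comp g, mem_stab.1 ((stab f).inv_mem w.2)]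
  have hsub : (fun f => a * f) '' O b ⊆ O (a * b) := by
    rintro _ ⟨_, ⟨g, rfl⟩, rfl⟩
    obtain ⟨h, h1, h2⟩ := hpair 1 g
    exact ⟨h, by show cjHom h (a * b) = _; rw [cjHom_mul, h1, h2, cjHom_id]⟩
  have heq : (fun f => a * f) '' O b = O (a * b) := by
    refine Set.eq_of_subset_of_ncard_le hsub ?_ (hfin _)
    rw [Set.ncard_image_of_injective _ (mul_right_injective a), hcard, hcard]
    exact Nat.le_of_dvd (Nat.pos_of_ne_zero Subgroup.index_ne_zero_of_finite) hCB
  obtain ⟨g₁, hg₁⟩ : ∃ g : G, cjHom g a ≠ a := by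
    by_contra hall
    push Not at hall
    exact ha1 (Subgroup.index_eq_one.2 (top_le_iff.1 fun g _ => mem_stab.2 (hall g)))
  set x := cjHom g₁ a * a⁻¹ with hx
  have hx1 : x ≠ 1 := fun h => hg₁ (mul_inv_eq_one.1 h)
  have hxQ : ∃ k, x ^ q ^ k = 1 := by
    obtain ⟨k, hk⟩ := ha
    exact ⟨k, by rw [hx, mul_pow, inv_pow, ← cjHom_pow, hk, cjHom_one', inv_one]; exact mul_one (1 : N →* ℂˣ)⟩
  have hinv : ∀ w ∈ O b, x * w ∈ O b := by
    rintro _ ⟨g, rfl⟩
    obtain ⟨h, h1, h2⟩ := hpair g₁ g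
    obtain ⟨w', hw', he⟩ : cjHom h (a * b) ∈ (fun f => a * f) '' O b := heq.symm ▸ (⟨h, rfl⟩ : cjHom h (a * b) ∈ O (a * b))
    simp only at he
    rw [cjHom_mul, h1, h2] at he
    rw [hx, mul_assoc, mul_comm a⁻¹, ← mul_assoc, ← he, mul_comm a w']
    convert hw' using 1
    exact mul_inv_cancel_right w' a
  have := (hfin b).to_subtype
  let σ : Equiv.Perm (O b) := Equiv.ofBijective (fun w => ⟨x * w.1, hinv w.1 w.2⟩)
    (Finite.injective_iff_bijective.1 fun u v h => Subtype.ext (mul_left_cancel (congrArg Subtype.val h)))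
  have hσpow : ∀ (k : ℕ) (w : O b), ((σ ^ k) w : N →* ℂˣ) = x ^ k * w.1 := by
    intro k
    induction k with
    | zero => intro w; simp
    | succ k ih =>
      intro w
      rw [pow_succ, Equiv.Perm.mul_apply, ih, pow_succ, mul_assoc]
      rfl
  have := Fact.mk hq
  have hQ : IsPGroup q (Subgroup.zpowers σ) := by
    obtain ⟨k, hk⟩ := hxQ
    have hk' : σ ^ q ^ k = 1 := Equiv.ext fun w => Subtype.ext (by rw [hσpow, hk]; exact one_mul (w : N →* ℂˣ))
    obtain ⟨i, -, hi⟩ := (Nat.dvd_prime_pow hq).1 (orderOf_dvd_of_pow_eq_one hk')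
    exact IsPGroup.of_card (n := i) (by rw [Nat.card_zpowers, hi])
  have hfix : IsEmpty (MulAction.fixedPoints (Subgroup.zpowers σ) (O b)) := ⟨fun ⟨w, hw⟩ => hx1 (by
    have h : (σ w : N →* ℂˣ) = w.1 := congrArg Subtype.val (hw ⟨σ, Subgroup.mem_zpowers σ⟩)
    exact mul_eq_right.1 h)⟩
  have hmod := hQ.card_modEq_card_fixedPoints (O b)
  have h0 : Nat.card (MulAction.fixedPoints (Subgroup.zpowers σ) (O b)) = 0 := Nat.card_of_isEmpty
  rw [h0, Nat.card_coe_set_eq, hcard] at hmod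
  exact hqb (Nat.modEq_zero_iff_dvd.1 hmod)

/-- Any two hubs are linked. -/
theorem linked_hubs (hq : q.Prime) {a b : N →* ℂˣ} (ha : IsHub G N q a) (hb : IsHub G N q b) {d d' : ℕ}
    (h : Over (G := G) (lin a) d) (h' : Over (G := G) (lin b) d') : Linked G N d d' := by
  by_cases hc : Nat.Coprime (stab (G := G) a).index (stab (G := G) b).index
  swap
  · exact linked_over_gcd ha.2.1 hb.2.1 h h' hc
  have h1 := not_coprime_stab_mul hq ha.1 ha.2.2.2 hb.2.2.1 hc
  have h2 := not_coprime_stab_mul hq hb.1 hb.2.2.2 ha.2.2.1 hc.symm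
  rw [mul_comm b a] at h2
  have hne : a * b ≠ 1 := fun e => h1 (by rw [e, stab_one, Subgroup.index_top]; exact Nat.coprime_one_left _)
  obtain ⟨d'', h''⟩ := exists_over (G := G) (lin (a * b))
  exact (linked_over_gcd hne ha.2.1 h'' h h1).symm'.trans' (linked_over_gcd hne hb.2.1 h'' h' h2)

theorem exists_parts (hq : q.Prime) (f : N →* ℂˣ) : ∃ a n' : ℕ, ¬ q ∣ n' ∧ 0 < n' ∧ f ^ (q ^ a * n') = 1 := by
  refine ⟨(Nat.card N).factorization q, Nat.card N / q ^ (Nat.card N).factorization q,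
    Nat.not_dvd_ordCompl hq Nat.card_pos.ne', Nat.ordCompl_pos q Nat.card_pos.ne', ?_⟩
  rw [Nat.ordProj_mul_ordCompl_eq_self]
  exact hom_pow_card f

/-- A character of degree prime to `q`, normalised to a determinant of order prime to `q`. -/
theorem normalise (hq : q.Prime) (θ : Cfsg.IrrCharacter N) {m : ℕ} (hm : (θ : N → ℂ) 1 = (m : ℂ))
    (hqm : ¬ q ∣ m) :
    ∃ (μ : N →* ℂˣ) (θ₀ : Cfsg.IrrCharacter N) (n' : ℕ), IsQ q μ ∧ ¬ q ∣ n' ∧
      (dHom (θ₀ : N → ℂ)) ^ n' = 1 ∧ (θ₀ : N → ℂ) 1 = (m : ℂ) ∧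
      (θ : N → ℂ) = (θ₀ : N → ℂ) * linFun μ ∧
      inertia N (θ : N → ℂ) ≤ inertia N (θ₀ : N → ℂ) ⊓ stab μ := by
  classical
  set D := dHom (θ : N → ℂ) with hD
  obtain ⟨a, n', hn', hn'0, hn⟩ := exists_parts hq D
  have hcop : Nat.Coprime (m * n') (q ^ a) :=
    ((Nat.Prime.coprime_iff_not_dvd hq).2 fun h => (hq.dvd_mul.1 h).elim hqm hn').symm.pow_right a
  obtain ⟨y, hy⟩ : ∃ y, q ^ a ∣ m * n' * y + 1 := by
    rcases Nat.eq_zero_or_pos a with rfl | ha
    · exact ⟨0, by simp⟩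
    · obtain ⟨z, -, hz⟩ := Nat.exists_mul_mod_eq_one_of_coprime hcop (Nat.one_lt_pow ha.ne' hq.one_lt)
      refine ⟨z * (q ^ a - 1), ?_⟩
      rw [← mul_assoc, Nat.dvd_iff_mod_eq_zero, Nat.add_mod, Nat.mul_mod, hz, one_mul, Nat.mod_mod,
        Nat.add_mod_mod, Nat.mod_add_mod, Nat.sub_add_cancel (Nat.one_le_pow _ _ hq.pos), Nat.mod_self]
  set l := D ^ (n' * y)
  have hl : Cfsg.IsIrrCharacter N ((θ : N → ℂ) * linFun l) :=
    isIrr_mul_linear θ.2 (isCharacter_of_isIrr (linFun_isIrr l)) (linFun_one_apply l)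
  have hlq : l ^ q ^ a = 1 := by
    rw [← pow_mul, show n' * y * q ^ a = q ^ a * n' * y by ring, pow_mul, hn, one_pow]
  refine ⟨l⁻¹, ⟨_, hl⟩, n', ⟨a, by rw [inv_pow, hlq, inv_one]⟩, hn', ?_, ?_, ?_, ?_⟩
  · show dHom ((θ : N → ℂ) * linFun l) ^ n' = 1
    rw [dHom_mul_lin (isCharacter_of_isIrr θ.2) hm, ← hD, ← pow_mul, ← pow_succ, ← pow_mul]
    obtain ⟨w, hw⟩ := hy
    rw [show (n' * y * m + 1) * n' = q ^ a * n' * w by rw [show n' * y * m + 1 = q ^ a * w by rw [← hw]; ring]; ring,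
      pow_mul, hn, one_pow]
  · simp [Pi.mul_apply, linFun_one_apply, hm]
  · funext n
    simp [linFun_apply, Pi.mul_apply, mul_assoc]
  · intro g hg
    rw [mem_inertia] at hg
    have hgD : cjHom g D = D := by rw [hD, ← dHom_conjFun (isCharacter_of_isIrr θ.2), hg]
    have hgl : cjHom g l = l := by rw [cjHom_pow, hgD]
    refine ⟨?_, mem_stab.2 ?_⟩
    · show conjFun N g ((θ : N → ℂ) * linFun l) = (θ : N → ℂ) * linFun l
      funext n
      have e1 := congrFun hg n
      have e2 := congrFun (conjFun_linFun g l) n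
      rw [hgl] at e2
      rw [conjFun_apply] at e1 e2 ⊢
      simp only [Pi.mul_apply, e1, e2]
    · exact MonoidHom.ext fun n => by
        rw [cjHom_apply, hinv_apply, hinv_apply, ← cjHom_apply, hgl]

theorem q_dvd_of_pow (hq : q.Prime) {f : N →* ℂˣ} (hf : IsQ q f) (hf1 : f ≠ 1) {k : ℕ} (h : f ^ k = 1) : q ∣ k := by
  by_contra hk
  obtain ⟨i, hi⟩ := hf
  exact hf1 (orderOf_eq_one_iff.1 (Nat.eq_one_of_dvd_coprimes
    (((Nat.Prime.coprime_iff_not_dvd hq).2 hk).pow_left i) (orderOf_dvd_of_pow_eq_one hi)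
    (orderOf_dvd_of_pow_eq_one h)))

/-- A degree prime to `q` is linked to a degree over a shifted character. -/
theorem link_shift (hq : q.Prime) (hNG : N ≤ commutator G) {a : ℕ} (ha : a ∈ Cfsg.relCharDegrees N)
    (hqa : ¬ q ∣ a) {lz : N →* ℂˣ} (hlz : IsQ q lz) (hlz1 : lz ≠ 1) :
    (∃ μ : N →* ℂˣ, IsHub G N q μ ∧ ∀ d, Over (G := G) (lin μ) d → Linked G N a d) ∨
      ∃ d, Linked G N a d ∧ (stab (G := G) lz).index ∣ d ∧ ((stab (G := G) lz).index = 1 → q ∣ d) := by
  classical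
  have ha' := ha
  obtain ⟨χ, hker, hdeg⟩ := ha
  obtain ⟨θ, hθi, hθ⟩ := exists_constituent (isCharacter_res N (isCharacter_of_isIrr χ.2))
    (fun h0 => irr_one_ne_zero χ.2 (congrFun h0 1))
  set θI : Cfsg.IrrCharacter N := ⟨θ, hθi⟩
  obtain ⟨m, hm⟩ : ∃ m : ℕ, (θI : N → ℂ) 1 = (m : ℂ) := ⟨_, (coe_charDegree_irr θI).symm⟩
  have hθne : (θI : N → ℂ) ≠ fun _ => 1 := by
    intro h
    obtain ⟨x, hx, hne⟩ := hker
    have h2 := res_eq_smul_sum_orbit N χ.2 θI hθ
    rw [orbit_eq_singleton N fun g => by rw [h]; rfl, Finset.sum_singleton] at h2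
    have e1 := congrFun h2 ⟨x, hx⟩
    have e2 := congrFun h2 1
    rw [h] at e1 e2
    simp only [Pi.smul_apply, OneMemClass.coe_one] at e1 e2
    exact hne (e1.trans e2.symm)
  have hover : Over (G := G) θI a := ⟨χ, hθ, hdeg⟩
  obtain ⟨e, he⟩ := hover.degree hm
  have hqm : ¬ q ∣ m := fun h => hqa (he ▸ h.mul_left _)
  obtain ⟨μ, θ₀, n', hμ, hn', hD0, hm0, hθ0, hstab⟩ := normalise hq θI hm hqm
  have hia : (inertia N (θI : N → ℂ)).index ∣ a := ⟨e * m, by rw [he]; ring⟩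
  have hμa : (stab (G := G) μ).index ∣ a :=
    (Subgroup.index_dvd_of_le (hstab.trans inf_le_right)).trans hia
  by_cases hμ1 : (stab (G := G) μ).index = 1
  swap
  · refine Or.inl ⟨μ, ⟨hμ, fun h => hμ1 (by rw [h, stab_one, Subgroup.index_top]),
      fun h => hqa (h.trans hμa), hμ1⟩, fun d hd => ?_⟩
    exact linked_of_dvd ha' (hd.mem (lin_ne_one fun h => hμ1 (by rw [h, stab_one, Subgroup.index_top])))
      (Nat.one_lt_iff_ne_zero_and_ne_one.2 ⟨Subgroup.index_ne_zero_of_finite, hμ1⟩) hμa (over_lin_index hd)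
  refine Or.inr ?_
  have hμtop : stab (G := G) μ = ⊤ := Subgroup.index_eq_one.1 hμ1
  set η : Cfsg.IrrCharacter N := ⟨_, isIrr_mul_linear θ₀.2 (isCharacter_of_isIrr (linFun_isIrr lz))
    (linFun_one_apply lz)⟩ with hηdef
  have hη1 : (η : N → ℂ) 1 = (m : ℂ) := by simp [η, Pi.mul_apply, linFun_one_apply, hm0]
  have hDη : dHom (η : N → ℂ) = lz ^ m * dHom (θ₀ : N → ℂ) :=
    dHom_mul_lin (isCharacter_of_isIrr θ₀.2) hm0 lz
  have hηD : dHom (η : N → ℂ) ^ n' = lz ^ (m * n') := by rw [hDη, mul_pow, hD0, pow_mul]; exact mul_one ((lz ^ m) ^ n')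
  obtain ⟨k, hk⟩ := hlz
  have hmn : Nat.Coprime (m * n') (q ^ k) :=
    ((Nat.Prime.coprime_iff_not_dvd hq).2 fun h => (hq.dvd_mul.1 h).elim hqm hn').symm.pow_right k
  have hTη : inertia N (η : N → ℂ) ≤ inertia N (θ₀ : N → ℂ) ⊓ stab lz := by
    intro g hg
    rw [mem_inertia] at hg
    have hgD : cjHom g (dHom (η : N → ℂ)) = dHom (η : N → ℂ) := by
      rw [← dHom_conjFun (isCharacter_of_isIrr η.2), hg]
    have hgl : g ∈ stab (G := G) (lz ^ (m * n')) := by
      rw [mem_stab, ← hηD, cjHom_pow, hgD]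
    rw [stab_pow_eq hk hmn] at hgl
    refine ⟨?_, hgl⟩
    show conjFun N g (θ₀ : N → ℂ) = (θ₀ : N → ℂ)
    funext n
    have e1 := congrFun hg n
    have e2 := congrFun ((conjFun_linFun g lz).trans (congrArg linFun (mem_stab.1 hgl))) n
    rw [conjFun_apply] at e1 e2 ⊢
    simp only [η, Pi.mul_apply, e2] at e1
    exact mul_right_cancel₀ (by rw [linFun_apply]; exact Units.ne_zero _) e1
  obtain ⟨d, hd⟩ := exists_over (G := G) η
  obtain ⟨e', he'⟩ := hd.degree hη1
  have hid : (inertia N (η : N → ℂ)).index ∣ d := ⟨e' * m, by rw [he']; ring⟩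
  have hηne : (η : N → ℂ) ≠ fun _ => 1 := by
    intro h
    have h1 : dHom (η : N → ℂ) = 1 := by
      rw [h, show (fun _ : N => (1 : ℂ)) = linFun (1 : N →* ℂˣ) from funext fun n => by simp [linFun_apply],
        dHom_linFun]
    have h2 := q_dvd_of_pow hq ⟨k, hk⟩ hlz1 (k := m * n') (by rw [← hηD, h1, one_pow])
    exact (hq.dvd_mul.1 h2).elim hqm hn'
  refine ⟨d, ?_, (Subgroup.index_dvd_of_le (hTη.trans inf_le_right)).trans hid, fun hl1 => ?_⟩
  swap
  · -- an invariant shift forces `q` into the degree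
    obtain ⟨e'', hd'', hdet⟩ := det_orbit hNG hd hη1
    have hconst : ∀ ψ ∈ orbit N η, dHom (ψ : N → ℂ) ^ n' = lz ^ (m * n') := by
      intro ψ hψ
      obtain ⟨g, hg⟩ := (mem_orbit N).1 hψ
      rw [← hg, dHom_conjFun (isCharacter_of_isIrr η.2), ← cjHom_pow, hηD, cjHom_pow,
        mem_stab.1 (by rw [Subgroup.index_eq_one.1 hl1]; exact Subgroup.mem_top g : g ∈ stab (G := G) lz)]
    have h := congrArg (fun f : N →* ℂˣ => f ^ n') hdet
    simp only [one_pow] at h
    rw [← pow_mul, mul_comm, pow_mul, ← Finset.prod_pow, Finset.prod_congr rfl hconst, Finset.prod_const,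
      ← pow_mul, ← pow_mul] at h
    have h2 := q_dvd_of_pow hq ⟨k, hk⟩ hlz1 h
    rw [show m * n' * ((orbit N η).card * e'') = d * n' by rw [hd'']; ring] at h2
    exact (hq.dvd_mul.1 h2).resolve_right hn'
  have hT : inertia N (θI : N → ℂ) ≤ inertia N (θ₀ : N → ℂ) := hstab.trans inf_le_left
  by_cases hI : (inertia N (θ₀ : N → ℂ)).index = 1
  swap
  · exact linked_of_dvd ha' (hd.mem hηne)
      (Nat.one_lt_iff_ne_zero_and_ne_one.2 ⟨Subgroup.index_ne_zero_of_finite, hI⟩)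
      ((Subgroup.index_dvd_of_le hT).trans hia)
      ((Subgroup.index_dvd_of_le (hTη.trans inf_le_left)).trans hid)
  by_cases hm1 : m = 1
  swap
  · refine linked_of_dvd ha' (hd.mem hηne) (r := m) ?_ ⟨_, by rw [he, mul_comm]⟩ ⟨_, by rw [he', mul_comm]⟩
    rcases Nat.lt_or_ge 1 m with h | h
    · exact h
    · interval_cases m
      · exact absurd (dvd_zero q) hqm
      · exact absurd rfl hm1
  -- `θ₀` is an invariant linear character, the determinant of `χ` links
  subst hm1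
  obtain ⟨f, hf⟩ := exists_linHom (isCharacter_of_isIrr θI.2) (by simpa using hm)
  obtain ⟨f₀, hf₀⟩ := exists_linHom (isCharacter_of_isIrr θ₀.2) (by simpa using hm0)
  have hff : f = f₀ * μ := linFun_injective (by
    rw [hf, hθ0, ← hf₀]; funext n; simp [linFun_apply, Pi.mul_apply])
  have hf0inv : ∀ g : G, cjHom g f₀ = f₀ := fun g => by
    have h : g ∈ inertia N (θ₀ : N → ℂ) := by rw [Subgroup.index_eq_one.1 hI]; exact Subgroup.mem_top g
    rw [← hf₀] at h
    exact mem_stab.1 h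
  have hfinv : ∀ g : G, conjFun N g (θI : N → ℂ) = (θI : N → ℂ) := fun g => by
    rw [← hf, conjFun_linFun, hff, cjHom_mul, hf0inv,
      mem_stab.1 (by rw [hμtop]; exact Subgroup.mem_top g : g ∈ stab (G := G) μ)]
  obtain ⟨e1, ha1, hdet1⟩ := det_orbit hNG hover hm
  rw [orbit_eq_singleton N hfinv, Finset.prod_singleton, ← hf, dHom_linFun] at hdet1
  rw [orbit_eq_singleton N hfinv, Finset.card_singleton, mul_one, mul_one] at ha1
  subst ha1
  have hf0n : f₀ ^ n' = 1 := by rw [← dHom_linFun f₀, hf₀]; exact hD0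
  have hμe : μ = 1 := by
    by_contra hne
    have h := congrArg (fun x : N →* ℂˣ => x ^ n') hdet1
    simp only [one_pow] at h
    rw [hff, mul_pow, mul_pow, ← pow_mul f₀, mul_comm a n', pow_mul, hf0n, one_pow, one_mul, ← pow_mul] at h
    exact (hq.dvd_mul.1 (q_dvd_of_pow hq hμ hne h)).elim hqa hn'
  replace hff : f = f₀ := by rw [hff, hμe]; exact mul_one f₀
  subst hff
  have hf1 : f ≠ 1 := fun h => hθne (by rw [← hf, h]; exact funext fun n => by simp [linFun_apply])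
  obtain ⟨r, hr, hrf⟩ := Nat.exists_prime_and_dvd (fun h => hf1 (orderOf_eq_one_iff.1 h))
  have hra : r ∣ a := hrf.trans (orderOf_dvd_of_pow_eq_one hdet1)
  obtain ⟨e2, hd2, hdet2⟩ := det_orbit hNG hd hη1
  have hηeq : ∀ ψ ∈ orbit N η, dHom (ψ : N → ℂ) ^ q ^ k = f ^ q ^ k := by
    intro ψ hψ
    obtain ⟨g, hg⟩ := (mem_orbit N).1 hψ
    rw [← hg, dHom_conjFun (isCharacter_of_isIrr η.2), hDη, ← hf₀, dHom_linFun, pow_one, cjHom_mul,
      hf0inv, mul_pow, ← cjHom_pow, hk, cjHom_one']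
    exact one_mul (f ^ q ^ k)
  have h := congrArg (fun x : N →* ℂˣ => x ^ q ^ k) hdet2
  simp only [one_pow] at h
  rw [← pow_mul, mul_comm, pow_mul, ← Finset.prod_pow, Finset.prod_congr rfl hηeq, Finset.prod_const,
    ← pow_mul, ← pow_mul] at h
  have hrd : r ∣ d := by
    have h2 : r ∣ q ^ k * ((orbit N η).card * e2) := hrf.trans (orderOf_dvd_of_pow_eq_one h)
    rcases hr.dvd_mul.1 h2 with h3 | h3
    · exact absurd (((Nat.prime_dvd_prime_iff_eq hr hq).1 (hr.dvd_of_dvd_pow h3)) ▸ hra) hqa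
    · rw [hd2, mul_one, mul_comm e2]; exact h3
  exact linked_of_dvd ha' (hd.mem hηne) hr.one_lt hra hrd

variable (G N) in
/-- **Dichotomy at a prime dividing `|N : N'|`.** -/
theorem dichotomy (hNG : N ≤ commutator G) (hq : q.Prime) (hm : q ∣ (commutator N).index) :
    (∀ a ∈ Cfsg.relCharDegrees N, ∀ b ∈ Cfsg.relCharDegrees N, Linked G N a b) ∨
      ∃ l : N →* ℂˣ, IsHub G N q l ∧
        ∀ a ∈ Cfsg.relCharDegrees N, ¬ q ∣ a → ∀ d, Over (G := G) (lin l) d → Linked G N a d := by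
  classical
  by_cases hex : ∃ l : N →* ℂˣ, IsHub G N q l
  · obtain ⟨l, hl⟩ := hex
    refine Or.inr ⟨l, hl, fun a ha hqa d hd => ?_⟩
    rcases link_shift hq hNG ha hqa hl.1 hl.2.1 with ⟨μ, hμ, hμl⟩ | ⟨d', h1, h2, -⟩
    · obtain ⟨dμ, hdμ⟩ := exists_over (G := G) (lin μ)
      exact (hμl dμ hdμ).trans' (linked_hubs hq hμ hl hdμ hd)
    · have h1' := h1
      obtain ⟨-, hd'S, -⟩ := h1'
      exact h1.trans' (linked_of_dvd hd'S (hd.mem (lin_ne_one hl.2.1))
        (Nat.one_lt_iff_ne_zero_and_ne_one.2 ⟨Subgroup.index_ne_zero_of_finite, hl.2.2.2⟩) h2 (over_lin_index hd))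
  refine Or.inl ?_
  push Not at hex
  have := Fact.mk hq
  -- a linear character of `q`-power order with orbit length prime to `q`
  obtain ⟨lz, hlz, hlz1, hlzq⟩ : ∃ l : N →* ℂˣ, IsQ q l ∧ l ≠ 1 ∧ ¬ q ∣ (stab (G := G) l).index := by
    obtain ⟨l₀, hl₀, hl₀1⟩ : ∃ l : N →* ℂˣ, IsQ q l ∧ l ≠ 1 := by
      rw [Subgroup.index_eq_card] at hm
      have : Finite (Abelianization N) := inferInstanceAs (Finite (N ⧸ commutator N))
      obtain ⟨x, hx⟩ := exists_prime_orderOf_dvd_card' (G := Abelianization N) q hm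
      have hx1 : x ≠ 1 := fun h => hq.ne_one (by rw [← hx, h, orderOf_one])
      have : NeZero (Monoid.exponent (Abelianization N) : ℂ) :=
        ⟨by exact_mod_cast Monoid.exponent_ne_zero_of_finite⟩
      obtain ⟨φ, hφ⟩ := CommGroup.exists_apply_ne_one_of_hasEnoughRootsOfUnity (Abelianization N) ℂ hx1
      obtain ⟨a, n', hn', -, hn⟩ := exists_parts hq (φ.comp Abelianization.of)
      refine ⟨(φ.comp Abelianization.of) ^ n', ⟨a, by rw [← pow_mul, mul_comm, hn]⟩, fun h => hφ ?_⟩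
      obtain ⟨y, rfl⟩ := QuotientGroup.mk_surjective x
      have h1 : φ (Abelianization.of y) ^ n' = 1 := by
        have := DFunLike.congr_fun h y
        rwa [hpow_apply] at this
      have h2 : φ (Abelianization.of y) ^ q = 1 := by
        rw [← map_pow, show (Abelianization.of y) ^ q = 1 from hx ▸ pow_orderOf_eq_one _, map_one]
      exact orderOf_eq_one_iff.1 (Nat.eq_one_of_dvd_coprimes ((Nat.Prime.coprime_iff_not_dvd hq).2 hn')
        (orderOf_dvd_of_pow_eq_one h2) (orderOf_dvd_of_pow_eq_one h1))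
    have : Finite (N →* ℂˣ) := Finite.of_injective
      (fun (f : N →* ℂˣ) (n : N) => (⟨f n, by
        rw [mem_rootsOfUnity, ← map_pow, pow_card_eq_one', map_one]⟩ : rootsOfUnity (Nat.card N) ℂ))
      (fun f f' h => MonoidHom.ext fun n => congrArg Subtype.val (congrFun h n))
    let A : Subgroup (N →* ℂˣ) :=
      { carrier := {l | IsQ q l}
        one_mem' := ⟨0, one_pow _⟩
        mul_mem' := IsQ.mul
        inv_mem' := fun {l} ⟨k, hk⟩ => ⟨k, by rw [inv_pow, hk, inv_one]⟩ }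
    let _ : MulAction G A :=
      { smul := fun g l => ⟨cjHom g⁻¹ l.1, by
          obtain ⟨k, hk⟩ := l.2
          exact ⟨k, by rw [← cjHom_pow, hk, cjHom_one']⟩⟩
        one_smul := fun l => Subtype.ext (by show cjHom (1 : G)⁻¹ l.1 = l.1; rw [inv_one, cjHom_id])
        mul_smul := fun g h l => Subtype.ext (by
          show cjHom (g * h)⁻¹ l.1 = cjHom g⁻¹ (cjHom h⁻¹ l.1)
          rw [cjHom_comp, mul_inv_rev]) }
    obtain ⟨S⟩ : Nonempty (Sylow q G) := inferInstance
    have hAq : IsPGroup q A := fun ⟨l, k, hk⟩ => ⟨k, Subtype.ext hk⟩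
    have hA2 : 1 < Nat.card A := Finite.one_lt_card_iff_nontrivial.2
      ⟨⟨⟨l₀, hl₀⟩, 1, fun h => hl₀1 (congrArg Subtype.val h)⟩⟩
    have hdvd : q ∣ Nat.card A := by
      obtain ⟨i, hi⟩ := IsPGroup.iff_card.1 hAq
      rw [hi]
      exact dvd_pow_self q (by rintro rfl; rw [hi, pow_zero] at hA2; omega)
    have h1fix : (1 : A) ∈ MulAction.fixedPoints S A := fun g => Subtype.ext (cjHom_one' _)
    obtain ⟨l, hl, hl1⟩ := S.2.exists_fixed_point_of_prime_dvd_card_of_fixed_point A hdvd h1fix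
    refine ⟨l.1, l.2, fun h => hl1 (Subtype.ext h.symm), fun hd => S.not_dvd_index (hd.trans ?_)⟩
    refine Subgroup.index_dvd_of_le fun g hg => mem_stab.2 ?_
    have h := congrArg Subtype.val (hl ⟨g⁻¹, inv_mem hg⟩)
    exact (congrArg (fun x => cjHom x l.1) (inv_inv g).symm).trans h
  have hl1 : (stab (G := G) lz).index = 1 := by
    by_contra h
    exact hex lz ⟨hlz, hlz1, hlzq, h⟩
  intro a ha b hb
  have key : ∀ a ∈ Cfsg.relCharDegrees N, ∃ d, Linked G N a d ∧ q ∣ d := by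
    intro a ha
    by_cases hqa : q ∣ a
    · exact ⟨a, ⟨ha, ha, .refl _⟩, hqa⟩
    rcases link_shift hq hNG ha hqa hlz hlz1 with ⟨μ, hμ, -⟩ | ⟨d, h1, -, h3⟩
    · exact absurd hμ (hex μ)
    · exact ⟨d, h1, h3 hl1⟩
  obtain ⟨d, hd, hqd⟩ := key a ha
  obtain ⟨d', hd', hqd'⟩ := key b hb
  have hd1 := hd
  have hd1' := hd'
  obtain ⟨-, hdS, -⟩ := hd1
  obtain ⟨-, hdS', -⟩ := hd1'
  exact (hd.trans' (linked_of_dvd hdS hdS' hq.one_lt hqd hqd')).trans' hd'.symm'

/-- A common vertex over two hubs of different primes. -/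
theorem linked_of_two {q r : ℕ} (hq : q.Prime) (hr : r.Prime) (hqr : q ≠ r) {l m : N →* ℂˣ}
    (hl : IsHub G N q l) (hm : IsHub G N r m) {d d' : ℕ} (h : Over (G := G) (lin l) d)
    (h' : Over (G := G) (lin m) d') : Linked G N d d' := by
  obtain ⟨⟨i, hi⟩, hl1, -, hli⟩ := hl
  obtain ⟨⟨j, hj⟩, hm1, -, hmi⟩ := hm
  have hco : Nat.Coprime (q ^ i) (r ^ j) := ((Nat.coprime_primes hq hr).2 hqr).pow i j
  have h1 : stab (G := G) (l * m) ≤ stab l := by
    refine (stab_le_pow (l * m) (r ^ j)).trans_eq ?_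
    rw [mul_pow, hj]
    exact (congrArg stab (mul_one (l ^ r ^ j))).trans (stab_pow_eq hi hco.symm)
  have h2 : stab (G := G) (l * m) ≤ stab m := by
    refine (stab_le_pow (l * m) (q ^ i)).trans_eq ?_
    rw [mul_pow, hi]
    exact (congrArg stab (one_mul (m ^ q ^ i))).trans (stab_pow_eq hj hco)
  have hne : l * m ≠ 1 := fun e => hli (by
    rw [e, stab_one, top_le_iff] at h1
    rw [h1, Subgroup.index_top])
  obtain ⟨e, he⟩ := exists_over (G := G) (lin (l * m))
  refine (linked_over_gcd hne hl1 he h fun hc => hli ?_).symm'.trans'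
    (linked_over_gcd hne hm1 he h' fun hc => hmi ?_)
  · exact Nat.dvd_one.1 (hc ▸ Nat.dvd_gcd (Subgroup.index_dvd_of_le h1) dvd_rfl)
  · exact Nat.dvd_one.1 (hc ▸ Nat.dvd_gcd (Subgroup.index_dvd_of_le h2) dvd_rfl)

end Normal

end CfsgLib.CharBlocks.RelGraph
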