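import Cfsg.Agent.Lib.Char.DefectZero
import Cfsg.Agent.Lib.CharBlocks.Degree
import Cfsg.Agent.Lib.CharNormal.Kernel

/-!
# Codegrees `[G : ker χ] / χ(1)`

Notation in the lemmas: the codegree is written
`Nat.card G / (Nat.card {g // χ g = χ 1} * charDegree χ)` as in the statements.
-/

set_option autoImplicit false

noncomputable section

namespace CfsgLib.CharBlocks

open Cfsg CfsgLib.Char CfsgLib.CharNormal
open scoped ComplexConjugate

variable {G : Type*} [Group G] [Finite G]

/-- The codegree of a character. -/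
def codeg (χ : IrrCharacter G) : ℕ :=
  Nat.card G / (Nat.card {g : G // (χ : G → ℂ) g = (χ : G → ℂ) 1} * charDegree (χ : G → ℂ))

/-- The kernel of an irreducible character. -/
def irrKer (χ : IrrCharacter G) : Subgroup G := charKer (isCharacter_of_isIrr χ.2)

theorem mem_irrKer {χ : IrrCharacter G} {g : G} :
    g ∈ irrKer χ ↔ (χ : G → ℂ) g = (χ : G → ℂ) 1 := Iff.rfl

instance irrKer_normal (χ : IrrCharacter G) : (irrKer χ).Normal :=
  charKer_normal (isCharacter_of_isIrr χ.2)

theorem exists_faithful (χ : IrrCharacter G) :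
    ∃ ψ : IrrCharacter (G ⧸ irrKer χ),
      (χ : G → ℂ) = (ψ : G ⧸ irrKer χ → ℂ) ∘ QuotientGroup.mk ∧
      charDegree (ψ : G ⧸ irrKer χ → ℂ) = charDegree (χ : G → ℂ) ∧
      ∀ q : G ⧸ irrKer χ, (ψ : G ⧸ irrKer χ → ℂ) q = (ψ : G ⧸ irrKer χ → ℂ) 1 → q = 1 := by
  obtain ⟨ψ, hψ, he⟩ := exists_irr_eq_comp_mk' (irrKer χ) χ.2 (fun n hn => hn)
  refine ⟨⟨ψ, hψ⟩, he.symm, ?_, fun q hq => ?_⟩
  · exact charDegree_eq (by
      rw [← QuotientGroup.mk_one (irrKer χ), coe_charDegree_irr χ]
      exact congrFun he 1)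
  · obtain ⟨g, rfl⟩ := QuotientGroup.mk_surjective q
    rw [QuotientGroup.eq_one_iff, mem_irrKer, ← he]
    exact hq

/-- The codegree times the degree is the order of `G ⧸ ker χ`. -/
theorem codeg_mul_degree (χ : IrrCharacter G) :
    codeg χ * charDegree (χ : G → ℂ) = Nat.card (G ⧸ irrKer χ) := by
  obtain ⟨ψ, -, hd, -⟩ := exists_faithful χ
  have h := charDegree_dvd_card ψ.2
  rw [hd] at h
  obtain ⟨t, ht⟩ := h
  have e : Nat.card G = Nat.card (irrKer χ) * charDegree (χ : G → ℂ) * t := by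
    rw [mul_assoc, ← ht, mul_comm, Subgroup.card_eq_card_quotient_mul_card_subgroup (irrKer χ)]
  have hk : Nat.card {g : G // (χ : G → ℂ) g = (χ : G → ℂ) 1} = Nat.card (irrKer χ) := rfl
  have hpos : 0 < Nat.card (irrKer χ) * charDegree (χ : G → ℂ) :=
    Nat.mul_pos Nat.card_pos (charDegree_pos χ.2)
  rw [codeg, hk, e, Nat.mul_div_cancel_left _ hpos, ht, mul_comm]

theorem codeg_dvd_card (χ : IrrCharacter G) : codeg χ ∣ Nat.card G :=
  (Dvd.intro _ (codeg_mul_degree χ)).trans (Subgroup.card_quotient_dvd_card (irrKer χ))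

/-- A character of degree with full `q`-part vanishes at `q`-singular elements. -/
theorem vanish_of_not_dvd {q : ℕ} (hq : q.Prime) (χ : IrrCharacter G) {t : ℕ}
    (ht : Nat.card G = t * charDegree (χ : G → ℂ)) (hqt : ¬ q ∣ t) {x : G} (hx : q ∣ orderOf x) :
    (χ : G → ℂ) x = 0 := by
  have := Fintype.ofFinite G
  have hpos := (charDegree_pos χ.2).ne'
  refine vanish_of_defect_zero χ.2 hq (n := (Nat.card G).factorization q) (Nat.ordProj_dvd _ _)
    (Nat.pow_succ_factorization_not_dvd Nat.card_pos.ne' hq) (coe_charDegree_irr χ).symm ?_ hx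
  have ht0 : t ≠ 0 := by rintro rfl; simp at hqt
  rw [ht, Nat.factorization_mul ht0 hpos, Finsupp.add_apply,
    Nat.factorization_eq_zero_of_not_dvd hqt, zero_add]
  exact Nat.ordProj_dvd _ _

/-- For every prime `q ∣ |G|` some character has degree prime to `q` and is not principal. -/
theorem exists_ne_one_not_dvd {q : ℕ} (hq : q.Prime) (h : q ∣ Nat.card G) :
    ∃ χ : IrrCharacter G, (χ : G → ℂ) ≠ (fun _ => 1) ∧ ¬ q ∣ charDegree (χ : G → ℂ) := by
  classical
  have := Fintype.ofFinite G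
  by_contra hc
  push Not at hc
  have hsum : ∑ χ : IrrCharacter G, charDegree (χ : G → ℂ) ^ 2 = Nat.card G := by
    apply Nat.cast_injective (R := ℂ)
    rw [Nat.cast_sum, ← (sum_degree_mul_apply (1 : G)).trans (if_pos rfl)]
    exact Finset.sum_congr rfl fun χ _ => by rw [Nat.cast_pow, coe_charDegree_irr, sq]
  have hone : charDegree ((irrOne : IrrCharacter G) : G → ℂ) = 1 := charDegree_one
  rw [← Finset.add_sum_erase _ _ (Finset.mem_univ (irrOne : IrrCharacter G)), hone, one_pow] at hsum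
  have hd : q ∣ ∑ χ ∈ Finset.univ.erase (irrOne : IrrCharacter G), charDegree (χ : G → ℂ) ^ 2 :=
    Finset.dvd_sum fun χ hχ => dvd_pow (hc χ fun h1 =>
      (Finset.mem_erase.mp hχ).1 (Subtype.ext h1)) two_ne_zero
  exact hq.not_dvd_one ((Nat.dvd_add_left hd).mp (hsum ▸ h))

/-- A faithful irreducible character of prime codegree: the Sylow subgroup is normal of prime order
and self-centralising. -/
theorem prime_codegree_structure {p : ℕ} (hp : p.Prime) (χ : IrrCharacter G)
    (hfaith : ∀ g : G, (χ : G → ℂ) g = (χ : G → ℂ) 1 → g = 1)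
    (hcod : Nat.card G = p * charDegree (χ : G → ℂ)) :
    ∃ P : Subgroup G, P.Normal ∧ Nat.card P = p ∧ Subgroup.centralizer (P : Set G) = P ∧
      charDegree (χ : G → ℂ) < p ∧ ∀ x : G, (∃ k, orderOf x = p ^ k) → x ∈ P := by
  classical
  have := Fintype.ofFinite G
  have : Fact p.Prime := ⟨hp⟩
  set m := charDegree (χ : G → ℂ) with hm
  have hm0 : 0 < m := charDegree_pos χ.2
  -- `m < p`
  have hsum : ∑ ψ : IrrCharacter G, charDegree (ψ : G → ℂ) ^ 2 = Nat.card G := by
    apply Nat.cast_injective (R := ℂ)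
    rw [Nat.cast_sum, ← (sum_degree_mul_apply (1 : G)).trans (if_pos rfl)]
    exact Finset.sum_congr rfl fun ψ _ => by rw [Nat.cast_pow, coe_charDegree_irr, sq]
  have hmp : m < p := by
    by_cases h1 : (χ : G → ℂ) = fun _ => 1
    · rw [hm, h1, charDegree_one]; exact hp.one_lt
    · have hne : (irrOne : IrrCharacter G) ≠ χ := fun h => h1 (h ▸ rfl)
      have h2 : m ^ 2 + charDegree ((irrOne : IrrCharacter G) : G → ℂ) ^ 2 ≤ p * m := by
        rw [← hcod, ← hsum, add_comm,
          ← Finset.sum_pair (f := fun ψ : IrrCharacter G => charDegree (ψ : G → ℂ) ^ 2) hne]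
        exact Finset.sum_le_sum_of_subset (Finset.subset_univ _)
      rw [show charDegree ((irrOne : IrrCharacter G) : G → ℂ) = 1 from charDegree_one, one_pow, sq] at h2
      exact Nat.lt_of_mul_lt_mul_right (show m * m < p * m by omega)
  have hnd : ¬ p ∣ m := fun h => absurd (Nat.le_of_dvd hm0 h) (by omega)
  -- the Sylow subgroup
  let P : Sylow p G := default
  have hcard : Nat.card P = p := by
    rw [P.card_eq_multiplicity, hcod, Nat.factorization_mul hp.ne_zero hm0.ne', Finsupp.add_apply,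
      hp.factorization_self, Nat.factorization_eq_zero_of_not_dvd hnd, pow_one]
  have hcardP : Nat.card (P : Subgroup G) = p := hcard
  have hidx : (P : Subgroup G).index = m := by
    refine Nat.eq_of_mul_eq_mul_left hp.pos ?_
    have h := Subgroup.card_mul_index (P : Subgroup G)
    rw [hcardP] at h
    exact h.trans hcod
  have h1 : Nat.card (Sylow p G) = 1 := by
    have hdvd : Nat.card (Sylow p G) ∣ m := hidx ▸ P.card_dvd_index
    have hlt : Nat.card (Sylow p G) < p := lt_of_le_of_lt (Nat.le_of_dvd hm0 hdvd) hmp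
    have := card_sylow_modEq_one p G
    rw [Nat.ModEq, Nat.mod_eq_of_lt hlt, Nat.mod_eq_of_lt hp.one_lt] at this
    exact this
  have : Subsingleton (Sylow p G) := (Nat.card_eq_one_iff_unique.mp h1).1
  have hPn : (P : Subgroup G).Normal := P.normal_of_subsingleton
  have hall : ∀ x : G, (∃ k, orderOf x = p ^ k) → x ∈ (P : Subgroup G) := by
    rintro x ⟨k, hk⟩
    obtain ⟨Q, hQ⟩ := (IsPGroup.of_card (p := p) (n := k)
      (show Nat.card (Subgroup.zpowers x) = p ^ k by rw [Nat.card_zpowers, hk])).exists_le_sylow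
    rw [Subsingleton.elim P Q]
    exact hQ (Subgroup.mem_zpowers x)
  set C := Subgroup.centralizer ((P : Subgroup G) : Set G) with hC
  have hPc : IsCyclic (P : Subgroup G) := isCyclic_of_prime_card hcardP
  have hPC : (P : Subgroup G) ≤ C := by
    intro a ha
    rw [hC, Subgroup.mem_centralizer_iff]
    intro b hb
    let _ : CommGroup (P : Subgroup G) := IsCyclic.commGroup
    exact congrArg Subtype.val (mul_comm (⟨b, hb⟩ : (P : Subgroup G)) ⟨a, ha⟩)
  -- the complement of `P` in `C` is a normal `p'`-subgroup of `G`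
  have hCn : C.Normal := ⟨fun c hc g => by
    rw [hC, Subgroup.mem_centralizer_iff] at hc ⊢
    intro b hb
    have hb' : g⁻¹ * b * g ∈ (P : Subgroup G) := by simpa using hPn.conj_mem b hb g⁻¹
    calc b * (g * c * g⁻¹) = g * ((g⁻¹ * b * g) * c) * g⁻¹ := by group
      _ = g * (c * (g⁻¹ * b * g)) * g⁻¹ := by rw [hc _ hb']
      _ = g * c * g⁻¹ * b := by group⟩
  have hcop : Nat.Coprime p m := hp.coprime_iff_not_dvd.mpr hnd
  obtain ⟨Q, hQ⟩ := Subgroup.exists_left_complement'_of_coprime
    (N := (P : Subgroup G).subgroupOf C)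
    (by
      rw [Nat.card_congr (Subgroup.subgroupOfEquivOfLe hPC).toEquiv, hcardP]
      refine Nat.Coprime.coprime_dvd_right ?_ hcop
      rw [← hidx]
      exact Subgroup.relIndex_dvd_index_of_normal _ _)
  have hQm : Nat.card Q ∣ m := by
    rw [← hQ.index_eq_card, ← hidx]
    exact Subgroup.relIndex_dvd_index_of_normal _ _
  have hpow : ∀ c : C, (c : G) ^ m = 1 ↔ c ∈ Q := by
    intro c
    constructor
    · intro hc
      obtain ⟨⟨q, u⟩, hqu⟩ := hQ.2 c
      have hqu' : (q : C) * (u : C) = c := hqu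
      have hu : ((u : C) : G) ∈ (P : Subgroup G) := Subgroup.mem_subgroupOf.mp u.2
      have hcomm : Commute ((q : C) : G) ((u : C) : G) :=
        (Subgroup.mem_centralizer_iff.mp (q : C).2 _ hu).symm
      have hq1 : ((q : C) : G) ^ m = 1 := by
        obtain ⟨t, ht⟩ := hQm
        have : ((q : C)) ^ Nat.card Q = 1 := congrArg Subtype.val (pow_card_eq_one' (x := q))
        rw [ht, pow_mul, ← SubmonoidClass.coe_pow, this]
        simp
      rw [← hqu', Subgroup.coe_mul, hcomm.mul_pow, hq1, one_mul] at hc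
      have hu1 : ((u : C) : G) = 1 := by
        have h2 : ((u : C) : G) ^ p = 1 := by
          have := congrArg Subtype.val (pow_card_eq_one' (x := (⟨_, hu⟩ : (P : Subgroup G))))
          rwa [hcardP] at this
        rw [← pow_one ((u : C) : G), ← hcop]
        exact pow_gcd_eq_one.mpr ⟨h2, hc⟩
      have : c = (q : C) := by rw [← hqu', show (u : C) = 1 from Subtype.ext hu1, mul_one]
      rw [this]; exact q.2
    · intro hc
      obtain ⟨t, ht⟩ := hQm
      have h0 : c ^ Nat.card Q = 1 := congrArg Subtype.val (pow_card_eq_one' (x := (⟨c, hc⟩ : Q)))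
      rw [ht, pow_mul, ← SubmonoidClass.coe_pow, h0]
      simp
  set U := Q.map C.subtype with hU
  have hUn : U.Normal := ⟨fun u hu g => by
    obtain ⟨c, hc, rfl⟩ := hu
    refine ⟨⟨g * (c : G) * g⁻¹, hCn.conj_mem _ c.2 g⟩, ?_, rfl⟩
    rw [SetLike.mem_coe, ← hpow]
    show (g * (c : G) * g⁻¹) ^ m = 1
    rw [conj_pow, (hpow c).mpr hc, mul_one, mul_inv_cancel]⟩
  have := Fintype.ofFinite U
  have hUbot : U = ⊥ := by
    refine (Subgroup.eq_bot_iff_forall _).mpr fun u hu => hfaith u ?_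
    refine res_eq_degree_of_constituent_one U χ.2 ?_ u hu
    rw [classInner_def, Finset.sum_eq_single (1 : U)]
    · simp only [OneMemClass.coe_one, map_one, mul_one]
      exact mul_ne_zero (inv_ne_zero card_ne_zero') (irr_one_ne_zero χ.2)
    · intro z _ hz
      obtain ⟨c, hc, hcz⟩ := z.2
      have hz1 : orderOf (z : G) ∣ m := orderOf_dvd_of_pow_eq_one (hcz ▸ (hpow c).mpr hc)
      obtain ⟨q, hq, hqd⟩ := Nat.exists_prime_and_dvd (n := orderOf (z : G))
        (fun h => hz (Subtype.ext (orderOf_eq_one_iff.mp h)))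
      rw [vanish_of_not_dvd hq χ hcod ?_ hqd, zero_mul]
      intro hqp
      exact hnd ((Nat.prime_dvd_prime_iff_eq hq hp).mp hqp ▸ hqd.trans hz1)
    · simp
  refine ⟨P, hPn, hcardP, le_antisymm (fun c hc => ?_) hPC, hmp, hall⟩
  have hQbot : Q = ⊥ := (Subgroup.map_eq_bot_iff_of_injective _ C.subtype_injective).mp hUbot
  obtain ⟨⟨q, u⟩, hqu⟩ := hQ.2 ⟨c, hc⟩
  have hq1 : (q : C) = 1 := Subgroup.mem_bot.mp (hQbot ▸ q.2)
  have hqu' : (q : C) * (u : C) = ⟨c, hc⟩ := hqu
  rw [hq1, one_mul] at hqu'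
  have := Subgroup.mem_subgroupOf.mp u.2
  rwa [hqu'] at this

end CfsgLib.CharBlocks
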