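import Cfsg.Agent.Lib.CharBlocks.ClassMul

/-!
# The commutator count

`card_commutator_eq`: `#{(a,b) | [a,b] = z} = |G| ∑ χ z / χ 1`.
-/

namespace CfsgLib.CharBlocks

open CfsgLib.Char
open scoped ComplexConjugate

variable {G : Type*} [Group G] [Fintype G]

theorem card_commutator_eq (z : G) :
    (Nat.card {xy : G × G // xy.1 * xy.2 * xy.1⁻¹ * xy.2⁻¹ = z} : ℂ) =
      (Nat.card G : ℂ) * ∑ χ : Cfsg.IrrCharacter G, (χ : G → ℂ) z / (χ : G → ℂ) 1 := by
  classical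
  let F : G → ℕ := fun w => Nat.card {xy : G × G // xy.1 * xy.2 * xy.1⁻¹ * xy.2⁻¹ = w}
  have hFc : ∀ w : {w : G // IsConj z w}, F w = F z := by
    rintro ⟨w, hw⟩
    obtain ⟨u, rfl⟩ := isConj_iff.mp hw
    refine (Nat.card_congr (Equiv.subtypeEquiv
      (Equiv.prodCongr (MulAut.conj u).toEquiv (MulAut.conj u).toEquiv) ?_)).symm
    rintro ⟨a, b⟩
    show _ ↔ (u * a * u⁻¹) * (u * b * u⁻¹) * (u * a * u⁻¹)⁻¹ * (u * b * u⁻¹)⁻¹ = u * z * u⁻¹
    rw [show (u * a * u⁻¹) * (u * b * u⁻¹) * (u * a * u⁻¹)⁻¹ * (u * b * u⁻¹)⁻¹ =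
      u * (a * b * a⁻¹ * b⁻¹) * u⁻¹ by group, mul_left_inj, mul_right_inj]
  have h1 : ∑ a : G, Nat.card {g : G // IsConj (g * a * g⁻¹ * a⁻¹) z} =
      Nat.card {w : G // IsConj z w} * F z := by
    rw [← Nat.card_sigma]
    have e : Nat.card (Σ a : G, {g : G // IsConj (g * a * g⁻¹ * a⁻¹) z}) =
        Nat.card (Σ w : {w : G // IsConj z w},
          {xy : G × G // xy.1 * xy.2 * xy.1⁻¹ * xy.2⁻¹ = (w : G)}) := by
      refine Nat.card_eq_of_bijective (fun q =>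
        ⟨⟨q.2.1 * q.1 * q.2.1⁻¹ * q.1⁻¹, q.2.2.symm⟩, ⟨(q.2.1, q.1), rfl⟩⟩) ⟨?_, ?_⟩
      · rintro ⟨a, g, hg⟩ ⟨a', g', hg'⟩ h
        have h' := congrArg (fun s : (Σ w : {w : G // IsConj z w},
          {xy : G × G // xy.1 * xy.2 * xy.1⁻¹ * xy.2⁻¹ = (w : G)}) => s.2.1) h
        simp only [Prod.mk.injEq] at h'
        obtain ⟨rfl, rfl⟩ := h'
        rfl
      · rintro ⟨⟨w, hw⟩, ⟨⟨x, y⟩, (hxy : x * y * x⁻¹ * y⁻¹ = w)⟩⟩
        subst hxy
        exact ⟨⟨y, x, hw.symm⟩, rfl⟩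
    rw [e, Nat.card_sigma, Finset.sum_congr rfl (fun w _ => show _ = F z from hFc w),
      Finset.sum_const, Finset.card_univ, ← Nat.card_eq_fintype_card, smul_eq_mul]
  have h2 : (Nat.card G : ℂ) * (F z : ℂ) =
      (Nat.card G : ℂ) * ((Nat.card G : ℂ) *
        ∑ χ : Cfsg.IrrCharacter G, conj ((χ : G → ℂ) z) / (χ : G → ℂ) 1) := by
    have e := congrArg (fun k : ℕ => (k : ℂ) * (Nat.card (Subgroup.centralizer ({z} : Set G)) : ℂ)) h1
    simp only [Nat.cast_sum, Finset.sum_mul, card_conj_mul_isConj] at e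
    have hG : (Nat.card {w : G // IsConj z w} : ℂ) *
        Nat.card (Subgroup.centralizer ({z} : Set G)) = Nat.card G := by
      rw [← Nat.cast_mul, card_isConj_mul_card_centralizer z]
    rw [Nat.cast_mul, mul_right_comm, hG] at e
    rw [← e, ← Finset.mul_sum, Finset.sum_comm]
    congr 1
    rw [Finset.mul_sum]
    refine Finset.sum_congr rfl fun χ _ => ?_
    have hin := card_mul_classInner (χ : G → ℂ) (χ : G → ℂ)
    rw [classInner_irr_self χ.2, mul_one] at hin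
    rw [hin, Finset.sum_mul]
    refine Finset.sum_congr rfl fun a _ => ?_
    rw [char_inv (isCharacter_of_isIrr χ.2)]
    ring
  have h3 := congrArg conj (mul_left_cancel₀ card_ne_zero' h2)
  rw [map_natCast, map_mul, map_natCast, map_sum] at h3
  refine h3.trans ?_
  congr 1
  refine Finset.sum_congr rfl fun χ _ => ?_
  rw [map_div₀, Complex.conj_conj, char_conj_one (isCharacter_of_isIrr χ.2)]

end CfsgLib.CharBlocks
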