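import Cfsg.Agent.Lib.CharNormal.AbelianQuotient
import Cfsg.Agent.Lib.CharNormal.Kernel
import Cfsg.Agent.Lib.CharNormal.TwoDegrees
import Cfsg.Agent.Lib.CharBlocks.Degree
import Mathlib.GroupTheory.FiniteAbelian.Duality

/-!
# Degree links from a minimal non-abelian quotient of a solvable group

* `exists_split`: the two shapes of a minimal non-abelian quotient (a `q`-group, or an abelian
  `q`-kernel on which the rest acts without fixed points);
* `degree_abelian_quotient`: degrees over an abelian quotient;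
* `res_irr_of_qPower`, `exists_degree_mul_of_free`: the consequences for the degrees.
-/

namespace CfsgLib.CharBlocks

open CfsgLib.Char CfsgLib.CharNormal

universe u

section Structure

variable {Q : Type u} [Group Q] [Finite Q]

theorem isPGroup_of_minimal_central (hne : commutator Q ≠ ⊥)
    (hmin : ∀ M : Subgroup Q, M.Normal → M ≠ ⊥ → commutator Q ≤ M)
    (hcent : commutator Q ≤ Subgroup.center Q) : ∃ q : ℕ, q.Prime ∧ IsPGroup q Q := by
  have hcz : ∀ r : ℕ, r.Prime → ∀ w ∈ Subgroup.center Q, orderOf w = r →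
      commutator Q ≤ Subgroup.zpowers w := fun r hr w hw ho => by
    refine hmin _ ⟨fun x hx g => ?_⟩ fun h => hr.ne_one ?_
    · rw [Subgroup.mem_center_iff.mp (Subgroup.zpowers_le.mpr hw hx) g, mul_inv_cancel_right]
      exact hx
    · rw [Subgroup.zpowers_eq_bot] at h
      rw [← ho, h, orderOf_one]
  obtain ⟨q, hq, hqd⟩ := Nat.exists_prime_and_dvd
    (fun h => hne ((Subgroup.card_eq_one).mp h) : Nat.card (commutator Q) ≠ 1)
  have : Fact q.Prime := ⟨hq⟩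
  obtain ⟨⟨z, hz⟩, hzo⟩ := exists_prime_orderOf_dvd_card' q hqd
  rw [Subgroup.orderOf_mk] at hzo
  have hle := hcz q hq z (hcent hz) hzo
  have hpow : ∀ c ∈ commutator Q, c ^ q = 1 := fun c hc => by
    obtain ⟨i, rfl⟩ := Subgroup.mem_zpowers_iff.mp (hle hc)
    rw [← zpow_natCast, ← zpow_mul, mul_comm, zpow_mul, zpow_natCast, ← hzo, pow_orderOf_eq_one,
      one_zpow]
  -- the centre is a `q`-group
  have hZ : ∀ w ∈ Subgroup.center Q, ∃ m : ℕ, orderOf w = q ^ m := fun w hw => by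
    have hone : ∀ r : ℕ, r.Prime → r ∣ orderOf w → r = q := fun r hr hrd => by
      have ho : orderOf (w ^ (orderOf w / r)) = r := by
        rw [orderOf_pow_of_dvd (Nat.div_pos (Nat.le_of_dvd (orderOf_pos w) hrd) hr.pos).ne'
          (Nat.div_dvd_of_dvd hrd), Nat.div_div_self hrd (orderOf_pos w).ne']
      have hd := Subgroup.card_dvd_of_le
        (Subgroup.zpowers_le.mpr (hcz r hr _ (Subgroup.pow_mem _ hw _) ho hz))
      rw [Nat.card_zpowers, Nat.card_zpowers, hzo, ho] at hd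
      exact ((Nat.prime_dvd_prime_iff_eq hq hr).mp hd).symm
    exact ⟨_, Nat.eq_prime_pow_of_unique_prime_dvd (orderOf_pos w).ne' fun {d} hd hdd => hone d hd hdd⟩
  refine ⟨q, hq, fun g => ?_⟩
  have hg : g ^ q ∈ Subgroup.center Q := by
    rw [Subgroup.mem_center_iff]
    intro h
    have hc : g * h * g⁻¹ * h⁻¹ ∈ commutator Q := by
      rw [← commutatorElement_def]
      exact Subgroup.commutator_mem_commutator (Subgroup.mem_top g) (Subgroup.mem_top h)
    set c := g * h * g⁻¹ * h⁻¹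
    have hcg := Subgroup.mem_center_iff.mp (hcent hc) g
    have key : ∀ i : ℕ, g ^ i * h = c ^ i * h * g ^ i := by
      intro i
      induction i with
      | zero => simp
      | succ i ih =>
        calc g ^ (i + 1) * h = g * (g ^ i * h) := by rw [pow_succ', mul_assoc]
          _ = (g * c ^ i) * h * g ^ i := by rw [ih]; group
          _ = (c ^ i * g) * h * g ^ i := by
              rw [((show Commute g c from hcg).pow_right i).eq]
          _ = c ^ i * (c * h * g) * g ^ i := by simp [c, mul_assoc]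
          _ = c ^ (i + 1) * h * g ^ (i + 1) := by rw [pow_succ, pow_succ']; group
    rw [key q, hpow c hc, one_mul]
  obtain ⟨m, hm⟩ := hZ _ hg
  exact ⟨m + 1, by rw [pow_succ', pow_mul, ← hm, pow_orderOf_eq_one]⟩

theorem fpf_of_minimal (hmin : ∀ M : Subgroup Q, M.Normal → M ≠ ⊥ → commutator Q ≤ M)
    (hab : ∀ a ∈ commutator Q, ∀ b ∈ commutator Q, a * b = b * a)
    (hnc : ¬ commutator Q ≤ Subgroup.center Q) {g : Q} (hg : g ∉ commutator Q) {k : Q}
    (hk : k ∈ commutator Q) : ∃ k' ∈ commutator Q, g * k' * g⁻¹ * k'⁻¹ = k := by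
  set K := commutator Q with hKdef
  have hKn : K.Normal := inferInstanceAs (commutator Q).Normal
  have hcomm : ∀ a b : Q, a * b * a⁻¹ * b⁻¹ ∈ K := fun a b => by
    rw [← commutatorElement_def]
    exact Subgroup.commutator_mem_commutator (Subgroup.mem_top a) (Subgroup.mem_top b)
  -- an element moving `K` has surjective commutator map
  have hsurj : ∀ y : Q, ¬ (∀ a ∈ K, y * a = a * y) → ∀ c ∈ K, ∃ a ∈ K, y * a * y⁻¹ * a⁻¹ = c := by
    intro y hy
    let S : Subgroup Q :=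
      { carrier := {c | ∃ a ∈ K, y * a * y⁻¹ * a⁻¹ = c}
        one_mem' := ⟨1, K.one_mem, by simp⟩
        mul_mem' := by
          rintro _ _ ⟨a, ha, rfl⟩ ⟨b, hb, rfl⟩
          refine ⟨a * b, K.mul_mem ha hb, ?_⟩
          have h1 := hab a⁻¹ (K.inv_mem ha) (y * b * y⁻¹ * b⁻¹) (hcomm y b)
          calc y * (a * b) * y⁻¹ * (a * b)⁻¹
              = y * a * y⁻¹ * ((y * b * y⁻¹ * b⁻¹) * a⁻¹) := by group
            _ = y * a * y⁻¹ * a⁻¹ * (y * b * y⁻¹ * b⁻¹) := by rw [← h1]; group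
        inv_mem' := by
          rintro _ ⟨a, ha, rfl⟩
          refine ⟨a⁻¹, K.inv_mem ha, ?_⟩
          have h1 := hab (y * a⁻¹ * y⁻¹) (hKn.conj_mem _ (K.inv_mem ha) y) a ha
          calc y * a⁻¹ * y⁻¹ * a⁻¹⁻¹ = (y * a⁻¹ * y⁻¹) * a := by group
            _ = a * (y * a⁻¹ * y⁻¹) := h1
            _ = (y * a * y⁻¹ * a⁻¹)⁻¹ := by group }
    have hS : S.Normal := ⟨by
      rintro _ ⟨a, ha, rfl⟩ h
      have hb : h * a * h⁻¹ ∈ K := hKn.conj_mem _ ha h
      refine ⟨h * a * h⁻¹, hb, ?_⟩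
      have hd := hcomm h y
      have h1 := hab (h * y * h⁻¹ * y⁻¹) hd (y * (h * a * h⁻¹) * y⁻¹) (hKn.conj_mem _ hb y)
      calc y * (h * a * h⁻¹) * y⁻¹ * (h * a * h⁻¹)⁻¹
          = ((h * y * h⁻¹ * y⁻¹) * (y * (h * a * h⁻¹) * y⁻¹)) * (h * y * h⁻¹ * y⁻¹)⁻¹ *
              (h * a * h⁻¹)⁻¹ := by rw [h1]; group
        _ = h * (y * a * y⁻¹ * a⁻¹) * h⁻¹ := by group⟩
    refine fun c hc => hmin S hS (fun h => hy fun a ha => ?_) hc
    have : y * a * y⁻¹ * a⁻¹ ∈ S := ⟨a, ha, rfl⟩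
    rw [h, Subgroup.mem_bot, mul_inv_eq_one, mul_inv_eq_iff_eq_mul] at this
    exact this
  refine hsurj g (fun hgC => hg ?_) k hk
  -- the centraliser of `K` is `K`
  obtain ⟨y, hy⟩ : ∃ y : Q, ¬ ∀ a ∈ K, y * a = a * y := by
    by_contra h
    push Not at h
    exact hnc fun a ha => Subgroup.mem_center_iff.mpr fun y => h y a ha
  obtain ⟨a, ha, hac⟩ := hsurj y hy _ (hcomm y g)
  set x := a⁻¹ * g with hx
  have hxy : y * x * y⁻¹ = x := by
    have h2 : y * a⁻¹ * y⁻¹ = a⁻¹ * (y * g * y⁻¹ * g⁻¹)⁻¹ := by rw [← hac]; group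
    calc y * x * y⁻¹ = (y * a⁻¹ * y⁻¹) * (y * g * y⁻¹ * g⁻¹) * g := by rw [hx]; group
      _ = x := by rw [h2, hx]; group
  have hxC : ∀ b ∈ K, x * b = b * x := fun b hb => by
    rw [hx, mul_assoc, hgC b hb, ← mul_assoc, hab a⁻¹ (K.inv_mem ha) b hb, mul_assoc]
  let F : Subgroup Q := K ⊓ Subgroup.centralizer {y}
  have hF : F.Normal := ⟨fun d hd h => ⟨hKn.conj_mem _ hd.1 h, by
    have hd2 : d * y = y * d := Subgroup.mem_centralizer_singleton_iff.mp hd.2
    have hd' := hKn.conj_mem _ hd.1 h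
    refine Subgroup.mem_centralizer_singleton_iff.mpr ?_
    have e := congrArg (fun w => h * w * h⁻¹) hd2
    have h1 : (h * d * h⁻¹) * (h * y * h⁻¹) = (h * y * h⁻¹) * (h * d * h⁻¹) := by
      simpa [mul_assoc] using e
    have h3 := hab (h * y * h⁻¹ * y⁻¹) (hcomm h y) (h * d * h⁻¹) hd'
    calc h * d * h⁻¹ * y
        = (h * y * h⁻¹ * y⁻¹)⁻¹ * ((h * y * h⁻¹ * y⁻¹) * (h * d * h⁻¹)) * y := by group
      _ = (h * y * h⁻¹ * y⁻¹)⁻¹ * ((h * d * h⁻¹) * (h * y * h⁻¹)) := by rw [h3]; group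
      _ = y * (h * d * h⁻¹) := by rw [h1]; group⟩⟩
  have hFbot : F = ⊥ := by
    by_contra hne
    exact hy fun b hb => (Subgroup.mem_centralizer_singleton_iff.mp (hmin F hF hne hb).2).symm
  have hxcent : x ∈ Subgroup.center Q := by
    refine Subgroup.mem_center_iff.mpr fun h => ?_
    set d := h * x * h⁻¹ * x⁻¹ with hd
    have hdK : d ∈ K := hcomm h x
    have hdy : y * d * y⁻¹ = d := by
      have h1 : y * d * y⁻¹ = (y * h * y⁻¹ * h⁻¹) * d * (x * (y * h * y⁻¹ * h⁻¹)⁻¹ * x⁻¹) := by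
        calc y * d * y⁻¹
            = (y * h * y⁻¹) * (y * x * y⁻¹) * (y * h * y⁻¹)⁻¹ * (y * x * y⁻¹)⁻¹ := by
              rw [hd]; group
          _ = _ := by rw [hxy, hd]; group
      rw [h1, hxC _ (K.inv_mem (hcomm y h)), mul_inv_cancel_right,
        hab _ (hcomm y h) _ hdK, mul_inv_cancel_right]
    have hdF : d ∈ F := ⟨hdK, Subgroup.mem_centralizer_singleton_iff.mpr
      (mul_inv_eq_iff_eq_mul.mp hdy).symm⟩
    rw [hFbot, Subgroup.mem_bot, hd, mul_inv_eq_one, mul_inv_eq_iff_eq_mul] at hdF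
    exact hdF
  have hZ : Subgroup.center Q = ⊥ := by
    by_contra hne
    exact hnc (hmin _ inferInstance hne)
  rw [hZ, Subgroup.mem_bot, hx, inv_mul_eq_one] at hxcent
  exact hxcent ▸ ha

theorem pow_eq_one_of_minimal (hne : commutator Q ≠ ⊥)
    (hmin : ∀ M : Subgroup Q, M.Normal → M ≠ ⊥ → commutator Q ≤ M)
    (hab : ∀ a ∈ commutator Q, ∀ b ∈ commutator Q, a * b = b * a) :
    ∃ q : ℕ, q.Prime ∧ ∀ c ∈ commutator Q, c ^ q = 1 := by
  obtain ⟨q, hq, hqd⟩ := Nat.exists_prime_and_dvd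
    (fun h => hne ((Subgroup.card_eq_one).mp h) : Nat.card (commutator Q) ≠ 1)
  have : Fact q.Prime := ⟨hq⟩
  obtain ⟨⟨z, hz⟩, hzo⟩ := exists_prime_orderOf_dvd_card' q hqd
  rw [Subgroup.orderOf_mk] at hzo
  let E : Subgroup Q :=
    { carrier := {c | c ∈ commutator Q ∧ c ^ q = 1}
      one_mem' := ⟨Subgroup.one_mem _, one_pow q⟩
      mul_mem' := fun {a b} ha hb => ⟨Subgroup.mul_mem _ ha.1 hb.1, by
        rw [(show Commute a b from hab a ha.1 b hb.1).mul_pow, ha.2, hb.2, one_mul]⟩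
      inv_mem' := fun {a} ha => ⟨Subgroup.inv_mem _ ha.1, by rw [inv_pow, ha.2, inv_one]⟩ }
  have hE : E.Normal := ⟨fun a ha g => ⟨(inferInstance : (commutator Q).Normal).conj_mem _ ha.1 g,
    by rw [conj_pow, ha.2, mul_one, mul_inv_cancel]⟩⟩
  refine ⟨q, hq, fun c hc => (hmin E hE (fun h => hq.ne_one ?_) hc).2⟩
  have h1 : z ∈ E := ⟨hz, by rw [← hzo, pow_orderOf_eq_one]⟩
  rw [h, Subgroup.mem_bot] at h1
  rw [← hzo, h1, orderOf_one]

/-- A minimal non-abelian quotient of a solvable group. -/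
theorem exists_split {G : Type u} [Group G] [Finite G] [Group.IsSolvable G]
    (hna : commutator G ≠ ⊥) :
    ∃ (N K : Subgroup G) (q : ℕ), N.Normal ∧ K.Normal ∧ q.Prime ∧ N ≤ K ∧ commutator G ≤ K ∧
      ¬ commutator G ≤ N ∧ ⁅K, K⁆ ≤ N ∧ (∀ k ∈ K, ∃ m : ℕ, k ^ q ^ m ∈ N) ∧
      ((∀ g : G, ∃ m : ℕ, g ^ q ^ m ∈ N) ∨
        (K ≠ ⊤ ∧ ∀ g ∉ K, ∀ k ∈ K, ∃ k' ∈ K, k⁻¹ * (g * k' * g⁻¹ * k'⁻¹) ∈ N)) := by
  obtain ⟨N, ⟨hN, hnN⟩, hmax⟩ := Set.Finite.exists_maximal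
    (s := {N : Subgroup G | N.Normal ∧ ¬ commutator G ≤ N}) (Set.toFinite _)
    ⟨⊥, inferInstance, fun h => hna (le_bot_iff.mp h)⟩
  let π := QuotientGroup.mk' N
  have hπ : Function.Surjective π := QuotientGroup.mk'_surjective N
  have hcm : commutator (G ⧸ N) = (commutator G).map π := by
    rw [commutator_def, commutator_def, Subgroup.map_commutator,
      Subgroup.map_top_of_surjective _ hπ]
  have hne : commutator (G ⧸ N) ≠ ⊥ := by
    rw [hcm, Ne, Subgroup.map_eq_bot_iff, QuotientGroup.ker_mk']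
    exact hnN
  have hmin : ∀ M : Subgroup (G ⧸ N), M.Normal → M ≠ ⊥ → commutator (G ⧸ N) ≤ M := by
    intro M hM hMne
    have hle : N ≤ M.comap π := fun x hx => by
      rw [Subgroup.mem_comap, show π x = 1 from (QuotientGroup.eq_one_iff x).mpr hx]
      exact M.one_mem
    have hG : commutator G ≤ M.comap π := by
      by_contra h
      have h2 := hmax ⟨hM.comap π, h⟩ hle
      refine hMne ((Subgroup.eq_bot_iff_forall _).mpr fun y hy => ?_)
      obtain ⟨x, rfl⟩ := hπ y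
      exact (QuotientGroup.eq_one_iff x).mpr (h2 hy)
    rw [hcm]
    exact Subgroup.map_le_iff_le_comap.mpr hG
  have hab : ∀ a ∈ commutator (G ⧸ N), ∀ b ∈ commutator (G ⧸ N), a * b = b * a := by
    have hsol : Group.IsSolvable (G ⧸ N) := inferInstance
    have hlt := Group.IsSolvable.commutator_lt_of_ne_bot hne
    intro a ha b hb
    have hbot : ⁅commutator (G ⧸ N), commutator (G ⧸ N)⁆ = ⊥ := by
      by_contra h
      exact hlt.not_ge (hmin _ inferInstance h)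
    have := Subgroup.commutator_mem_commutator ha hb
    rw [hbot, Subgroup.mem_bot, commutatorElement_eq_one_iff_mul_comm] at this
    exact this
  obtain ⟨q₀, hq₀, hpow⟩ := pow_eq_one_of_minimal hne hmin hab
  set K := (commutator (G ⧸ N)).comap π with hK
  have hKn : K.Normal := (inferInstance : (commutator (G ⧸ N)).Normal).comap π
  have hNK : N ≤ K := fun x hx => by
    rw [hK, Subgroup.mem_comap, show π x = 1 from (QuotientGroup.eq_one_iff x).mpr hx]
    exact Subgroup.one_mem _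
  have hGK : commutator G ≤ K := by
    rw [hK, ← Subgroup.map_le_iff_le_comap, ← hcm]
  have hKK : ⁅K, K⁆ ≤ N := by
    refine Subgroup.commutator_le.mpr fun a ha b hb => (QuotientGroup.eq_one_iff _).mp ?_
    rw [← QuotientGroup.mk'_apply, map_commutatorElement, commutatorElement_eq_one_iff_mul_comm]
    exact hab _ ha _ hb
  by_cases hc : commutator (G ⧸ N) ≤ Subgroup.center (G ⧸ N)
  · obtain ⟨q, hq, hQ⟩ := isPGroup_of_minimal_central hne hmin hc
    have h : ∀ g : G, ∃ m : ℕ, g ^ q ^ m ∈ N := fun g => by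
      obtain ⟨m, hm⟩ := hQ (π g)
      exact ⟨m, (QuotientGroup.eq_one_iff _).mp (by rw [← QuotientGroup.mk'_apply, map_pow]; exact hm)⟩
    exact ⟨N, K, q, hN, hKn, hq, hNK, hGK, hnN, hKK, fun k _ => h k, Or.inl h⟩
  refine ⟨N, K, q₀, hN, hKn, hq₀, hNK, hGK, hnN, hKK, fun k hk => ⟨1, ?_⟩,
    Or.inr ⟨fun h => hc ?_, fun g hg k hk => ?_⟩⟩
  · rw [pow_one]
    refine (QuotientGroup.eq_one_iff _).mp ?_
    rw [← QuotientGroup.mk'_apply, map_pow]
    exact hpow _ hk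
  · intro c hcc
    refine Subgroup.mem_center_iff.mpr fun y => ?_
    obtain ⟨x, rfl⟩ := hπ y
    exact hab _ (show π x ∈ commutator (G ⧸ N) from (h ▸ Subgroup.mem_top x : x ∈ K)) _ hcc
  · obtain ⟨k', hk', he⟩ := fpf_of_minimal hmin hab hc (g := π g) hg hk
    obtain ⟨x, rfl⟩ := hπ k'
    refine ⟨x, hk', (QuotientGroup.eq_one_iff _).mp ?_⟩
    rw [← QuotientGroup.mk'_apply, map_mul, map_inv]
    simp only [map_mul, map_inv]
    rw [he, inv_mul_cancel]

end Structure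

section Degrees

variable {G : Type u} [Group G] [Fintype G] (K : Subgroup G) [K.Normal] [Fintype K]

/-- Degrees over an abelian quotient. -/
theorem degree_abelian_quotient (hab : commutator G ≤ K) (χ : Cfsg.IrrCharacter G)
    (ψ : Cfsg.IrrCharacter K)
    (h0 : Cfsg.classInner (fun k : K => (χ : G → ℂ) k) (ψ : K → ℂ) ≠ 0) :
    ∃ e n : ℕ, 0 < e ∧
      Cfsg.classInner (fun k : K => (χ : G → ℂ) k) (ψ : K → ℂ) = e ∧
      Cfsg.charDegree (χ : G → ℂ) = e * (orbit K ψ).card * Cfsg.charDegree (ψ : K → ℂ) ∧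
      n * (e * e * (orbit K ψ).card) = K.index ∧
      n * e * Cfsg.charDegree (χ : G → ℂ) = K.index * Cfsg.charDegree (ψ : K → ℂ) := by
  classical
  obtain ⟨e, he⟩ := classInner_char_nat (isCharacter_res K (isCharacter_of_isIrr χ.2))
    (isCharacter_of_isIrr ψ.2)
  have he0 : 0 < e := Nat.pos_of_ne_zero fun h => h0 (by rw [he, h, Nat.cast_zero])
  have hd := degree_eq_mul_card_orbit K χ.2 ψ h0
  rw [he, ← coe_charDegree_irr χ, ← coe_charDegree_irr ψ] at hd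
  have hd' : Cfsg.charDegree (χ : G → ℂ) = e * (orbit K ψ).card * Cfsg.charDegree (ψ : K → ℂ) := by
    exact_mod_cast hd
  have habq : ∀ a b : G ⧸ K, a * b = b * a :=
    (Subgroup.Normal.quotient_commutative_iff_commutator_le.mpr hab).is_comm.comm
  set S := Finset.univ.filter fun φ : Cfsg.IrrCharacter G =>
    Cfsg.classInner (fun k : K => (φ : G → ℂ) k) (ψ : K → ℂ) ≠ 0
  have hS : ∀ φ ∈ S, (φ : G → ℂ) 1 * Cfsg.classInner (fun k : K => (φ : G → ℂ) k) (ψ : K → ℂ) =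
      ((e * Cfsg.charDegree (χ : G → ℂ) : ℕ) : ℂ) := by
    intro φ hφ
    obtain ⟨l, hl⟩ := exists_eq_linear_mul_of_over K habq χ.2 φ.2 ψ.2 h0
      (Finset.mem_filter.mp hφ).2
    have hres : (fun k : K => (φ : G → ℂ) k) = fun k : K => (χ : G → ℂ) k := funext fun k => by
      rw [hl]
      show ((l ((k : G) : G ⧸ K)) : ℂ) * _ = _
      rw [(QuotientGroup.eq_one_iff (k : G)).mpr k.2, map_one, Units.val_one, one_mul]
    rw [hres, he, hl]
    show ((l ((1 : G) : G ⧸ K)) : ℂ) * (χ : G → ℂ) 1 * (e : ℂ) = _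
    rw [QuotientGroup.mk_one, map_one, Units.val_one, one_mul, Nat.cast_mul, coe_charDegree_irr]
    ring
  have hsum := sum_degree_mul_classInner_res K ψ.2
  rw [← Finset.sum_filter_ne_zero, Finset.filter_congr (q := fun φ => φ ∈ S) fun φ _ => by
      simp only [S, Finset.mem_filter, Finset.mem_univ, true_and, ne_eq, mul_eq_zero, not_or,
        irr_one_ne_zero φ.2, not_false_iff],
    Finset.filter_univ_mem, Finset.sum_congr rfl hS, Finset.sum_const, nsmul_eq_mul,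
    ← coe_charDegree_irr ψ, ← Nat.cast_mul, ← Nat.cast_mul, Nat.cast_inj] at hsum
  refine ⟨e, S.card, he0, he, hd', ?_, by rw [mul_assoc]; exact hsum⟩
  refine Nat.eq_of_mul_eq_mul_right (charDegree_pos ψ.2) ?_
  rw [← hsum, hd']
  ring

/-- Across an abelian `q`-quotient a `q'`-degree character restricts irreducibly. -/
theorem res_irr_of_qPower (hab : commutator G ≤ K) {q : ℕ} (hq : q.Prime)
    (hidx : ∃ c, K.index = q ^ c) (χ : Cfsg.IrrCharacter G)
    (hχ : ¬ q ∣ Cfsg.charDegree (χ : G → ℂ)) :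
    Cfsg.IsIrrCharacter K (fun k : K => (χ : G → ℂ) k) := by
  classical
  obtain ⟨θ, hθ, h0⟩ := exists_constituent (isCharacter_res K (isCharacter_of_isIrr χ.2))
    (fun h => irr_one_ne_zero χ.2 (by simpa using congrFun h 1))
  obtain ⟨e, n, -, he, hd, hn, -⟩ := degree_abelian_quotient K hab χ ⟨θ, hθ⟩ h0
  obtain ⟨c, hc⟩ := hidx
  have hone : ∀ a : ℕ, a ∣ Cfsg.charDegree (χ : G → ℂ) → a ∣ q ^ c → a = 1 := fun a h1 h2 => by
    obtain ⟨i, -, rfl⟩ := (Nat.dvd_prime_pow hq).mp h2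
    rcases i with _ | i
    · rfl
    · exact absurd ((dvd_pow_self q i.succ_ne_zero).trans h1) hχ
  have he1 : e = 1 := hone e (by rw [hd, mul_assoc]; exact dvd_mul_right _ _)
    (by rw [← hc, ← hn]; exact ⟨n * (e * (orbit K ⟨θ, hθ⟩).card), by ring⟩)
  have ht : (orbit K ⟨θ, hθ⟩).card = 1 :=
    hone _ (by rw [hd]; exact ⟨e * Cfsg.charDegree θ, by ring⟩)
    (by rw [← hc, ← hn]; exact ⟨n * (e * e), by ring⟩)
  have hres := res_eq_smul_sum_orbit K χ.2 ⟨θ, hθ⟩ h0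
  obtain ⟨a, ha⟩ := Finset.card_eq_one.mp ht
  have haθ : (⟨θ, hθ⟩ : Cfsg.IrrCharacter K) = a :=
    Finset.mem_singleton.mp (ha ▸ self_mem_orbit K _)
  rw [he, he1, Nat.cast_one, one_smul, ha, Finset.sum_singleton, ← haθ] at hres
  rw [hres]
  exact hθ

end Degrees

section Quotient

variable {G : Type u} [Group G] [Fintype G]

theorem index_subgroupOf_qPower {N K : Subgroup G} [N.Normal] {q : ℕ} (hq : q.Prime)
    (hpow : ∀ k ∈ K, ∃ m : ℕ, k ^ q ^ m ∈ N) : ∃ c, (N.subgroupOf K).index = q ^ c := by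
  have : Fact q.Prime := ⟨hq⟩
  have h : IsPGroup q (K ⧸ N.subgroupOf K) := fun x => by
    obtain ⟨⟨k, hk⟩, rfl⟩ := QuotientGroup.mk_surjective x
    obtain ⟨m, hm⟩ := hpow k hk
    refine ⟨m, ?_⟩
    rw [← QuotientGroup.mk_pow, QuotientGroup.eq_one_iff]
    exact Subgroup.mem_subgroupOf.mpr hm
  exact IsPGroup.iff_card.mp h

theorem commutator_le_subgroupOf {N K : Subgroup G} (hKK : ⁅K, K⁆ ≤ N) :
    commutator K ≤ N.subgroupOf K := by
  rw [Subgroup.subgroupOf, ← Subgroup.map_le_iff_le_comap, Subgroup.map_subtype_commutator]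
  exact hKK

/-- In the `q`-group case a `q'`-degree can be multiplied by a non-linear degree of the quotient. -/
theorem exists_degree_mul_of_qGroup {N K : Subgroup G} [N.Normal] [K.Normal] {q : ℕ} (hq : q.Prime)
    (hNK : N ≤ K) (hGK : commutator G ≤ K) (hnN : ¬ commutator G ≤ N) (hKK : ⁅K, K⁆ ≤ N)
    (hpow : ∀ g : G, ∃ m : ℕ, g ^ q ^ m ∈ N) (χ : Cfsg.IrrCharacter G)
    (hχ : ¬ q ∣ Cfsg.charDegree (χ : G → ℂ)) :
    ∃ φ : Cfsg.IrrCharacter G,
      Cfsg.charDegree (χ : G → ℂ) * q ∣ Cfsg.charDegree (φ : G → ℂ) := by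
  classical
  have := Fintype.ofFinite K
  have := Fintype.ofFinite N
  have := Fintype.ofFinite (G ⧸ N)
  have := Fintype.ofFinite (N.subgroupOf K)
  have hidxN : ∃ c, N.index = q ^ c := by
    have : Fact q.Prime := ⟨hq⟩
    exact IsPGroup.iff_card.mp fun x => by
      obtain ⟨g, rfl⟩ := QuotientGroup.mk_surjective x
      obtain ⟨m, hm⟩ := hpow g
      exact ⟨m, by rw [← QuotientGroup.mk_pow, QuotientGroup.eq_one_iff]; exact hm⟩
  have hidxK : ∃ c, K.index = q ^ c := by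
    obtain ⟨c, hc⟩ := hidxN
    obtain ⟨i, -, hi⟩ := (Nat.dvd_prime_pow hq).mp (hc ▸ Subgroup.index_dvd_of_le hNK)
    exact ⟨i, hi⟩
  have hψ := res_irr_of_qPower K hGK hq hidxK χ hχ
  have hdψ : Cfsg.charDegree (fun k : K => (χ : G → ℂ) k) = Cfsg.charDegree (χ : G → ℂ) :=
    charDegree_eq (by rw [coe_charDegree_irr]; rfl)
  have hM := res_irr_of_qPower (N.subgroupOf K) (commutator_le_subgroupOf hKK) hq
    (index_subgroupOf_qPower hq fun k _ => hpow k) ⟨_, hψ⟩ (by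
      show ¬ q ∣ Cfsg.charDegree (fun k : K => (χ : G → ℂ) k)
      rwa [hdψ])
  have hN : Cfsg.IsIrrCharacter N (fun n : N => (χ : G → ℂ) n) :=
    isIrr_comp_mulEquiv hM (Subgroup.subgroupOfEquivOfLe hNK).symm
  obtain ⟨β, hβ1⟩ : ∃ β : Cfsg.IrrCharacter (G ⧸ N), (β : G ⧸ N → ℂ) 1 ≠ 1 := by
    by_contra h
    push Not at h
    refine hnN (Subgroup.Normal.quotient_commutative_iff_commutator_le.mp ?_)
    exact ⟨⟨comm_iff_forall_linear.mpr h⟩⟩
  let φ : Cfsg.IrrCharacter G :=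
    ⟨_, isIrr_mul_comp_mk' N (isCharacter_of_isIrr χ.2) hN β.2⟩
  refine ⟨φ, ?_⟩
  have hφd : Cfsg.charDegree (φ : G → ℂ) =
      Cfsg.charDegree (χ : G → ℂ) * Cfsg.charDegree (β : G ⧸ N → ℂ) := charDegree_eq (by
    rw [Nat.cast_mul, coe_charDegree_irr, coe_charDegree_irr]
    show ((χ : G → ℂ) * _) 1 = _
    rw [Pi.mul_apply, apply_comp_mk'_one])
  rw [hφd]
  refine mul_dvd_mul_left _ ?_
  obtain ⟨c, hc⟩ := hidxN
  obtain ⟨i, -, hi⟩ := (Nat.dvd_prime_pow hq).mp (hc ▸ charDegree_dvd_card β.2 :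
    Cfsg.charDegree (β : G ⧸ N → ℂ) ∣ q ^ c)
  rcases i with _ | i
  · exact absurd (by rw [← coe_charDegree_irr, hi, pow_zero, Nat.cast_one]) hβ1
  · rw [hi]; exact dvd_pow_self q i.succ_ne_zero

/-- In the fixed-point-free case a `q'`-degree of the kernel can be multiplied by its index. -/
theorem exists_degree_mul_of_free {N K : Subgroup G} [N.Normal] [K.Normal] [Fintype K] {q : ℕ}
    (hq : q.Prime) (hGK : commutator G ≤ K) (hKN : ¬ K ≤ N) (hKK : ⁅K, K⁆ ≤ N)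
    (hpow : ∀ k ∈ K, ∃ m : ℕ, k ^ q ^ m ∈ N)
    (hfree : ∀ g ∉ K, ∀ k ∈ K, ∃ k' ∈ K, k⁻¹ * (g * k' * g⁻¹ * k'⁻¹) ∈ N)
    (ψ : Cfsg.IrrCharacter K) (hψ : ¬ q ∣ Cfsg.charDegree (ψ : K → ℂ)) :
    ∃ φ : Cfsg.IrrCharacter G,
      K.index * Cfsg.charDegree (ψ : K → ℂ) ∣ Cfsg.charDegree (φ : G → ℂ) := by
  classical
  set M := N.subgroupOf K with hMdef
  have := Fintype.ofFinite M
  have hM := res_irr_of_qPower M (commutator_le_subgroupOf hKK) hq
    (index_subgroupOf_qPower hq hpow) ψ hψ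
  let Λ := {l : K →* ℂˣ // ∀ k ∈ M, l k = 1}
  let F : (K →* ℂˣ) → K → ℂ := fun l => (ψ : K → ℂ) * fun k => ((l k : ℂˣ) : ℂ)
  have hFi : ∀ l : K →* ℂˣ, Cfsg.IsIrrCharacter K (F l) := fun l =>
    isIrr_mul_linear ψ.2 (isCharacter_of_isIrr (isIrrCharacter_units_hom l)) (by simp)
  have hFc : ∀ l, Cfsg.IsClassFunction K (F l) := fun l => isClassFunction_of_isIrr (hFi l)
  have hinj : ∀ l₁ l₂ : K →* ℂˣ, (∀ k ∈ M, l₁ k = 1) → (∀ k ∈ M, l₂ k = 1) → F l₁ = F l₂ →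
      l₁ = l₂ := fun l₁ l₂ h₁ h₂ he => by
    have hb := mul_comp_mk'_injective M (isCharacter_of_isIrr ψ.2) hM
      (β := fun x => ((QuotientGroup.lift M l₁ (fun k hk => h₁ k hk) x : ℂˣ) : ℂ))
      (β' := fun x => ((QuotientGroup.lift M l₂ (fun k hk => h₂ k hk) x : ℂˣ) : ℂ))
      (isIrrCharacter_units_hom _) (isIrrCharacter_units_hom _) he
    exact MonoidHom.ext fun k => Units.ext (congrFun hb (k : K ⧸ M))
  have hconj : ∀ (g : G) (l : K →* ℂˣ),
      conjFun K g (F l) = conjFun K g (ψ : K → ℂ) * fun k => ((conjHom g l k : ℂˣ) : ℂ) :=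
    fun g l => funext fun k => by
      simp only [F, Pi.mul_apply, conjFun_apply, conjHom_apply]
  have hconjM : ∀ (g : G) (l : K →* ℂˣ), (∀ k ∈ M, l k = 1) → ∀ k ∈ M, conjHom g l k = 1 :=
    fun g l hl k hk => by
      rw [conjHom_apply]
      exact hl _ (Subgroup.mem_subgroupOf.mpr
        ((inferInstance : N.Normal).conj_mem _ (Subgroup.mem_subgroupOf.mp hk) g))
  -- an element outside `K` fixes at most one extension
  have huniq : ∀ g ∉ K, ∀ l₁ l₂ : K →* ℂˣ, (∀ k ∈ M, l₁ k = 1) → (∀ k ∈ M, l₂ k = 1) →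
      conjFun K g (F l₁) = F l₁ → conjFun K g (F l₂) = F l₂ → l₁ = l₂ := by
    intro g hg l₁ l₂ h₁ h₂ f₁ f₂
    rw [hconj] at f₁ f₂
    have he : F (l₁ * conjHom g l₂) = F (l₂ * conjHom g l₁) := funext fun k => by
      have e₁ := congrFun f₁ k
      have e₂ := congrFun f₂ k
      simp only [F, Pi.mul_apply, MonoidHom.mul_apply, Units.val_mul] at e₁ e₂ ⊢
      linear_combination -((conjHom g l₂ k : ℂˣ) : ℂ) * e₁ + ((conjHom g l₁ k : ℂˣ) : ℂ) * e₂
    have heq := hinj _ _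
      (fun k hk => by rw [MonoidHom.mul_apply, h₁ k hk, hconjM g l₂ h₂ k hk, one_mul])
      (fun k hk => by rw [MonoidHom.mul_apply, h₂ k hk, hconjM g l₁ h₁ k hk, one_mul]) he
    refine MonoidHom.ext fun k => ?_
    obtain ⟨k', hk', hkn⟩ := hfree g hg k k.2
    let k₁ : K := ⟨k', hk'⟩
    let k₂ : K := ⟨g * k' * g⁻¹, (inferInstance : K.Normal).conj_mem k' hk' g⟩
    have hw : k⁻¹ * (k₂ * k₁⁻¹) ∈ M := Subgroup.mem_subgroupOf.mpr hkn
    have e₁ := h₁ _ hw
    have e₂ := h₂ _ hw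
    simp only [map_mul, map_inv, inv_mul_eq_one] at e₁ e₂
    have e₃ := DFunLike.congr_fun heq k₁
    simp only [MonoidHom.mul_apply, conjHom_apply] at e₃
    rw [e₁, e₂]
    calc l₁ k₂ * (l₁ k₁)⁻¹ = l₁ k₂ * l₂ k₁ * ((l₁ k₁)⁻¹ * (l₂ k₁)⁻¹) := by
          rw [mul_comm (l₁ k₁)⁻¹, mul_assoc, mul_inv_cancel_left]
      _ = l₂ k₂ * l₁ k₁ * ((l₁ k₁)⁻¹ * (l₂ k₁)⁻¹) := by
          rw [mul_comm (l₁ k₂), show l₂ k₁ * l₁ k₂ = l₁ k₁ * l₂ k₂ from e₃.symm,
            mul_comm (l₁ k₁)]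
      _ = l₂ k₂ * (l₂ k₁)⁻¹ := by rw [mul_assoc, mul_inv_cancel_left]
  -- hence some extension has inertia group `K`
  obtain ⟨l, hl, hst⟩ : ∃ l : K →* ℂˣ, (∀ k ∈ M, l k = 1) ∧
      ∀ g ∉ K, conjFun K g (F l) ≠ F l := by
    by_contra hcon
    push Not at hcon
    obtain ⟨g₀, hg₀, hfix⟩ := hcon 1 fun _ _ => rfl
    obtain ⟨l, hl, hl1⟩ : ∃ l : K →* ℂˣ, (∀ k ∈ M, l k = 1) ∧ l ≠ 1 := by
      let _ : CommGroup (K ⧸ M) :=
        { (inferInstance : Group (K ⧸ M)) with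
          mul_comm := (Subgroup.Normal.quotient_commutative_iff_commutator_le.mpr
            (commutator_le_subgroupOf hKK)).is_comm.comm }
      obtain ⟨k, hk, hkN⟩ := SetLike.not_le_iff_exists.mp hKN
      have hne : ((⟨k, hk⟩ : K) : K ⧸ M) ≠ 1 := fun h =>
        hkN (Subgroup.mem_subgroupOf.mp ((QuotientGroup.eq_one_iff _).mp h))
      have : NeZero (Monoid.exponent (K ⧸ M) : ℂ) :=
        ⟨by exact_mod_cast Monoid.exponent_ne_zero_of_finite⟩
      obtain ⟨φ, hφ⟩ := CommGroup.exists_apply_ne_one_of_hasEnoughRootsOfUnity (K ⧸ M) ℂ hne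
      refine ⟨φ.comp (QuotientGroup.mk' M), fun w hw => ?_, fun h => hφ (DFunLike.congr_fun h _)⟩
      rw [MonoidHom.comp_apply, QuotientGroup.mk'_apply, (QuotientGroup.eq_one_iff w).mpr hw,
        map_one]
    obtain ⟨g₁, hg₁, hfix₁⟩ := hcon l hl
    have hψ0 : conjFun K g₀ (ψ : K → ℂ) = (ψ : K → ℂ) := by
      have h1 : F 1 = (ψ : K → ℂ) := funext fun k => by simp [F]
      rwa [h1] at hfix
    have hmove : conjFun K g₀ (F l) = F (conjHom g₀ l) := by rw [hconj, hψ0]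
    have hcm : (g₁ * g₀)⁻¹ * (g₀ * g₁) ∈ K := by
      refine hGK ?_
      rw [show (g₁ * g₀)⁻¹ * (g₀ * g₁) = g₀⁻¹ * g₁⁻¹ * g₀⁻¹⁻¹ * g₁⁻¹⁻¹ by group,
        ← commutatorElement_def]
      exact Subgroup.commutator_mem_commutator (Subgroup.mem_top _) (Subgroup.mem_top _)
    have hfix₁' : conjFun K g₁ (F (conjHom g₀ l)) = F (conjHom g₀ l) := by
      rw [← hmove, conjFun_conjFun]
      conv_rhs => rw [← hfix₁, conjFun_conjFun]
      rw [show g₀ * g₁ = (g₁ * g₀) * ((g₁ * g₀)⁻¹ * (g₀ * g₁)) by group, ← conjFun_conjFun,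
        conjFun_of_mem K ?_ hcm]
      rw [← conjFun_conjFun, hfix₁, hmove]
      exact hFc _
    have hinv := huniq g₁ hg₁ _ l (hconjM g₀ l hl) hl hfix₁' hfix₁
    refine hl1 (huniq g₀ hg₀ l 1 hl (fun _ _ => rfl) ?_ hfix)
    rw [hmove, hinv]
  obtain ⟨φ, hφ⟩ := exists_irr_over K (hFi l)
  refine ⟨φ, ?_⟩
  obtain ⟨e, n, -, -, hd, -, -⟩ := degree_abelian_quotient K hGK φ ⟨F l, hFi l⟩ hφ
  rw [hd, card_orbit_eq_index]
  have hI : inertia K ((⟨F l, hFi l⟩ : Cfsg.IrrCharacter K) : K → ℂ) = K :=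
    le_antisymm (fun g hg => by_contra fun h => hst g h ((mem_inertia K).mp hg))
      (le_inertia K (hFc l))
  rw [hI, show Cfsg.charDegree ((⟨F l, hFi l⟩ : Cfsg.IrrCharacter K) : K → ℂ) =
      Cfsg.charDegree (ψ : K → ℂ) from charDegree_eq (by
        show F l 1 = _
        simp [F, coe_charDegree_irr])]
  exact ⟨e, by ring⟩

end Quotient

end CfsgLib.CharBlocks
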