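import Cfsg.Agent.Lib.CharBlocks.LinearConstituent

/-!
Inducing linear extensions from the inertia group.
-/

namespace CfsgLib.CharBlocks.InertiaInd

open Cfsg CfsgLib.Char

variable {G : Type*} [Group G] [Fintype G]

/-- A linear character of the inertia group of a linear `lam` extending it induces irreducibly, and
different extensions induce to different characters. -/
theorem isIrr_indFun (N H : Subgroup G) [N.Normal] [Fintype N] [Fintype H] (hNH : N ≤ H)
    (lam : N →* ℂˣ) (hH : H = CharNormal.inertia N (fun n : N => (lam n : ℂ)))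
    (f : H →* ℂˣ) (hf : ∀ n : N, f ⟨n, hNH n.2⟩ = lam n) :
    IsIrrCharacter G (Cfsg.indFun H (fun h : H => (f h : ℂ))) ∧
      ∀ f' : H →* ℂˣ, (∀ n : N, f' ⟨n, hNH n.2⟩ = lam n) →
        Cfsg.indFun H (fun h : H => (f' h : ℂ)) = Cfsg.indFun H (fun h : H => (f h : ℂ)) → f' = f := by
  classical
  set l : N → ℂ := fun n => (lam n : ℂ) with hldef
  have hl : IsIrrCharacter N l := isIrrCharacter_units_hom lam
  -- constituents of an induced extension
  have key : ∀ g : H →* ℂˣ, (∀ n : N, g ⟨n, hNH n.2⟩ = lam n) → ∀ X : IrrCharacter G,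
      classInner (Cfsg.indFun H (fun h : H => (g h : ℂ))) (X : G → ℂ) ≠ 0 →
      Cfsg.indFun H (fun h : H => (g h : ℂ)) = (X : G → ℂ) ∧
      classInner (fun n : N => (X : G → ℂ) n) l = 1 := by
    intro g hg X hX0
    set ψ : H → ℂ := fun h => (g h : ℂ) with hψdef
    have hψ : IsIrrCharacter H ψ := isIrrCharacter_units_hom g
    have hind : IsCharacter G (Cfsg.indFun H ψ) := isCharacter_indFun H (isCharacter_of_isIrr hψ)
    have hle := constituent_degree_le hind X.2 hX0
    have hψX : classInner (fun h : H => (X : G → ℂ) h) ψ ≠ 0 := by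
      intro e
      apply hX0
      rw [frobenius_reciprocity H _ (isClassFunction_of_isIrr X.2), ← classInner_conj_symm, e, map_zero]
    have h1 := LinConst.classInner_res_ne_zero H N hNH X g hψX
    simp only [hg] at h1
    obtain ⟨e, he⟩ := classInner_char_nat (isCharacter_res N (isCharacter_of_isIrr X.2))
      (isCharacter_of_isIrr hl)
    have he0 : e ≠ 0 := fun e0 => h1 (by rw [he, e0, Nat.cast_zero])
    have hdeg := CharNormal.degree_eq_mul_card_orbit N X.2 ⟨l, hl⟩ h1
    rw [CharNormal.card_orbit_eq_index N ⟨l, hl⟩] at hdeg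
    change (X : G → ℂ) 1 = classInner (fun x : N => (X : G → ℂ) x) l *
      ((CharNormal.inertia N l).index : ℂ) * l 1 at hdeg
    have hl1 : l 1 = 1 := by simp [hldef]
    have hi1 : Cfsg.indFun H ψ 1 = ((H.index : ℕ) : ℂ) := by simp [indFun_one, hψdef]
    rw [hl1, mul_one, he, ← hH, ← Nat.cast_mul] at hdeg
    rw [hi1, hdeg, Complex.natCast_re, Complex.natCast_re, Nat.cast_le] at hle
    have he1 : e = 1 := by
      have h2 : e * H.index ≤ 1 * H.index := by rwa [one_mul]
      have := Nat.le_of_mul_le_mul_right h2 (Nat.pos_of_ne_zero Subgroup.index_ne_zero_of_finite)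
      omega
    refine ⟨?_, by rw [he, he1, Nat.cast_one]⟩
    obtain ⟨m, hm, hmi⟩ := char_decomp hind
    have hm0 : m X ≠ 0 := fun h => hX0 (by rw [hmi X, h, Nat.cast_zero])
    have hs := congrFun hm 1
    rw [hi1] at hs
    simp only [Finset.sum_apply, Pi.smul_apply, smul_eq_mul, ← coe_charDegree_irr] at hs
    have hs' : H.index = ∑ φ, m φ * charDegree (φ : G → ℂ) := by exact_mod_cast hs
    rw [he1, one_mul] at hdeg
    have hXd : charDegree (X : G → ℂ) = H.index := charDegree_eq hdeg
    have hsplit := Finset.add_sum_erase Finset.univ (fun φ => m φ * charDegree (φ : G → ℂ))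
      (Finset.mem_univ X)
    rw [← hs'] at hsplit
    simp only [hXd] at hsplit
    have hmX : m X = 1 := by
      have h2 : m X * H.index ≤ 1 * H.index := by rw [one_mul]; omega
      have := Nat.le_of_mul_le_mul_right h2 (Nat.pos_of_ne_zero Subgroup.index_ne_zero_of_finite)
      omega
    rw [hmX, one_mul] at hsplit
    have hz := Finset.sum_eq_zero_iff.1 (Nat.add_eq_left.1 hsplit)
    have hrest : ∀ φ, φ ≠ X → m φ = 0 := fun φ hφ =>
      (mul_eq_zero.1 (hz φ (Finset.mem_erase.2 ⟨hφ, Finset.mem_univ _⟩))).resolve_right (charDegree_pos φ.2).ne'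
    rw [hm, Finset.sum_eq_single X (fun φ _ hφ => by simp [hrest φ hφ]) (by simp), hmX]
    simp
  have hψ : IsIrrCharacter H (fun h : H => (f h : ℂ)) := isIrrCharacter_units_hom f
  have hne : Cfsg.indFun H (fun h : H => (f h : ℂ)) ≠ 0 := by
    intro e
    have := congrFun e 1
    rw [indFun_one] at this
    simp [Subgroup.index_ne_zero_of_finite] at this
  obtain ⟨X, hX, hX0⟩ := exists_constituent (isCharacter_indFun H (isCharacter_of_isIrr hψ)) hne
  obtain ⟨hfX, he1⟩ := key f hf ⟨X, hX⟩ hX0
  refine ⟨hfX ▸ hX, fun f' hf' heq => ?_⟩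
  by_contra hneq
  have hψ' : IsIrrCharacter H (fun h : H => (f' h : ℂ)) := isIrrCharacter_units_hom f'
  obtain ⟨m, hm, hmi⟩ := char_decomp (isCharacter_res H (isCharacter_of_isIrr hX))
  choose k hk using fun η : IrrCharacter H => classInner_char_nat
    (isCharacter_comp (isCharacter_of_isIrr η.2) (Subgroup.inclusion hNH)) (isCharacter_of_isIrr hl)
  have hmono : ∀ (g : H →* ℂˣ), (∀ n : N, g ⟨n, hNH n.2⟩ = lam n) →
      Cfsg.indFun H (fun h : H => (g h : ℂ)) = X →
      1 ≤ m ⟨_, isIrrCharacter_units_hom g⟩ * k ⟨_, isIrrCharacter_units_hom g⟩ := by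
    intro g hg hgX
    have h1 : m ⟨_, isIrrCharacter_units_hom g⟩ ≠ 0 := by
      intro e
      have h2 := hmi ⟨_, isIrrCharacter_units_hom g⟩
      rw [e, Nat.cast_zero] at h2
      have h3 : classInner (Cfsg.indFun H (fun h : H => (g h : ℂ))) X = 0 := by
        rw [frobenius_reciprocity H _ (isClassFunction_of_isIrr hX), ← classInner_conj_symm]
        rw [show classInner (fun h : H => X h) (fun h : H => (g h : ℂ)) = 0 from h2, map_zero]
      rw [hgX, classInner_irr_self hX] at h3
      exact one_ne_zero h3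
    have h2 : k ⟨_, isIrrCharacter_units_hom g⟩ = 1 := by
      have := hk ⟨_, isIrrCharacter_units_hom g⟩
      have e : ((fun h : H => (g h : ℂ)) ∘ Subgroup.inclusion hNH : N → ℂ) = l := funext fun n =>
        congrArg Units.val (hg n)
      rw [show (((⟨_, isIrrCharacter_units_hom g⟩ : IrrCharacter H) : H → ℂ) ∘ Subgroup.inclusion hNH :
        N → ℂ) = l from e, classInner_irr_self hl] at this
      exact_mod_cast this.symm
    rw [h2, mul_one]
    omega
  have h1 := hmono f hf hfX
  have h2 := hmono f' hf' (heq.trans hfX)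
  have hd : (⟨_, isIrrCharacter_units_hom f⟩ : IrrCharacter H) ≠ ⟨_, isIrrCharacter_units_hom f'⟩ := by
    intro e
    apply hneq
    ext h
    exact (congrFun (congrArg Subtype.val e) h).symm
  have hsum : classInner (fun n : N => X n) l = ((∑ η, m η * k η : ℕ) : ℂ) := by
    have e : (fun n : N => X n) =
        ∑ η : IrrCharacter H, (m η : ℂ) • ((η : H → ℂ) ∘ Subgroup.inclusion hNH) := by
      funext x
      have := congrFun hm ⟨x, hNH x.2⟩
      simp only [Finset.sum_apply, Pi.smul_apply, smul_eq_mul, Function.comp_apply] at this ⊢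
      exact this
    rw [e, classInner_sum_left]
    push_cast
    simp only [classInner_smul_left, hk]
  rw [he1] at hsum
  have hs : ∑ η, m η * k η = 1 := by exact_mod_cast hsum.symm
  have := Finset.sum_le_sum_of_subset (f := fun η => m η * k η)
    (Finset.subset_univ ({⟨_, isIrrCharacter_units_hom f⟩, ⟨_, isIrrCharacter_units_hom f'⟩} : Finset (IrrCharacter H)))
  rw [Finset.sum_pair hd, hs] at this
  omega

end CfsgLib.CharBlocks.InertiaInd
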