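import Cfsg.Agent.Lib.CharBlocks.PrincipalColumn
import Cfsg.Agent.Lib.Blocks.Covering
import Cfsg.Agent.Lib.Char.Linear
import Cfsg.Agent.S4722
import Cfsg.Agent.S0942
import Mathlib.GroupTheory.Transfer

/-!
# Tools for a principal block with abelian defect group and inertial index three

* `sunflower`: integral vectors of norm three with mutual inner product two;
* the dual group of a finite abelian group: orthogonality and expansion;
* `lambda_of_normal_complement`: the squared degrees of the principal block of a group with a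
  normal `p`-complement;
* `column_eq_zero_of_inverted`: moments of block columns against elements inverted by an involution.
-/

set_option autoImplicit false

noncomputable section

namespace CfsgLib.CharBlocks.InertialThree

open Cfsg CfsgLib.Blocks
open scoped ComplexConjugate

section combinatorics

variable {ι Λ : Type*} [Fintype ι] [DecidableEq ι]

theorem support_card_three {v : ι → ℤ} (h : ∑ i, v i * v i = 3) :
    (Finset.univ.filter fun i => v i ≠ 0).card = 3 ∧ ∀ i, v i = 0 ∨ v i = 1 ∨ v i = -1 := by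
  have hle : ∀ i, v i * v i ≤ 3 := fun i => h ▸
    Finset.single_le_sum (f := fun j => v j * v j) (fun j _ => mul_self_nonneg (v j)) (Finset.mem_univ i)
  have htri : ∀ i, v i = 0 ∨ v i = 1 ∨ v i = -1 := fun i => by
    have h1 := hle i
    have h2 : -1 ≤ v i := by nlinarith
    have h3 : v i ≤ 1 := by nlinarith
    omega
  refine ⟨?_, htri⟩
  have h0 : ∀ i, v i * v i = if v i ≠ 0 then (1 : ℤ) else 0 := fun i => by
    rcases htri i with e | e | e <;> simp [e]
  rw [Finset.sum_congr rfl (fun i _ => h0 i), Finset.sum_boole] at h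
  exact_mod_cast h

theorem sum_eq_of_support {v : ι → ℤ} {a b c : ι} (hab : a ≠ b) (hac : a ≠ c) (hbc : b ≠ c)
    (hv : ∀ i, i ≠ a → i ≠ b → i ≠ c → v i = 0) (f : ι → ℤ) :
    ∑ i, v i * f i = v a * f a + v b * f b + v c * f c := by
  rw [← Finset.sum_subset (Finset.subset_univ ({a, b, c} : Finset ι)) (fun i _ hi => by
    simp only [Finset.mem_insert, Finset.mem_singleton, not_or] at hi
    rw [hv i hi.1 hi.2.1 hi.2.2, zero_mul])]
  rw [Finset.sum_insert (by simp [hab, hac]), Finset.sum_insert (by simp [hbc]), Finset.sum_singleton,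
    add_assoc]

theorem exists_support {v : ι → ℤ} (h : ∑ i, v i * v i = 3) :
    ∃ a b c : ι, a ≠ b ∧ a ≠ c ∧ b ≠ c ∧ (∀ i, i ≠ a → i ≠ b → i ≠ c → v i = 0) ∧
      (v a = 1 ∨ v a = -1) ∧ (v b = 1 ∨ v b = -1) ∧ (v c = 1 ∨ v c = -1) := by
  obtain ⟨hc3, htri⟩ := support_card_three h
  obtain ⟨a, b, c, hab, hac, hbc, he⟩ := Finset.card_eq_three.mp hc3
  have hnz : ∀ i, i = a ∨ i = b ∨ i = c → (v i = 1 ∨ v i = -1) := fun i hi => by
    have : i ∈ Finset.univ.filter fun i => v i ≠ 0 := by rw [he]; simpa using hi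
    exact (htri i).resolve_left (Finset.mem_filter.mp this).2
  refine ⟨a, b, c, hab, hac, hbc, fun i h1 h2 h3 => ?_, hnz a (by simp), hnz b (by simp), hnz c (by simp)⟩
  by_contra hne
  have : i ∈ ({a, b, c} : Finset ι) := he ▸ Finset.mem_filter.mpr ⟨Finset.mem_univ i, hne⟩
  simp [h1, h2, h3] at this

/-- `v` is carried by `{x, y, z}` with the prescribed values at `x`, `y`. -/
def IsPetal (v : ι → ℤ) (x y : ι) (a b : ℤ) (z : ι) : Prop :=
  z ≠ x ∧ z ≠ y ∧ v x = a ∧ v y = b ∧ (v z = 1 ∨ v z = -1) ∧ ∀ i, i ≠ x → i ≠ y → i ≠ z → v i = 0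

/-- The support of a vector. -/
def supp (v : ι → ℤ) : Finset ι := Finset.univ.filter fun i => v i ≠ 0

omit [DecidableEq ι] in
theorem mem_supp {v : ι → ℤ} {i : ι} : i ∈ supp v ↔ v i ≠ 0 := by simp [supp]

/-- Two vectors of norm three with inner product two share two entries and agree there. -/
theorem inner_two {v w : ι → ℤ} (hv : ∑ i, v i * v i = 3) (hw : ∑ i, w i * w i = 3)
    (hvw : ∑ i, v i * w i = 2) :
    (∀ i, i ∈ supp v → i ∈ supp w → v i = w i) ∧ (supp v ∩ supp w).card = 2 := by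
  obtain ⟨-, tv⟩ := support_card_three hv
  obtain ⟨-, tw⟩ := support_card_three hw
  have hd : ∑ i, (v i - w i) * (v i - w i) = 2 := by
    have : ∀ i, (v i - w i) * (v i - w i) = v i * v i + w i * w i - 2 * (v i * w i) := fun i => by ring
    rw [Finset.sum_congr rfl fun i _ => this i, Finset.sum_sub_distrib, Finset.sum_add_distrib,
      ← Finset.mul_sum, hv, hw, hvw]
    norm_num
  have hag : ∀ i, i ∈ supp v → i ∈ supp w → v i = w i := fun i h1 h2 => by
    have h := hd ▸ Finset.single_le_sum (f := fun j => (v j - w j) * (v j - w j))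
      (fun j _ => mul_self_nonneg _) (Finset.mem_univ i)
    rcases (tv i).resolve_left (mem_supp.mp h1) with a | a <;>
      rcases (tw i).resolve_left (mem_supp.mp h2) with b | b <;> rw [a, b] at h ⊢ <;> omega
  refine ⟨hag, ?_⟩
  have h0 : ∀ i, v i * w i = if i ∈ supp v ∩ supp w then (1 : ℤ) else 0 := fun i => by
    split_ifs with h
    · obtain ⟨h1, h2⟩ := Finset.mem_inter.mp h
      rw [← hag i h1 h2]
      rcases (tv i).resolve_left (mem_supp.mp h1) with a | a <;> rw [a] <;> norm_num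
    · simp only [Finset.mem_inter, mem_supp, not_and, not_not] at h
      by_cases h1 : v i = 0
      · rw [h1, zero_mul]
      · rw [h h1, mul_zero]
  rw [Finset.sum_congr rfl (fun i _ => h0 i), Finset.sum_boole, Finset.filter_univ_mem] at hvw
  exact_mod_cast hvw

theorem exists_third {S : Finset ι} (hS : S.card = 3) {x y : ι} (hxy : x ≠ y) (hx : x ∈ S) (hy : y ∈ S) :
    ∃ z, z ≠ x ∧ z ≠ y ∧ S = {x, y, z} := by
  have hsub : ({x, y} : Finset ι) ⊆ S := by
    intro i hi
    rcases Finset.mem_insert.mp hi with rfl | hi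
    · exact hx
    · exact (Finset.mem_singleton.mp hi).symm ▸ hy
  have h1 : (S \ {x, y}).card = 1 := by
    rw [Finset.card_sdiff_of_subset hsub, hS, Finset.card_pair hxy]
  obtain ⟨z, hz⟩ := Finset.card_eq_one.mp h1
  have hzm : z ∈ S \ {x, y} := hz ▸ Finset.mem_singleton_self z
  simp only [Finset.mem_sdiff, Finset.mem_insert, Finset.mem_singleton, not_or] at hzm
  refine ⟨z, hzm.2.1, hzm.2.2, ?_⟩
  rw [← Finset.sdiff_union_of_subset hsub, hz]
  ext i
  simp only [Finset.mem_union, Finset.mem_insert, Finset.mem_singleton]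
  tauto

theorem mem_right_of_inter_two {T S : Finset ι} {x y z : ι} (hS : S = {x, y, z})
    (h : (T ∩ S).card = 2) (hx : x ∉ T) : y ∈ T ∧ z ∈ T := by
  have hsub : T ∩ S ⊆ {y, z} := fun i hi => by
    rw [hS] at hi
    simp only [Finset.mem_inter, Finset.mem_insert, Finset.mem_singleton] at hi ⊢
    rcases hi.2 with rfl | h' | h'
    · exact absurd hi.1 hx
    · exact .inl h'
    · exact .inr h'
  have he : T ∩ S = {y, z} := Finset.eq_of_subset_of_card_le hsub (h ▸ Finset.card_le_two)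
  exact ⟨Finset.mem_of_mem_inter_left (s₂ := S) (he ▸ Finset.mem_insert_self y {z}),
    Finset.mem_of_mem_inter_left (s₂ := S) (he ▸ Finset.mem_insert_of_mem (Finset.mem_singleton_self z))⟩

theorem isPetal_of_supp {v : ι → ℤ} (h : ∑ i, v i * v i = 3) {x y z : ι} {a b : ℤ} (hzx : z ≠ x)
    (hzy : z ≠ y) (hS : supp v = {x, y, z}) (ha : v x = a) (hb : v y = b) : IsPetal v x y a b z := by
  refine ⟨hzx, hzy, ha, hb, ((support_card_three h).2 z).resolve_left (mem_supp.mp (by rw [hS]; simp)),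
    fun i h1 h2 h3 => ?_⟩
  by_contra hne
  have : i ∈ supp v := mem_supp.mpr hne
  rw [hS] at this
  simp [h1, h2, h3] at this

theorem sum_supp {v : ι → ℤ} {x y z : ι} (hxy : x ≠ y) (hxz : x ≠ z) (hyz : y ≠ z)
    (hS : supp v = {x, y, z}) (f : ι → ℤ) :
    ∑ i, v i * f i = v x * f x + v y * f y + v z * f z := by
  refine sum_eq_of_support hxy hxz hyz (fun i h1 h2 h3 => ?_) f
  by_contra hne
  have : i ∈ supp v := mem_supp.mpr hne
  rw [hS] at this
  simp [h1, h2, h3] at this

omit [Fintype ι] in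
theorem eq_triple {T : Finset ι} {a b c : ι} (hT : T.card = 3) (hab : a ≠ b) (hac : a ≠ c) (hbc : b ≠ c)
    (ha : a ∈ T) (hb : b ∈ T) (hc : c ∈ T) : T = {a, b, c} := by
  refine (Finset.eq_of_subset_of_card_le (fun i hi => ?_) ?_).symm
  · simp only [Finset.mem_insert, Finset.mem_singleton] at hi
    rcases hi with rfl | rfl | rfl <;> assumption
  · rw [hT, Finset.card_insert_of_notMem (by simp [hab, hac]), Finset.card_pair hbc]

/-- No tetrahedron: four vectors with degree sum `-1`. -/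
theorem tetrahedron_false {v₁ v₂ u w : ι → ℤ} {x y z₁ z₂ : ι} {d : ι → ℤ}
    (hxy : x ≠ y) (h1x : z₁ ≠ x) (h1y : z₁ ≠ y) (h2x : z₂ ≠ x) (h2y : z₂ ≠ y) (h12 : z₁ ≠ z₂)
    (n₁ : ∑ i, v₁ i * v₁ i = 3) (n₂ : ∑ i, v₂ i * v₂ i = 3) (nu : ∑ i, u i * u i = 3)
    (nw : ∑ i, w i * w i = 3) (i12 : ∑ i, v₁ i * v₂ i = 2)
    (iu1 : ∑ i, u i * v₁ i = 2) (iu2 : ∑ i, u i * v₂ i = 2)
    (iw1 : ∑ i, w i * v₁ i = 2) (iw2 : ∑ i, w i * v₂ i = 2) (iwu : ∑ i, w i * u i = 2)
    (d₁ : ∑ i, v₁ i * d i = -1) (d₂ : ∑ i, v₂ i * d i = -1) (du : ∑ i, u i * d i = -1)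
    (dw : ∑ i, w i * d i = -1)
    (S₁ : supp v₁ = {x, y, z₁}) (S₂ : supp v₂ = {x, y, z₂}) (Su : supp u = {x, z₁, z₂}) : False := by
  obtain ⟨a12, -⟩ := inner_two n₁ n₂ i12
  obtain ⟨au1, -⟩ := inner_two nu n₁ iu1
  obtain ⟨au2, -⟩ := inner_two nu n₂ iu2
  obtain ⟨aw1, cw1⟩ := inner_two nw n₁ iw1
  obtain ⟨aw2, cw2⟩ := inner_two nw n₂ iw2
  obtain ⟨-, cwu⟩ := inner_two nw nu iwu
  have hy' : y ∈ supp w ∧ x ∉ supp w := by
    by_contra hcon
    by_cases hx : x ∈ supp w
    · by_cases hy : y ∈ supp w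
      · have h1 : z₁ ∉ supp w := fun h => by
          rw [Finset.inter_eq_right.mpr (by
            rw [S₁]; intro i hi
            simp only [Finset.mem_insert, Finset.mem_singleton] at hi
            rcases hi with rfl | rfl | rfl <;> assumption)] at cw1
          rw [show supp v₁ = Finset.univ.filter (fun i => v₁ i ≠ 0) from rfl,
            (support_card_three n₁).1] at cw1
          omega
        have h2 : z₂ ∉ supp w := fun h => by
          rw [Finset.inter_eq_right.mpr (by
            rw [S₂]; intro i hi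
            simp only [Finset.mem_insert, Finset.mem_singleton] at hi
            rcases hi with rfl | rfl | rfl <;> assumption)] at cw2
          rw [show supp v₂ = Finset.univ.filter (fun i => v₂ i ≠ 0) from rfl,
            (support_card_three n₂).1] at cw2
          omega
        have hle : supp w ∩ supp u ⊆ {x} := fun i hi => by
          rw [Su] at hi
          simp only [Finset.mem_inter, Finset.mem_insert, Finset.mem_singleton] at hi ⊢
          rcases hi.2 with h | h | h
          · exact h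
          · exact absurd (h ▸ hi.1) h1
          · exact absurd (h ▸ hi.1) h2
        have := Finset.card_le_card hle
        rw [Finset.card_singleton] at this
        omega
      · obtain ⟨-, h1⟩ := mem_right_of_inter_two (x := y) (y := x) (z := z₁)
          (by rw [S₁, Finset.insert_comm]) cw1 hy
        obtain ⟨-, h2⟩ := mem_right_of_inter_two (x := y) (y := x) (z := z₂)
          (by rw [S₂, Finset.insert_comm]) cw2 hy
        rw [Finset.inter_eq_right.mpr (by
            rw [Su]; intro i hi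
            simp only [Finset.mem_insert, Finset.mem_singleton] at hi
            rcases hi with rfl | rfl | rfl <;> assumption)] at cwu
        rw [show supp u = Finset.univ.filter (fun i => u i ≠ 0) from rfl,
          (support_card_three nu).1] at cwu
        omega
    · exact hcon ⟨(mem_right_of_inter_two S₁ cw1 hx).1, hx⟩
  obtain ⟨hy, hx⟩ := hy'
  have h1 := (mem_right_of_inter_two S₁ cw1 hx).2
  have h2 := (mem_right_of_inter_two S₂ cw2 hx).2
  have Sw : supp w = {y, z₁, z₂} :=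
    eq_triple (support_card_three nw).1 h1y.symm h2y.symm h12 hy h1 h2
  rw [sum_supp hxy h1x.symm h1y.symm S₁] at d₁
  rw [sum_supp hxy h2x.symm h2y.symm S₂, ← a12 x (by simp [S₁]) (by simp [S₂]),
    ← a12 y (by simp [S₁]) (by simp [S₂])] at d₂
  rw [sum_supp h1x.symm h2x.symm h12 Su, au1 x (by simp [Su]) (by simp [S₁]),
    au1 z₁ (by simp [Su]) (by simp [S₁]), au2 z₂ (by simp [Su]) (by simp [S₂])] at du
  rw [sum_supp h1y.symm h2y.symm h12 Sw, aw1 y hy (by simp [S₁]),
    aw1 z₁ h1 (by simp [S₁]), aw2 z₂ h2 (by simp [S₂])] at dw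
  omega

/-- **Sunflower lemma.** -/
theorem sunflower (R : Λ → Λ → Prop)
    (v : Λ → ι → ℤ) (hnorm : ∀ s, ∑ i, v s i * v s i = 3)
    (hR : ∀ s t, R s t → v s = v t) (hinner : ∀ s t, ¬ R s t → ∑ i, v s i * v t i = 2)
    (d : ι → ℕ) (hdeg : ∀ s, ∑ i, v s i * (d i : ℤ) = -1)
    (hex : ∃ s t, ¬ R s t)
    (hthree : ∀ s t u, ¬ R s t → ¬ R s u → ¬ R t u → ∃ w, ¬ R s w ∧ ¬ R t w ∧ ¬ R u w) :
    ∃ (x y : ι) (a b : ℤ), x ≠ y ∧ (a = 1 ∨ a = -1) ∧ (b = 1 ∨ b = -1) ∧
      ∀ s, ∃ z, IsPetal (v s) x y a b z := by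
  obtain ⟨s₁, s₂, h12⟩ := hex
  have hsym : ∀ {s t}, ¬ R s t → ∑ i, v t i * v s i = 2 := fun {s t} h => by
    rw [← hinner s t h]; exact Finset.sum_congr rfl fun i _ => mul_comm _ _
  obtain ⟨hag, hc2⟩ := inner_two (hnorm s₁) (hnorm s₂) (hinner _ _ h12)
  obtain ⟨x, y, hxy, hA⟩ := Finset.card_eq_two.mp hc2
  have hxA := Finset.mem_inter.mp (hA ▸ Finset.mem_insert_self x {y})
  have hyA := Finset.mem_inter.mp (hA ▸ Finset.mem_insert_of_mem (Finset.mem_singleton_self y))
  obtain ⟨z₁, h1x, h1y, S₁⟩ := exists_third (support_card_three (hnorm s₁)).1 hxy hxA.1 hyA.1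
  obtain ⟨z₂, h2x, h2y, S₂⟩ := exists_third (support_card_three (hnorm s₂)).1 hxy hxA.2 hyA.2
  change supp (v s₁) = _ at S₁
  change supp (v s₂) = _ at S₂
  have hz12 : z₁ ≠ z₂ := fun h => by
    have hm : z₁ ∈ supp (v s₁) ∩ supp (v s₂) :=
      Finset.mem_inter.mpr ⟨by simp [S₁], by simp [S₂, h]⟩
    rw [hA] at hm
    simp [h1x, h1y] at hm
  have hva := ((support_card_three (hnorm s₁)).2 x).resolve_left (mem_supp.mp hxA.1)
  have hvb := ((support_card_three (hnorm s₁)).2 y).resolve_left (mem_supp.mp hyA.1)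
  refine ⟨x, y, v s₁ x, v s₁ y, hxy, hva, hvb, fun s => ?_⟩
  by_cases h1 : R s₁ s
  · exact ⟨z₁, hR _ _ h1 ▸ isPetal_of_supp (hnorm s₁) h1x h1y S₁ rfl rfl⟩
  by_cases h2 : R s₂ s
  · exact ⟨z₂, hR _ _ h2 ▸ isPetal_of_supp (hnorm s₂) h2x h2y S₂ (hag x hxA.1 hxA.2).symm
      (hag y hyA.1 hyA.2).symm⟩
  obtain ⟨a1, c1⟩ := inner_two (hnorm s) (hnorm s₁) (hsym h1)
  obtain ⟨-, c2⟩ := inner_two (hnorm s) (hnorm s₂) (hsym h2)
  have hcard : (supp (v s)).card = 3 := (support_card_three (hnorm s)).1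
  by_cases hboth : x ∈ supp (v s) ∧ y ∈ supp (v s)
  · obtain ⟨z, hzx, hzy, S⟩ := exists_third hcard hxy hboth.1 hboth.2
    exact ⟨z, isPetal_of_supp (hnorm s) hzx hzy S (a1 x hboth.1 hxA.1) (a1 y hboth.2 hyA.1)⟩
  exfalso
  obtain ⟨w, hw1, hw2, hw3⟩ := hthree s₁ s₂ s h12 h1 h2
  by_cases hx : x ∈ supp (v s)
  · have hy : y ∉ supp (v s) := fun h => hboth ⟨hx, h⟩
    have m1 := (mem_right_of_inter_two (x := y) (y := x) (z := z₁)
      (by rw [S₁, Finset.insert_comm]) c1 hy).2
    have m2 := (mem_right_of_inter_two (x := y) (y := x) (z := z₂)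
      (by rw [S₂, Finset.insert_comm]) c2 hy).2
    exact tetrahedron_false (d := fun i => (d i : ℤ)) hxy h1x h1y h2x h2y hz12 (hnorm s₁) (hnorm s₂)
      (hnorm s) (hnorm w) (hinner _ _ h12) (hsym h1) (hsym h2) (hsym hw1) (hsym hw2) (hsym hw3)
      (hdeg _) (hdeg _) (hdeg _) (hdeg _) S₁ S₂
      (eq_triple hcard h1x.symm h2x.symm hz12 hx m1 m2)
  · obtain ⟨hy, m1⟩ := mem_right_of_inter_two S₁ c1 hx
    have m2 := (mem_right_of_inter_two S₂ c2 hx).2
    exact tetrahedron_false (d := fun i => (d i : ℤ)) hxy.symm h1y h1x h2y h2x hz12 (hnorm s₁) (hnorm s₂)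
      (hnorm s) (hnorm w) (hinner _ _ h12) (hsym h1) (hsym h2) (hsym hw1) (hsym hw2) (hsym hw3)
      (hdeg _) (hdeg _) (hdeg _) (hdeg _) (by rw [S₁, Finset.insert_comm]) (by rw [S₂, Finset.insert_comm])
      (eq_triple hcard h1y.symm h2y.symm hz12 hy m1 m2)

end combinatorics

section dual

variable {P : Type*} [Group P] [Fintype P]

/-- `ψ` as a function with complex values. -/
def dualVal (ψ : P →* ℂˣ) (y : P) : ℂ := ((ψ y : ℂˣ) : ℂ)

theorem dual_orthogonality (ψ φ : P →* ℂˣ) [Decidable (ψ = φ)] :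
    ∑ y : P, dualVal ψ y * conj (dualVal φ y) = if ψ = φ then (Nat.card P : ℂ) else 0 := by
  classical
  let a : IrrCharacter P := ⟨_, CfsgLib.Char.isIrrCharacter_units_hom ψ⟩
  let b : IrrCharacter P := ⟨_, CfsgLib.Char.isIrrCharacter_units_hom φ⟩
  have h := CfsgLib.Char.card_mul_classInner (a : P → ℂ) (b : P → ℂ)
  rw [CfsgLib.Char.classInner_irrCharacter] at h
  refine h.symm.trans ?_
  by_cases he : ψ = φ
  · subst he; simp [a, b]
  · rw [if_neg he, if_neg fun hab => he (MonoidHom.ext fun y => Units.ext (congrFun (congrArg Subtype.val hab) y)),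
      mul_zero]

theorem dual_sum_eq_zero {ψ : P →* ℂˣ} (hψ : ψ ≠ 1) : ∑ y : P, dualVal ψ y = 0 := by
  classical
  have h := dual_orthogonality ψ (1 : P →* ℂˣ)
  simpa [dualVal, hψ] using h

/-- The linear characters of an abelian group, as the irreducible ones. -/
def dualEquiv (hP : ∀ a b : P, a * b = b * a) : IrrCharacter P ≃ (P →* ℂˣ) where
  toFun χ := CfsgLib.Char.linearHom (CfsgLib.Char.isCharacter_of_isIrr χ.2)
    (CfsgLib.Char.irr_one_eq_one_of_comm hP χ.2)
  invFun f := ⟨_, CfsgLib.Char.isIrrCharacter_units_hom f⟩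
  left_inv χ := rfl
  right_inv f := MonoidHom.ext fun y => Units.ext rfl

theorem finite_dual (hP : ∀ a b : P, a * b = b * a) : Finite (P →* ℂˣ) :=
  Finite.of_equiv _ (dualEquiv hP)

theorem card_dual (hP : ∀ a b : P, a * b = b * a) : Nat.card (P →* ℂˣ) = Nat.card P := by
  rw [← Nat.card_congr (dualEquiv hP), CfsgLib.Char.card_irr_eq_card_conjClasses]
  refine (Nat.card_congr (Equiv.ofBijective ConjClasses.mk ⟨fun a b h => ?_, ConjClasses.mk_surjective⟩)).symm
  obtain ⟨c, hc⟩ := isConj_iff.mp (ConjClasses.mk_eq_mk_iff_isConj.mp h)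
  rw [← hc, hP c a, mul_inv_cancel_right]

theorem dual_expansion (hP : ∀ a b : P, a * b = b * a) [Fintype (P →* ℂˣ)] (f : P → ℂ) (y : P) :
    f y = ∑ ψ : P →* ℂˣ, ((Nat.card P : ℂ)⁻¹ * ∑ z : P, f z * conj (dualVal ψ z)) * dualVal ψ y := by
  have hf : IsClassFunction P f := fun g h => by rw [hP h g, mul_inv_cancel_right]
  conv_lhs => rw [CfsgLib.Char.classFun_eq_sum hf]
  simp only [Finset.sum_apply, Pi.smul_apply, smul_eq_mul, CfsgLib.Char.classInner_def]
  exact Fintype.sum_equiv (dualEquiv hP) _ _ fun χ => rfl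

theorem dual_column (hP : ∀ a b : P, a * b = b * a) [Fintype (P →* ℂˣ)] {y : P} (hy : y ≠ 1) :
    ∑ ψ : P →* ℂˣ, dualVal ψ y = 0 := by
  classical
  have h := dual_expansion hP (fun z : P => if z = 1 then (Nat.card P : ℂ) else 0) y
  simp only [if_neg hy, ite_mul, zero_mul, Finset.sum_ite_eq', Finset.mem_univ, if_true] at h
  rw [h]
  refine Finset.sum_congr rfl fun ψ _ => ?_
  simp [dualVal]

/-- A nontrivial linear character trivial on a proper subgroup. -/
theorem exists_dual_trivial_on (hP : ∀ a b : P, a * b = b * a) (K : Subgroup P) (hK : K ≠ ⊤) :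
    ∃ ψ : P →* ℂˣ, ψ ≠ 1 ∧ ∀ k ∈ K, ψ k = 1 := by
  classical
  have : K.Normal := ⟨fun k hk g => by rw [hP g k, mul_inv_cancel_right]; exact hk⟩
  have := Fintype.ofFinite (P ⧸ K)
  have hPK : ∀ a b : P ⧸ K, a * b = b * a := by
    intro a b
    obtain ⟨a, rfl⟩ := QuotientGroup.mk_surjective a
    obtain ⟨b, rfl⟩ := QuotientGroup.mk_surjective b
    rw [← QuotientGroup.mk_mul, ← QuotientGroup.mk_mul, hP]
  have := finite_dual hPK
  have hcard : 1 < Nat.card ((P ⧸ K) →* ℂˣ) := by
    rw [card_dual hPK, Finite.one_lt_card_iff_nontrivial, QuotientGroup.nontrivial_iff]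
    exact hK
  have : Nontrivial ((P ⧸ K) →* ℂˣ) := Finite.one_lt_card_iff_nontrivial.mp hcard
  obtain ⟨f, hf⟩ := exists_ne (1 : (P ⧸ K) →* ℂˣ)
  refine ⟨f.comp (QuotientGroup.mk' K), fun h => hf ?_, fun k hk => ?_⟩
  · refine MonoidHom.ext fun q => ?_
    obtain ⟨g, rfl⟩ := QuotientGroup.mk_surjective q
    exact DFunLike.congr_fun h g
  · rw [MonoidHom.comp_apply, QuotientGroup.mk'_apply, (QuotientGroup.eq_one_iff k).mpr hk, map_one]

end dual

section lambda

variable {M : Ideal AlgInt} [M.IsMaximal] {G : Type*} [Group G] [Fintype G] {p : ℕ} [hp : Fact p.Prime]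

/-- The principal block of a group with a normal `p`-complement `K`: the squared degrees add up to
the index of `K`. -/
theorem lambda_of_normal_complement (hM : IsPModular p M) (P : Sylow p G) (K : Subgroup G) [K.Normal]
    (hK : ¬ p ∣ Nat.card K) (hidx : K.index = Nat.card (P : Subgroup G))
    [DecidablePred (· ∈ principalBlock M G)] :
    ∑ ψ : IrrCharacter G, (if ψ ∈ principalBlock M G then (charDegree (ψ : G → ℂ) : ℂ) ^ 2 else 0) =
      (Nat.card (P : Subgroup G) : ℂ) := by
  classical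
  have := Fintype.ofFinite K
  have := Fintype.ofFinite (P : Subgroup G)
  have hB : IsPBlock M (principalBlock M G) := by
    rw [principalBlock_eq]; exact isPBlock_blockOf _
  set a : ℕ := ∑ ψ : IrrCharacter G, if ψ ∈ principalBlock M G then charDegree (ψ : G → ℂ) ^ 2 else 0
    with ha
  have hcast : ∑ ψ : IrrCharacter G,
      (if ψ ∈ principalBlock M G then (charDegree (ψ : G → ℂ) : ℂ) ^ 2 else 0) = (a : ℂ) := by
    rw [ha, Nat.cast_sum]
    exact Finset.sum_congr rfl fun ψ _ => by split_ifs <;> simp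
  -- `|P|` divides the sum
  have hdvd : Nat.card (P : Subgroup G) ∣ a := by
    have hn : ∀ ψ : IrrCharacter G, ∃ n : ℕ, classInner (fun z : (P : Subgroup G) => (ψ : G → ℂ) z)
        (fun _ => 1) = n := fun ψ => CfsgLib.Char.classInner_char_nat
      (CfsgLib.Char.isCharacter_res _ (CfsgLib.Char.isCharacter_of_isIrr ψ.2)) CfsgLib.Char.isCharacter_one
    choose n hn using hn
    refine ⟨∑ ψ : IrrCharacter G, if ψ ∈ principalBlock M G then charDegree (ψ : G → ℂ) * n ψ else 0, ?_⟩
    apply Nat.cast_injective (R := ℂ)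
    rw [← hcast, Nat.cast_mul, Nat.cast_sum, Finset.mul_sum]
    have hsum : ∀ z : (P : Subgroup G), z ≠ 1 → ∑ ψ : IrrCharacter G,
        (if ψ ∈ principalBlock M G then (ψ : G → ℂ) 1 * conj ((ψ : G → ℂ) z) else 0) = 0 := by
      intro z hz
      refine weak_orthogonality hM hB (by rw [orderOf_one]; exact hp.out.not_dvd_one) ?_
      obtain ⟨j, hj⟩ := IsPGroup.iff_orderOf.mp P.isPGroup' z
      rw [Subgroup.orderOf_coe, hj]
      exact dvd_pow_self p fun h => hz (by rwa [h, pow_zero, orderOf_eq_one_iff] at hj)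
    calc ∑ ψ : IrrCharacter G, (if ψ ∈ principalBlock M G then (charDegree (ψ : G → ℂ) : ℂ) ^ 2 else 0)
        = ∑ z : (P : Subgroup G), ∑ ψ : IrrCharacter G,
            (if ψ ∈ principalBlock M G then (ψ : G → ℂ) 1 * conj ((ψ : G → ℂ) z) else 0) := by
          rw [Finset.sum_eq_single (1 : (P : Subgroup G)) (fun z _ hz => hsum z hz) (by simp)]
          refine Finset.sum_congr rfl fun ψ _ => ?_
          rw [Subgroup.coe_one, CfsgLib.Char.char_conj_one (CfsgLib.Char.isCharacter_of_isIrr ψ.2),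
            CfsgLib.Blocks.charDegree_eq (CfsgLib.Char.isCharacter_of_isIrr ψ.2), sq]
      _ = _ := by
          rw [Finset.sum_comm]
          refine Finset.sum_congr rfl fun ψ _ => ?_
          split_ifs
          · have h := congrArg conj (hn ψ)
            rw [map_natCast, CfsgLib.Char.classInner_def, map_mul, map_inv₀, map_natCast, map_sum] at h
            simp only [map_one, mul_one] at h
            rw [Nat.cast_mul, ← Finset.mul_sum, ← h,
              CfsgLib.Blocks.charDegree_eq (CfsgLib.Char.isCharacter_of_isIrr ψ.2)]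
            field_simp [CfsgLib.Char.card_ne_zero' (G := (P : Subgroup G))]
          · simp
  -- the block lies inside the characters trivial on `K`
  have hle : a ≤ Nat.card (P : Subgroup G) := by
    have hone : (CfsgLib.Char.irrOne : IrrCharacter G) ∈ principalBlock M G := by
      rw [principalBlock_eq]; exact mem_blockOf_self _
    have h1 : ∀ ψ : IrrCharacter G, ψ ∈ principalBlock M G → ∀ k ∈ K, (ψ : G → ℂ) k = (ψ : G → ℂ) 1 :=
      fun ψ hψ => trivialOn_of_sameBlock (χ := (CfsgLib.Char.irrOne : IrrCharacter G)) hM hK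
        (show SameBlock M ((CfsgLib.Char.irrOne : IrrCharacter G) : G → ℂ) (ψ : G → ℂ) from hψ)
        (fun _ _ => rfl)
    have := Fintype.ofFinite (G ⧸ K)
    have htot : ∑ q : IrrCharacter (G ⧸ K), charDegree (q : G ⧸ K → ℂ) ^ 2 = K.index := by
      apply Nat.cast_injective (R := ℂ)
      have h := CfsgLib.Char.sum_degree_mul_apply (1 : G ⧸ K)
      rw [if_pos rfl, ← Subgroup.index_eq_card] at h
      rw [← h, Nat.cast_sum]
      refine Finset.sum_congr rfl fun q _ => ?_
      rw [Nat.cast_pow, ← CfsgLib.Blocks.charDegree_eq (CfsgLib.Char.isCharacter_of_isIrr q.2), sq]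
    rw [← hidx, ← htot, ← (CfsgLib.CharNormal.inflEquiv K).symm.sum_comp, ha, ← Finset.sum_filter]
    refine le_of_le_of_eq ?_ ((Finset.sum_subtype (F := inferInstance) (p := fun ψ : IrrCharacter G =>
        ∀ k ∈ K, (ψ : G → ℂ) k = (ψ : G → ℂ) 1) (Finset.univ.filter fun ψ : IrrCharacter G =>
        ∀ k ∈ K, (ψ : G → ℂ) k = (ψ : G → ℂ) 1) (fun ψ => by simp)
      (fun ψ : IrrCharacter G => charDegree (ψ : G → ℂ) ^ 2)).trans ?_)
    · refine Finset.sum_le_sum_of_subset fun ψ hψ => ?_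
      simp only [Finset.mem_filter, Finset.mem_univ, true_and] at hψ ⊢
      exact h1 ψ hψ
    · refine Finset.sum_congr rfl fun ψ _ => ?_
      congr 1
      have he := congrFun (congrArg (fun χ => (χ.1 : G → ℂ))
        ((CfsgLib.CharNormal.inflEquiv K).apply_symm_apply ψ)) 1
      set q := (CfsgLib.CharNormal.inflEquiv K).symm ψ
      have h2 : (q : G ⧸ K → ℂ) ((1 : G) : G ⧸ K) = (ψ.1 : G → ℂ) 1 := he
      rw [QuotientGroup.mk_one] at h2
      exact Nat.cast_injective (R := ℂ) (by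
        rw [← CfsgLib.Blocks.charDegree_eq (CfsgLib.Char.isCharacter_of_isIrr q.2), h2,
          CfsgLib.Blocks.charDegree_eq (CfsgLib.Char.isCharacter_of_isIrr ψ.1.2)])
  have hpos : 0 < a := by
    have hone : (CfsgLib.Char.irrOne : IrrCharacter G) ∈ principalBlock M G := by
      rw [principalBlock_eq]; exact mem_blockOf_self _
    refine Nat.lt_of_lt_of_le ?_
      (Finset.single_le_sum (fun ψ _ => Nat.zero_le _) (Finset.mem_univ (CfsgLib.Char.irrOne : IrrCharacter G)))
    rw [if_pos hone]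
    exact pow_pos (Nat.pos_of_ne_zero (charDegree_ne_zero _)) 2
  rw [hcast, le_antisymm hle (Nat.le_of_dvd hpos hdvd)]

end lambda

end CfsgLib.CharBlocks.InertialThree
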