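import Cfsg.Agent.Lib.CharBlocks.InertialThree
import Cfsg.Agent.Lib.Cores.Basic
import Cfsg.Agent.Lib.Blocks.KleinFour

/-!
# Local data for an abelian Sylow subgroup with inertial index three

* the automorphism of order three and the fusion it controls;
* the columns of the principal block at the elements of the Sylow subgroup;
* the arithmetic of four signed degrees with three vanishing moments.
-/

set_option autoImplicit false

noncomputable section

namespace CfsgLib.CharBlocks.InertialThree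

open Cfsg CfsgLib.Blocks
open scoped ComplexConjugate

section arith

theorem one_neg_false {A B C a b c : ℝ} (hA : 0 < A) (hB : 0 < B) (ha : a ≠ A)
    (h0 : 1 + A + B = C) (h1 : 1 + a + b = c) (h2 : 1 + a ^ 2 / A + b ^ 2 / B = c ^ 2 / C) : False := by
  have hC : 0 < C := by linarith
  have e : (1 + a ^ 2 / A + b ^ 2 / B) * (1 + A + B) = (1 + a + b) ^ 2 := by
    rw [h0, h1, h2, div_mul_cancel₀ _ hC.ne']
  have key : B * (A - a) ^ 2 + A * (B - b) ^ 2 + (A * b - B * a) ^ 2 =
      A * B * ((1 + a ^ 2 / A + b ^ 2 / B) * (1 + A + B) - (1 + a + b) ^ 2) := by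
    field_simp
    ring
  rw [e, sub_self, mul_zero] at key
  have : 0 < (A - a) ^ 2 := by positivity
  nlinarith [mul_pos hB this, mul_nonneg hA.le (sq_nonneg (B - b)), sq_nonneg (A * b - B * a)]

theorem two_neg_square {A B C a b c : ℤ} (hA : 0 < A) (hB : 0 < B) (hC : 0 < C) (ha : a ≠ A)
    (h0 : 1 + A = B + C) (h1 : 1 + a = b + c)
    (h2 : (1 : ℝ) + (a : ℝ) ^ 2 / A = (b : ℝ) ^ 2 / B + (c : ℝ) ^ 2 / C) : IsSquare (A * B * C) := by
  have hAr : (A : ℝ) ≠ 0 := by exact_mod_cast hA.ne'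
  have hBr : (B : ℝ) ≠ 0 := by exact_mod_cast hB.ne'
  have hCr : (C : ℝ) ≠ 0 := by exact_mod_cast hC.ne'
  field_simp at h2
  have h2' : (A + a ^ 2) * (B * C) = A * (b ^ 2 * C + B * c ^ 2) := by
    have h2'' : ((A + a ^ 2) * (B * C) : ℤ) = ((A * (b ^ 2 * C + B * c ^ 2) : ℤ) : ℝ) := by
      push_cast
      linarith [h2]
    exact_mod_cast h2''
  have hsq : B * C * (A - a) ^ 2 = A * (B * c - C * b) ^ 2 := by
    linear_combination (B + C) * h2' + (A + a ^ 2) * B * C * h0 - A * B * C * (1 + a + b + c) * h1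
  have key : A * B * C * (A - a) ^ 2 = (A * (B * c - C * b)) ^ 2 := by linear_combination A * hsq
  obtain ⟨r, hr⟩ := (Int.pow_dvd_pow_iff two_ne_zero).mp
    (show (A - a) ^ 2 ∣ (A * (B * c - C * b)) ^ 2 from ⟨A * B * C, by linarith [key]⟩)
  refine ⟨r, mul_right_cancel₀ (pow_ne_zero 2 (sub_ne_zero.mpr (Ne.symm ha))) ?_⟩
  rw [key, hr]
  ring

/-- Four signed degrees with three vanishing moments: exactly two of the three signs are negative and
the product of the degrees is a square. -/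
theorem four_signs {s₁ s₂ s₃ : ℤ} (u₁ : s₁ = 1 ∨ s₁ = -1) (u₂ : s₂ = 1 ∨ s₂ = -1) (u₃ : s₃ = 1 ∨ s₃ = -1)
    {A B C : ℕ} (hA : 0 < A) (hB : 0 < B) (hC : 0 < C) {a b c : ℤ}
    (ha : a ≠ A) (hb : b ≠ B) (hc : c ≠ C)
    (h0 : (1 : ℝ) + s₁ * A + s₂ * B + s₃ * C = 0) (h1 : (1 : ℝ) + s₁ * a + s₂ * b + s₃ * c = 0)
    (h2 : (1 : ℝ) + s₁ * ((a : ℝ) ^ 2 / A) + s₂ * ((b : ℝ) ^ 2 / B) + s₃ * ((c : ℝ) ^ 2 / C) = 0) :
    (if s₁ = -1 then 1 else 0) + (if s₂ = -1 then 1 else 0) + (if s₃ = -1 then 1 else 0) = (2 : ℕ) ∧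
      IsSquare (A * B * C) := by
  have hA' : (0 : ℝ) < A := Nat.cast_pos.mpr hA
  have hB' : (0 : ℝ) < B := Nat.cast_pos.mpr hB
  have hC' : (0 : ℝ) < C := Nat.cast_pos.mpr hC
  have ha' : (a : ℝ) ≠ A := by exact_mod_cast ha
  have hb' : (b : ℝ) ≠ B := by exact_mod_cast hb
  have hA1 : (1 : ℝ) ≤ A := by exact_mod_cast hA
  have hB1 : (1 : ℝ) ≤ B := by exact_mod_cast hB
  have hC1 : (1 : ℝ) ≤ C := by exact_mod_cast hC
  have sq' : ∀ {X Y Z : ℕ}, IsSquare ((X : ℤ) * Y * Z) → IsSquare (X * Y * Z) := by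
    intro X Y Z h
    obtain ⟨r, hr⟩ := h
    refine ⟨r.natAbs, ?_⟩
    rw [← Int.natAbs_mul, ← hr]
    norm_cast
  rcases u₁ with rfl | rfl <;> rcases u₂ with rfl | rfl <;> rcases u₃ with rfl | rfl <;>
    push_cast at h0 h1 h2
  · linarith
  · exact (one_neg_false (C := (C : ℝ)) (b := (b : ℝ)) (c := (c : ℝ)) hA' hB' ha' (by linarith) (by linarith)
      (by linarith)).elim
  · exact (one_neg_false (C := (B : ℝ)) (b := (c : ℝ)) (c := (b : ℝ)) hA' hC' ha' (by linarith) (by linarith)
      (by linarith)).elim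
  · refine ⟨rfl, sq' (two_neg_square (a := a) (b := b) (c := c) (by exact_mod_cast hA)
      (by exact_mod_cast hB) (by exact_mod_cast hC) ha ?_ ?_ (by push_cast; linarith))⟩
    · exact_mod_cast (by linarith : (1 : ℝ) + A = B + C)
    · exact_mod_cast (by linarith : (1 : ℝ) + a = b + c)
  · exact (one_neg_false (C := (A : ℝ)) (b := (c : ℝ)) (c := (a : ℝ)) hB' hC' hb' (by linarith) (by linarith)
      (by linarith)).elim
  · refine ⟨rfl, ?_⟩
    have := sq' (two_neg_square (a := b) (b := a) (c := c) (by exact_mod_cast hB)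
      (by exact_mod_cast hA) (by exact_mod_cast hC) hb
      (by exact_mod_cast (by linarith : (1 : ℝ) + B = A + C))
      (by exact_mod_cast (by linarith : (1 : ℝ) + b = a + c)) (by push_cast; linarith))
    rwa [mul_comm A B]
  · refine ⟨rfl, ?_⟩
    have := sq' (two_neg_square (a := c) (b := a) (c := b) (by exact_mod_cast hC)
      (by exact_mod_cast hA) (by exact_mod_cast hB) hc
      (by exact_mod_cast (by linarith : (1 : ℝ) + C = A + B))
      (by exact_mod_cast (by linarith : (1 : ℝ) + c = a + b)) (by push_cast; linarith))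
    rwa [mul_comm (A * B) C, ← mul_assoc]
  · linarith

end arith

section localData

variable {M : Ideal AlgInt} [M.IsMaximal] {G : Type*} [Group G] [Fintype G] {p : ℕ} [hp : Fact p.Prime]

theorem exists_conj_mem_sylow {H : Type*} [Group H] [Finite H] (Q : Sylow p H) {x : H} {k : ℕ}
    (hx : orderOf x = p ^ k) : ∃ h : H, h * x * h⁻¹ ∈ (Q : Subgroup H) := by
  obtain ⟨R, hR⟩ := (IsPGroup.of_card (n := k) (G := Subgroup.zpowers x)
    (by rw [Nat.card_zpowers, hx])).exists_le_sylow
  obtain ⟨h, hh⟩ := MulAction.exists_smul_eq H R Q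
  refine ⟨h, ?_⟩
  rw [← hh, Sylow.coe_subgroup_smul]
  exact ⟨x, hR (Subgroup.mem_zpowers x), rfl⟩

/-- A fixed point free automorphism of order three of the Sylow subgroup controlling fusion. -/
structure InertiaThree (P : Sylow p G) (σ : (P : Subgroup G) ≃* (P : Subgroup G)) : Prop where
  comm : ∀ u v : (P : Subgroup G), u * v = v * u
  ne_three : p ≠ 3
  cube : ∀ u, σ (σ (σ u)) = u
  fixed : ∀ u, σ u = u → u = 1
  orbit_prod : ∀ u, u * σ u * σ (σ u) = 1
  conjugate : ∃ g ∈ Subgroup.normalizer ((P : Subgroup G) : Set G), ∀ u : (P : Subgroup G),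
    ((σ u : (P : Subgroup G)) : G) = g * u * g⁻¹
  normalizer_conj : ∀ n ∈ Subgroup.normalizer ((P : Subgroup G) : Set G),
    (∀ u : (P : Subgroup G), n * (u : G) * n⁻¹ = u) ∨
    (∀ u : (P : Subgroup G), n * (u : G) * n⁻¹ = (σ u : (P : Subgroup G))) ∨
    (∀ u : (P : Subgroup G), n * (u : G) * n⁻¹ = (σ (σ u) : (P : Subgroup G)))
  local_comm : ∀ y : (P : Subgroup G), y ≠ 1 →
    Subgroup.centralizer ({(y : G)} : Set G) ⊓ Subgroup.normalizer ((P : Subgroup G) : Set G) ≤
      Subgroup.centralizer ((P : Subgroup G) : Set G)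

theorem exists_inertiaThree (P : Sylow p G) (hab : IsMulCommutative P)
    (hCN : (Subgroup.centralizer ((P : Subgroup G) : Set G)).relIndex
      (Subgroup.normalizer ((P : Subgroup G) : Set G)) = 3)
    (hcyc : ∃ g : G, g ∈ Subgroup.normalizer ((P : Subgroup G) : Set G) ∧
      Subgroup.centralizer ((P : Subgroup G) : Set G) ⊔ Subgroup.zpowers g =
        Subgroup.normalizer ((P : Subgroup G) : Set G))
    (hfrob : ∀ y : G, y ∈ (P : Subgroup G) → y ≠ 1 →
      Subgroup.centralizer ({y} : Set G) ⊓ Subgroup.normalizer ((P : Subgroup G) : Set G) =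
        Subgroup.centralizer ((P : Subgroup G) : Set G)) :
    ∃ σ, InertiaThree P σ := by
  obtain ⟨g, hgN, hsup⟩ := hcyc
  set N := Subgroup.normalizer ((P : Subgroup G) : Set G) with hN
  set C := Subgroup.centralizer ((P : Subgroup G) : Set G) with hC
  have hcomm : ∀ u v : (P : Subgroup G), u * v = v * u := fun u v => hab.is_comm.comm u v
  have hPC : (P : Subgroup G) ≤ C := fun u hu => Subgroup.mem_centralizer_iff.mpr fun v hv =>
    congrArg Subtype.val (hcomm ⟨v, hv⟩ ⟨u, hu⟩)
  have hCN' : C ≤ N := Subgroup.centralizer_le_normalizer _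
  have hCn : (C.subgroupOf N).Normal := by
    refine ⟨fun c hc n => ?_⟩
    rw [Subgroup.mem_subgroupOf] at hc ⊢
    refine Subgroup.mem_centralizer_iff.mpr fun v hv => ?_
    have hv' : (n : G)⁻¹ * v * (n : G) ∈ (P : Subgroup G) := by
      have h := (Subgroup.mem_set_normalizer_iff.mp (N.inv_mem n.2) v).mp hv
      rwa [inv_inv] at h
    have h := Subgroup.mem_centralizer_iff.mp hc _ hv'
    simp only [Subgroup.coe_mul, Subgroup.coe_inv]
    calc v * ((n : G) * c * (n : G)⁻¹) = n * ((n : G)⁻¹ * v * n * c) * (n : G)⁻¹ := by group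
      _ = n * c * (n : G)⁻¹ * v := by rw [h]; group
  have hg3 : g ^ 3 ∈ C := by
    have h := @Subgroup.pow_index_mem N _ (C.subgroupOf N) hCn ⟨g, hgN⟩
    rw [show (C.subgroupOf N).index = 3 from hCN, Subgroup.mem_subgroupOf] at h
    simpa using h
  have hgC : g ∉ C := fun h => by
    have hle : N ≤ C := hsup ▸ sup_le le_rfl ((Subgroup.zpowers_le).mpr h)
    have := Subgroup.relIndex_eq_one.mpr hle
    omega
  have hmem : ∀ n ∈ N, ∀ u : (P : Subgroup G), n * (u : G) * n⁻¹ ∈ (P : Subgroup G) :=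
    fun n hn u => (Subgroup.mem_set_normalizer_iff.mp hn (u : G)).mp u.2
  let σ : (P : Subgroup G) ≃* (P : Subgroup G) :=
    { toFun := fun u => ⟨g * u * g⁻¹, hmem g hgN u⟩
      invFun := fun u => ⟨g⁻¹ * u * g, by simpa using hmem g⁻¹ (N.inv_mem hgN) u⟩
      left_inv := fun u => Subtype.ext (by simp [mul_assoc])
      right_inv := fun u => Subtype.ext (by simp [mul_assoc])
      map_mul' := fun u v => Subtype.ext (by simp [mul_assoc]) }
  have hσ : ∀ u : (P : Subgroup G), ((σ u : (P : Subgroup G)) : G) = g * u * g⁻¹ := fun _ => rfl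
  have hcentral : ∀ c ∈ C, ∀ u : (P : Subgroup G), c * (u : G) * c⁻¹ = u := fun c hc u => by
    rw [← Subgroup.mem_centralizer_iff.mp hc (u : G) u.2, mul_inv_cancel_right]
  have hcube : ∀ u, σ (σ (σ u)) = u := fun u => Subtype.ext <| by
    rw [hσ, hσ, hσ]
    have h := hcentral _ hg3 u
    rw [pow_succ, pow_two] at h
    simpa [mul_assoc] using h
  have hfix : ∀ u, σ u = u → u = 1 := fun u hu => by
    by_contra hne
    have h1 : (u : G) ≠ 1 := fun h => hne (Subtype.ext h)
    refine hgC ((hfrob (u : G) u.2 h1).le ⟨?_, hgN⟩)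
    refine Subgroup.mem_centralizer_singleton_iff.mpr ?_
    have h : g * (u : G) * g⁻¹ = u := congrArg Subtype.val hu
    exact mul_inv_eq_iff_eq_mul.mp h
  refine ⟨σ, hcomm, ?_, hcube, hfix, ?_, ⟨g, hgN, hσ⟩, ?_, ?_⟩
  · intro hp3
    have h1 : C.relIndex N ∣ (P : Subgroup G).relIndex N := Subgroup.relIndex_dvd_of_le_left N hPC
    rw [hCN] at h1
    have h2 := h1.trans (Subgroup.relIndex_dvd_index_of_le (hPC.trans hCN'))
    rw [← hp3] at h2
    exact P.not_dvd_index h2
  · intro u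
    refine hfix _ ?_
    rw [map_mul, map_mul, hcube]
    rw [hcomm (σ u * σ (σ u)) u, ← mul_assoc]
  · intro n hn
    have hit : ∀ (j : ℕ) (u : (P : Subgroup G)), σ^[3 * j] u = u := fun j u => by
      induction j with
      | zero => rfl
      | succ j ih => rw [Nat.mul_succ, Function.iterate_add_apply]; simp [hcube, ih]
    let S : Subgroup G :=
      { carrier := {x | ∃ k : ℕ, ∀ u : (P : Subgroup G), x * (u : G) * x⁻¹ = (σ^[k] u : (P : Subgroup G))}
        one_mem' := ⟨0, fun u => by simp⟩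
        mul_mem' := by
          rintro x y ⟨k, hk⟩ ⟨l, hl⟩
          refine ⟨k + l, fun u => ?_⟩
          rw [Function.iterate_add_apply, ← hk, ← hl]
          group
        inv_mem' := by
          rintro x ⟨k, hk⟩
          refine ⟨2 * k, fun u => ?_⟩
          have h := hk (σ^[2 * k] u)
          rw [← Function.iterate_add_apply, show k + 2 * k = 3 * k by ring, hit] at h
          rw [← h]
          group }
    have hS : N ≤ S := hsup ▸ sup_le (fun c hc => ⟨0, fun u => hcentral c hc u⟩)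
      ((Subgroup.zpowers_le).mpr ⟨1, fun u => (hσ u).symm⟩)
    obtain ⟨k, hk⟩ := hS hn
    obtain ⟨j, rfl | rfl | rfl⟩ : ∃ j, k = 3 * j ∨ k = 1 + 3 * j ∨ k = 2 + 3 * j := ⟨k / 3, by omega⟩
    · exact .inl fun u => by rw [hk, hit]
    · exact .inr (.inl fun u => by rw [hk, Function.iterate_add_apply, hit]; rfl)
    · exact .inr (.inr fun u => by rw [hk, Function.iterate_add_apply, hit]; rfl)
  · intro y hy
    exact (hfrob (y : G) y.2 fun h => hy (Subtype.ext h)).le

variable {P : Sylow p G} {σ : (P : Subgroup G) ≃* (P : Subgroup G)}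

omit [Fintype G] in
theorem InertiaThree.map_ne_one {u : (P : Subgroup G)} (hu : u ≠ 1) : σ u ≠ 1 :=
  fun h => hu (σ.injective (h.trans (map_one σ).symm))

omit [Fintype G] hp in
theorem InertiaThree.distinct (h : InertiaThree P σ) {u : (P : Subgroup G)} (hu : u ≠ 1) :
    u ≠ σ u ∧ u ≠ σ (σ u) ∧ σ u ≠ σ (σ u) := by
  have h1 : σ u ≠ u := fun e => hu (h.fixed u e)
  refine ⟨h1.symm, fun e => h1 ?_, fun e => h1 (σ.injective e).symm⟩
  conv_lhs => rw [e, h.cube]

omit [Fintype G] hp in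
theorem InertiaThree.isConj_sigma (h : InertiaThree P σ) (u : (P : Subgroup G)) :
    IsConj (u : G) (σ u : (P : Subgroup G)) := by
  obtain ⟨g, -, hg⟩ := h.conjugate
  exact isConj_iff.mpr ⟨g, (hg u).symm⟩

/-- Fusion in the Sylow subgroup. -/
theorem InertiaThree.fusion (h : InertiaThree P σ) {u v : (P : Subgroup G)}
    (hc : IsConj (u : G) (v : G)) : v = u ∨ v = σ u ∨ v = σ (σ u) := by
  obtain ⟨g, hg⟩ := isConj_iff.mp hc
  have : IsMulCommutative (P : Subgroup G) := ⟨⟨h.comm⟩⟩
  obtain ⟨n, hn, hne⟩ := P.conj_eq_normalizer_conj_of_mem (_hP := ⟨⟨h.comm⟩⟩) (u : G) g⁻¹ u.2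
    (by rw [inv_inv, hg]; exact v.2)
  rw [inv_inv, hg] at hne
  rcases h.normalizer_conj n⁻¹ (Subgroup.inv_mem _ hn) with e | e | e <;>
    have e' := e u <;> rw [inv_inv, ← hne] at e'
  · exact .inl (Subtype.ext e')
  · exact .inr (.inl (Subtype.ext e'))
  · exact .inr (.inr (Subtype.ext e'))

/-- The centralizer of a non-identity element of `P` has a normal `p`-complement. -/
theorem InertiaThree.complement (h : InertiaThree P σ) {y : (P : Subgroup G)} (hy : y ≠ 1) :
    ∃ hle : (P : Subgroup G) ≤ Subgroup.centralizer ({(y : G)} : Set G),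
    ∃ K : Subgroup ↥(Subgroup.centralizer ({(y : G)} : Set G)), K.Normal ∧ ¬ p ∣ Nat.card K ∧
      K.index = Nat.card ((P.subtype hle) : Subgroup ↥(Subgroup.centralizer ({(y : G)} : Set G))) := by
  set H := Subgroup.centralizer ({(y : G)} : Set G)
  have hle : (P : Subgroup G) ≤ H := fun u hu =>
    Subgroup.mem_centralizer_singleton_iff.mpr (congrArg Subtype.val (h.comm ⟨u, hu⟩ y))
  refine ⟨hle, ?_⟩
  set Q : Sylow p H := P.subtype hle
  have hQ : Subgroup.normalizer ((Q : Subgroup H) : Set H) ≤ Subgroup.centralizer ((Q : Subgroup H) : Set H) := by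
    intro n hn
    have hnN : (n : G) ∈ Subgroup.normalizer ((P : Subgroup G) : Set G) := by
      refine Subgroup.mem_normalizer_fintype (fun v hv => ?_)
      have := (Subgroup.mem_set_normalizer_iff.mp hn ⟨v, hle hv⟩).mp
        (show (⟨v, hle hv⟩ : H) ∈ (Q : Subgroup H) from hv)
      exact this
    have hc := h.local_comm y hy ⟨n.2, hnN⟩
    refine Subgroup.mem_centralizer_iff.mpr fun v hv => Subtype.ext ?_
    exact Subgroup.mem_centralizer_iff.mp hc (v : G) hv
  have hc := MonoidHom.ker_transferSylow_isComplement' Q hQ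
  exact ⟨_, inferInstance, MonoidHom.not_dvd_card_ker_transferSylow Q hQ, hc.symm.index_eq_card⟩

/-- The columns of the principal block at the Sylow subgroup. -/
theorem InertiaThree.column (hM : IsPModular p M) (h : InertiaThree P σ) {y : (P : Subgroup G)}
    (hy : y ≠ 1) (z : (P : Subgroup G)) [DecidableEq (P : Subgroup G)]
    [DecidablePred (· ∈ principalBlock M G)] :
    ∑ χ : IrrCharacter G, (if χ ∈ principalBlock M G then
        (χ : G → ℂ) (y : G) * conj ((χ : G → ℂ) (z : G)) else 0) =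
      if z = y ∨ z = σ y ∨ z = σ (σ y) then (Nat.card (P : Subgroup G) : ℂ) else 0 := by
  classical
  have hpp : ∀ u : (P : Subgroup G), ∃ k : ℕ, orderOf (u : G) = p ^ k := fun u => by
    obtain ⟨k, hk⟩ := IsPGroup.iff_orderOf.mp P.isPGroup' u
    exact ⟨k, by rw [Subgroup.orderOf_coe, hk]⟩
  split_ifs with hz
  · have hconj : IsConj (y : G) (z : G) := by
      rcases hz with rfl | rfl | rfl
      · exact IsConj.refl _
      · exact h.isConj_sigma y
      · exact (h.isConj_sigma y).trans (h.isConj_sigma _)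
    obtain ⟨hle, K, hKn, hK, hidx⟩ := h.complement hy
    obtain ⟨g, hg⟩ := isConj_iff.mp hconj
    have hval : ∀ χ : IrrCharacter G, (χ : G → ℂ) (z : G) = (χ : G → ℂ) (y : G) := fun χ => by
      rw [← hg]; exact CfsgLib.Char.isClassFunction_of_isIrr χ.2 (y : G) g
    simp only [hval]
    let _ := Fintype.ofFinite ↥(Subgroup.centralizer ({(y : G)} : Set G))
    rw [principal_column_self hM (hpp y), lambda_of_normal_complement hM (P.subtype hle) K hK hidx,
      Sylow.coe_subtype, Nat.card_congr (Subgroup.subgroupOfEquivOfLe hle).toEquiv]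
  · refine principal_column_ne hM (hpp y) (hpp z) fun hc => hz (h.fusion hc)

/-- Principal block characters only depend on the `p`-part in a section of `P`. -/
theorem InertiaThree.value_pPart (hM : IsPModular p M) (h : InertiaThree P σ) {χ : IrrCharacter G}
    (hχ : χ ∈ principalBlock M G) {y : (P : Subgroup G)} (hy : y ≠ 1) {z : G}
    (hz : IsPPart p z (y : G)) : (χ : G → ℂ) z = (χ : G → ℂ) (y : G) := by
  obtain ⟨v, rfl, hcomm, hyk, hv⟩ := hz
  obtain ⟨hle, K, hKn, hK, hidx⟩ := h.complement hy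
  have hvH : v ∈ Subgroup.centralizer ({(y : G)} : Set G) :=
    Subgroup.mem_centralizer_singleton_iff.mpr hcomm.eq.symm
  refine Cfsg.Agent.S0942.result p M hM (y : G) hyk v ?_ χ hχ
  refine Subgroup.mem_map.mpr ⟨⟨v, hvH⟩, CfsgLib.Cores.le_pPrimeCore_of_not_dvd hK ?_, rfl⟩
  have := Fintype.ofFinite ↥(Subgroup.centralizer ({(y : G)} : Set G))
  set v' : ↥(Subgroup.centralizer ({(y : G)} : Set G)) := ⟨v, hvH⟩
  have hd1 : orderOf (QuotientGroup.mk' K v') ∣ orderOf v := (Subgroup.orderOf_mk v hvH) ▸ orderOf_map_dvd _ _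
  have hd2 : orderOf (QuotientGroup.mk' K v') ∣ K.index := by
    rw [Subgroup.index_eq_card]; exact orderOf_dvd_natCard _
  obtain ⟨k, hk⟩ := (P.subtype hle).isPGroup'.exists_card_eq
  rw [hidx, hk] at hd2
  obtain ⟨i, -, hi⟩ := (Nat.dvd_prime_pow hp.out).mp hd2
  have hi0 : i = 0 := by
    by_contra hne
    exact hv ((dvd_pow_self p hne).trans (hi ▸ hd1))
  rw [hi0, pow_zero, orderOf_eq_one_iff] at hi
  exact (QuotientGroup.eq_one_iff v').mp hi

/-- An element inverted by an involution of `G` squares to one. -/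
theorem InertiaThree.sq_eq_one_of_inverted (h : InertiaThree P σ) {u : (P : Subgroup G)}
    (hc : IsConj (u : G) ((u⁻¹ : (P : Subgroup G)) : G)) : u * u = 1 := by
  rcases h.fusion hc with e | e | e
  · rw [← inv_eq_iff_mul_eq_one]; exact e
  · have e2 : σ (σ u) = u := by rw [← e, map_inv, ← e, inv_inv]
    have hu : u = 1 := h.fixed u (by conv_lhs => rw [← e2, h.cube])
    rw [hu, one_mul]
  · have e1 : u = (σ u)⁻¹ := by
      have := congrArg σ e
      rw [map_inv, h.cube] at this
      exact this.symm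
    have e2 : σ u = σ (σ u) := by rw [← e]; nth_rw 2 [e1]; rw [inv_inv]
    have hu : u = 1 := h.fixed u (σ.injective e2).symm
    rw [hu, one_mul]

end localData

end CfsgLib.CharBlocks.InertialThree
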