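import Cfsg.Agent.Lib.CharBlocks.InertialThreeT

/-!
# A linear character whose support avoids the sections met by an involution
-/

set_option autoImplicit false

noncomputable section

namespace CfsgLib.CharBlocks.InertialThree

open Cfsg CfsgLib.Blocks

variable {G : Type*} [Group G] [Fintype G] {p : ℕ} [hp : Fact p.Prime] {P : Sylow p G}
  {σ : (P : Subgroup G) ≃* (P : Subgroup G)}

/-- The subgroup `{1, a, b, ab}` for commuting involutions. -/
def four {A : Type*} [Group A] (hA : ∀ x y : A, x * y = y * x) (a b : A) (ha : a * a = 1) (hb : b * b = 1) :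
    Subgroup A where
  carrier := {x | x = 1 ∨ x = a ∨ x = b ∨ x = a * b}
  one_mem' := .inl rfl
  mul_mem' := by
    have h1 : a * (a * b) = b := by rw [← mul_assoc, ha, one_mul]
    have h2 : b * (a * b) = a := by rw [hA a b, ← mul_assoc, hb, one_mul]
    have h3 : a * b * a = b := by rw [hA (a * b) a, h1]
    have h4 : a * b * b = a := by rw [mul_assoc, hb, mul_one]
    have h5 : a * b * (a * b) = 1 := by rw [← mul_assoc, h3, hb]
    have h6 : b * a = a * b := hA b a
    rintro x y (rfl | rfl | rfl | rfl) (rfl | rfl | rfl | rfl) <;>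
      simp only [Set.mem_ofPred_eq, mul_one, one_mul, ha, hb, h1, h2, h3, h4, h5, h6, true_or, or_true]
  inv_mem' := by
    rintro x (rfl | rfl | rfl | rfl)
    · exact .inl inv_one
    · exact .inr (.inl (inv_eq_of_mul_eq_one_right ha))
    · exact .inr (.inr (.inl (inv_eq_of_mul_eq_one_right hb)))
    · exact .inr (.inr (.inr (inv_eq_of_mul_eq_one_right (by
        rw [← mul_assoc, hA (a * b) a, ← mul_assoc, ha, one_mul, hb]))))

/-- If `x` inverts `w` and `z` is the `2`-part of `w` with `z² = 1`, then `x z` is conjugate to `x w`. -/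
theorem isConj_mul_pPart {x w z : G} (hx : x * x = 1) (hw : x * w * x⁻¹ = w⁻¹) (hz : IsPPart 2 w z)
    (hz2 : z * z = 1) (hxz : Commute x z) : IsConj (x * z) (x * w) := by
  obtain ⟨v, rfl, hzv, -, hv⟩ := hz
  obtain ⟨m, hm⟩ : ∃ m, orderOf v = 2 * m + 1 := ⟨orderOf v / 2, by omega⟩
  have hv' : x * v * x⁻¹ = v⁻¹ := by
    calc x * v * x⁻¹ = (x * z * x⁻¹)⁻¹ * (x * (z * v) * x⁻¹) := by group
      _ = z⁻¹ * (z * v)⁻¹ := by rw [hw, hxz.eq, mul_inv_cancel_right]
      _ = z⁻¹ * z⁻¹ * v⁻¹ := by rw [hzv.eq, mul_inv_rev, mul_assoc]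
      _ = (z * z)⁻¹ * v⁻¹ := by rw [mul_inv_rev]
      _ = v⁻¹ := by rw [hz2, inv_one, one_mul]
  set r := v ^ (m + 1) with hr
  have hr2 : r * r = v := by
    rw [hr, ← pow_add, show m + 1 + (m + 1) = orderOf v + 1 by omega, pow_succ, pow_orderOf_eq_one, one_mul]
  have hrx : x * r * x⁻¹ = r⁻¹ := by rw [hr, ← conj_pow, hv', inv_pow]
  refine isConj_iff.mpr ⟨r⁻¹, ?_⟩
  have hzr : Commute z r := hzv.pow_right _
  calc r⁻¹ * (x * z) * r⁻¹⁻¹ = r⁻¹ * x * (z * r) := by group
    _ = (x * r * x⁻¹) * x * (r * z) := by rw [hrx, hzr.eq]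
    _ = x * (r * r * z) := by group
    _ = x * (z * v) := by rw [hr2, hzv.eq]

/-- A non-principal linear character of `P` that is trivial wherever a section can be met by `1`, `t`
or a product of `t` with one of its conjugates. -/
theorem InertiaThree.exists_good_character (h : InertiaThree P σ) (hcard : 4 < Nat.card (P : Subgroup G))
    {t : G} (ht : orderOf t = 2) :
    ∃ ψ : (P : Subgroup G) →* ℂˣ, ψ ≠ 1 ∧ ∀ u : (P : Subgroup G), ψ u ≠ 1 → ∀ w z : G,
      (w = 1 ∨ w = t ∨ ∃ g : G, w = t * (g * t * g⁻¹)) → IsPPart p w z → ¬ IsConj z (u : G) := by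
  have hpp : ∀ u : (P : Subgroup G), ∃ k : ℕ, orderOf (u : G) = p ^ k := fun u => by
    obtain ⟨k, hk⟩ := IsPGroup.iff_orderOf.mp P.isPGroup' u
    exact ⟨k, by rw [Subgroup.orderOf_coe, hk]⟩
  have htt : t * t = 1 := by rw [← pow_two, ← ht, pow_orderOf_eq_one]
  have ht2 : t⁻¹ = t := inv_eq_of_mul_eq_one_right htt
  have hinv : ∀ w, (w = 1 ∨ w = t ∨ ∃ g : G, w = t * (g * t * g⁻¹)) → t * w * t⁻¹ = w⁻¹ := by
    rintro w (rfl | rfl | ⟨g, rfl⟩)
    · simp
    · rw [mul_inv_cancel_right, ht2]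
    · rw [← mul_assoc t t, htt, one_mul, mul_inv_rev, conj_inv, ht2]
  -- a section met by such an element consists of elements of square one
  have hsq : ∀ (u : (P : Subgroup G)) (w z : G), (w = 1 ∨ w = t ∨ ∃ g : G, w = t * (g * t * g⁻¹)) →
      IsPPart p w z → IsConj z (u : G) → u * u = 1 ∧ t * z * t⁻¹ = z⁻¹ := by
    intro u w z hw hz hc
    obtain ⟨y, rfl, hzy, ⟨k, hk⟩, hy⟩ := hz
    have h1 := isPPart_conj (p := p) ⟨y, rfl, hzy, ⟨k, hk⟩, hy⟩ t
    rw [hinv _ hw] at h1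
    have h2 : IsPPart p (z * y)⁻¹ z⁻¹ :=
      ⟨y⁻¹, by rw [hzy.eq, mul_inv_rev], hzy.inv_inv, ⟨k, by rw [orderOf_inv, hk]⟩, by rwa [orderOf_inv]⟩
    have h3 := isPPart_unique h1 h2
    obtain ⟨g, hg⟩ := isConj_iff.mp hc
    refine ⟨h.sq_eq_one_of_inverted (isConj_iff.mpr ⟨g * t * g⁻¹, ?_⟩), h3⟩
    rw [Subgroup.coe_inv, ← hg]
    calc g * t * g⁻¹ * (g * z * g⁻¹) * (g * t * g⁻¹)⁻¹ = g * (t * z * t⁻¹) * g⁻¹ := by group
      _ = (g * z * g⁻¹)⁻¹ := by rw [h3]; group
  have := Fintype.ofFinite (P : Subgroup G)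
  by_cases hp2 : p = 2
  swap
  · -- odd `p`: any character will do
    have hone : ∀ u : (P : Subgroup G), u * u = 1 → u = 1 := fun u hu => by
      obtain ⟨k, hk⟩ := IsPGroup.iff_orderOf.mp P.isPGroup' u
      have hd : orderOf u ∣ 2 := orderOf_dvd_of_pow_eq_one (by rwa [pow_two])
      have hcop : Nat.Coprime 2 (p ^ k) :=
        Nat.Coprime.pow_right k ((Nat.coprime_primes Nat.prime_two hp.out).mpr (Ne.symm hp2))
      have := Nat.dvd_gcd hd (show orderOf u ∣ p ^ k by rw [hk])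
      rwa [hcop, Nat.dvd_one, orderOf_eq_one_iff] at this
    have hne : (⊥ : Subgroup (P : Subgroup G)) ≠ ⊤ := fun e => by
      have := Subgroup.card_bot (G := (P : Subgroup G))
      rw [e, Subgroup.card_top] at this
      omega
    obtain ⟨ψ, hψ, -⟩ := exists_dual_trivial_on h.comm ⊥ hne
    exact ⟨ψ, hψ, fun u hu w z hw hz hc => hu (by rw [hone u (hsq u w z hw hz hc).1, map_one])⟩
  subst hp2
  obtain ⟨g₀, hg₀⟩ := exists_conj_mem_sylow P (k := 1) (x := t) (by rw [pow_one, ht])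
  let a : (P : Subgroup G) := ⟨g₀ * t * g₀⁻¹, hg₀⟩
  have hta : IsConj t (a : G) := isConj_iff.mpr ⟨g₀, rfl⟩
  have ha : a * a = 1 := Subtype.ext (show g₀ * t * g₀⁻¹ * (g₀ * t * g₀⁻¹) = 1 by
    rw [conj_mul, htt, mul_one, mul_inv_cancel])
  have hb : σ a * σ a = 1 := by rw [← map_mul, ha, map_one]
  let K := four h.comm a (σ a) ha hb
  have hKmem : ∀ u : (P : Subgroup G), IsConj t (u : G) → u ∈ K := fun u hu => by
    rcases h.fusion (hta.symm.trans hu) with e | e | e
    · exact .inr (.inl e)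
    · exact .inr (.inr (.inl e))
    · refine .inr (.inr (.inr ?_))
      have h1 := h.orbit_prod a
      rw [← inv_eq_of_mul_eq_one_right h1, mul_inv_rev, inv_eq_of_mul_eq_one_right hb,
        inv_eq_of_mul_eq_one_right ha] at e
      rw [e, h.comm]
  have hK : K ≠ ⊤ := fun e => by
    classical
    have hsub : (Set.univ : Set (P : Subgroup G)) ⊆ (({1, a, σ a, a * σ a} : Finset (P : Subgroup G)) : Set _) :=
      fun u _ => by
        have hu : u ∈ K := e ▸ Subgroup.mem_top u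
        change u = 1 ∨ _ at hu
        simpa using hu
    have h1 := Set.ncard_le_ncard hsub
    rw [Set.ncard_univ, Set.ncard_coe_finset] at h1
    have h2 : ({1, a, σ a, a * σ a} : Finset (P : Subgroup G)).card ≤ 4 := Finset.card_le_four
    omega
  obtain ⟨ψ, hψ, hψK⟩ := exists_dual_trivial_on h.comm K hK
  refine ⟨ψ, hψ, fun u hu w z hw hz hc => hu (hψK u ?_)⟩
  by_cases hu1 : u = 1
  · exact hu1 ▸ K.one_mem
  obtain ⟨hu2, htz⟩ := hsq u w z hw hz hc
  obtain ⟨g, hg⟩ := isConj_iff.mp hc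
  have hz2 : z * z = 1 := by
    have : z = g⁻¹ * (u : G) * g := by rw [← hg]; group
    rw [this]
    calc g⁻¹ * (u : G) * g * (g⁻¹ * u * g) = g⁻¹ * (((u * u : (P : Subgroup G)) : G)) * g := by
          rw [Subgroup.coe_mul]; group
      _ = 1 := by rw [hu2, Subgroup.coe_one, mul_one, inv_mul_cancel]
  have hzne : z ≠ 1 := fun e => hu1 (Subtype.ext (by rw [← hg, e, mul_one, mul_inv_cancel, Subgroup.coe_one]))
  have hcomm : Commute t z := by
    rw [inv_eq_of_mul_eq_one_right hz2] at htz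
    exact mul_inv_eq_iff_eq_mul.mp htz
  rcases hw with rfl | rfl | ⟨g', rfl⟩
  · exact absurd (isPPart_unique hz (isPPart_one_iff.mpr (by rw [orderOf_one]; omega))) hzne
  · have := isPPart_unique hz (isPPart_self Nat.prime_two ⟨1, by rw [pow_one, ht]⟩)
    exact hKmem u (this ▸ hc)
  -- `t` is conjugate to `t z`
  have htz' : IsConj t (t * z) := by
    refine IsConj.trans (b := g' * t * g'⁻¹) (isConj_iff.mpr ⟨g', rfl⟩) ?_
    have := (isConj_mul_pPart htt (hinv _ (.inr (.inr ⟨g', rfl⟩))) hz hz2 hcomm).symm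
    rwa [← mul_assoc, htt, one_mul] at this
  -- move `g t g⁻¹` into `P` inside the centralizer of `u`
  set H := Subgroup.centralizer ({(u : G)} : Set G)
  have hle : (P : Subgroup G) ≤ H := fun v hv =>
    Subgroup.mem_centralizer_singleton_iff.mpr (congrArg Subtype.val (h.comm ⟨v, hv⟩ u))
  have hs : g * t * g⁻¹ ∈ H := by
    rw [Subgroup.mem_centralizer_singleton_iff, ← hg, conj_mul, conj_mul, hcomm.eq]
  obtain ⟨⟨c, hc'⟩, hcP⟩ := exists_conj_mem_sylow (P.subtype hle) (k := 1) (x := (⟨g * t * g⁻¹, hs⟩ : H))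
    (by rw [pow_one, Subgroup.orderOf_mk, orderOf_eq_prime_iff]
        exact ⟨by rw [pow_two, conj_mul, htt, mul_one, mul_inv_cancel],
          fun e => by
            have : t = 1 := conj_eq_one_iff.mp e
            rw [this, orderOf_one] at ht; omega⟩)
  have hs' : c * (g * t * g⁻¹) * c⁻¹ ∈ (P : Subgroup G) := hcP
  let s : (P : Subgroup G) := ⟨_, hs'⟩
  have hcu : c * (u : G) * c⁻¹ = u := by
    rw [Subgroup.mem_centralizer_singleton_iff.mp hc', mul_inv_cancel_right]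
  have h1 : s ∈ K := hKmem s (isConj_iff.mpr ⟨c * g, show c * g * t * (c * g)⁻¹ = c * (g * t * g⁻¹) * c⁻¹ by group⟩)
  have h2 : s * u ∈ K := hKmem (s * u) <| htz'.trans <| isConj_iff.mpr ⟨c * g, by
    rw [Subgroup.coe_mul]
    calc c * g * (t * z) * (c * g)⁻¹ = c * (g * t * g⁻¹) * c⁻¹ * (c * (g * z * g⁻¹) * c⁻¹) := by group
      _ = _ := by rw [hg, hcu]⟩
  exact (K.mul_mem_cancel_left h1).mp h2

end CfsgLib.CharBlocks.InertialThree
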