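import Cfsg.Agent.Lib.CharBlocks.InertialThreeData

/-!
# Generalized multiplicities in the principal block for inertial index three

`T χ ψ = ⟨χ|P, 1 - ψ⟩` for a linear character `ψ` of the Sylow subgroup: norms and inner products.
-/

set_option autoImplicit false

noncomputable section

namespace CfsgLib.CharBlocks.InertialThree

open Cfsg CfsgLib.Blocks
open scoped ComplexConjugate

variable {G : Type*} [Group G] {p : ℕ} [hp : Fact p.Prime] {P : Sylow p G}
  {σ : (P : Subgroup G) ≃* (P : Subgroup G)}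

/-- The action of the automorphism on linear characters. -/
def tw (σ : (P : Subgroup G) ≃* (P : Subgroup G)) (ψ : (P : Subgroup G) →* ℂˣ) :
    (P : Subgroup G) →* ℂˣ := ψ.comp σ.toMonoidHom

theorem tw_apply (ψ : (P : Subgroup G) →* ℂˣ) (u : (P : Subgroup G)) : tw σ ψ u = ψ (σ u) := rfl

/-- Orbit relation on linear characters. -/
def SameOrbit (σ : (P : Subgroup G) ≃* (P : Subgroup G)) (ψ φ : (P : Subgroup G) →* ℂˣ) : Prop :=
  φ = ψ ∨ φ = tw σ ψ ∨ φ = tw σ (tw σ ψ)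

variable (h : InertiaThree P σ)
include h

theorem InertiaThree.tw_cube (ψ : (P : Subgroup G) →* ℂˣ) : tw σ (tw σ (tw σ ψ)) = ψ :=
  MonoidHom.ext fun u => by simp [tw_apply, h.cube]

theorem InertiaThree.tw_ne {ψ : (P : Subgroup G) →* ℂˣ} (hψ : ψ ≠ 1) : tw σ ψ ≠ ψ := by
  refine fun e => hψ (MonoidHom.ext fun u => ?_)
  have he : ∀ v, ψ (σ v) = ψ v := fun v => DFunLike.congr_fun e v
  have h3 : ψ u ^ 3 = 1 := by
    have := congrArg ψ (h.orbit_prod u)
    rwa [map_mul, map_mul, map_one, he, he, he, ← pow_two, ← pow_succ] at this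
  obtain ⟨k, hk⟩ := IsPGroup.iff_orderOf.mp P.isPGroup' u
  have hpk : ψ u ^ p ^ k = 1 := by rw [← map_pow, ← hk, pow_orderOf_eq_one, map_one]
  have hcop : Nat.Coprime 3 (p ^ k) :=
    Nat.Coprime.pow_right k ((Nat.coprime_primes Nat.prime_three hp.out).mpr h.ne_three.symm)
  have := Nat.dvd_gcd (orderOf_dvd_of_pow_eq_one h3) (orderOf_dvd_of_pow_eq_one hpk)
  rw [hcop, Nat.dvd_one, orderOf_eq_one_iff] at this
  simpa using this

theorem InertiaThree.tw_ne_one {ψ : (P : Subgroup G) →* ℂˣ} (hψ : ψ ≠ 1) : tw σ ψ ≠ 1 := by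
  intro e
  refine hψ (MonoidHom.ext fun u => ?_)
  have := DFunLike.congr_fun e (σ (σ u))
  rwa [tw_apply, h.cube] at this

theorem InertiaThree.tw_distinct {ψ : (P : Subgroup G) →* ℂˣ} (hψ : ψ ≠ 1) :
    ψ ≠ tw σ ψ ∧ ψ ≠ tw σ (tw σ ψ) ∧ tw σ ψ ≠ tw σ (tw σ ψ) := by
  refine ⟨(h.tw_ne hψ).symm, fun e => h.tw_ne hψ ?_, fun e => h.tw_ne (h.tw_ne_one hψ) e.symm⟩
  conv_lhs => rw [e, h.tw_cube]

theorem InertiaThree.sameOrbit_symm {ψ φ : (P : Subgroup G) →* ℂˣ} (e : SameOrbit σ ψ φ) :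
    SameOrbit σ φ ψ := by
  rcases e with rfl | rfl | rfl
  · exact .inl rfl
  · exact .inr (.inr (h.tw_cube ψ).symm)
  · exact .inr (.inl (h.tw_cube ψ).symm)

theorem InertiaThree.sameOrbit_trans {ψ φ χ : (P : Subgroup G) →* ℂˣ} (e : SameOrbit σ ψ φ)
    (e' : SameOrbit σ φ χ) : SameOrbit σ ψ χ := by
  rcases e with rfl | rfl | rfl <;> rcases e' with rfl | rfl | rfl <;>
    simp [SameOrbit, h.tw_cube]

theorem InertiaThree.orbit_set (ψ : (P : Subgroup G) →* ℂˣ) :
    {ψ' : (P : Subgroup G) →* ℂˣ | ∃ n : G, n ∈ Subgroup.normalizer ((P : Subgroup G) : Set G) ∧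
      ∀ w w' : (P : Subgroup G), (w' : G) = n * w * n⁻¹ → ψ' w' = ψ w} = {φ | SameOrbit σ ψ φ} := by
  ext φ
  refine ⟨fun ⟨n, hn, hφ⟩ => ?_, fun e => ?_⟩
  · rcases h.normalizer_conj n hn with e | e | e
    · exact .inl (MonoidHom.ext fun w => hφ w w (e w).symm)
    · refine .inr (.inr ?_)
      have e1 : tw σ φ = ψ := MonoidHom.ext fun w => hφ w _ (e w).symm
      rw [← e1, h.tw_cube]
    · refine .inr (.inl ?_)
      have e1 : tw σ (tw σ φ) = ψ := MonoidHom.ext fun w => hφ w _ (e w).symm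
      rw [← e1, h.tw_cube]
  · obtain ⟨g, hg, hσ⟩ := h.conjugate
    rcases e with rfl | rfl | rfl
    · exact ⟨1, Subgroup.one_mem _, fun w w' hw => by
        rw [one_mul, inv_one, mul_one] at hw
        rw [Subtype.ext hw]⟩
    · refine ⟨g * g, Subgroup.mul_mem _ hg hg, fun w w' hw => ?_⟩
      have : w' = σ (σ w) := Subtype.ext (by rw [hw, hσ, hσ]; group)
      rw [this, tw_apply, h.cube]
    · refine ⟨g, hg, fun w w' hw => ?_⟩
      have : w' = σ w := Subtype.ext (by rw [hw, hσ])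
      rw [this, tw_apply, tw_apply, h.cube]

omit h

variable [Fintype G] [Fintype (P : Subgroup G)]

/-- The multiplicity of `ψ` in the restriction of `χ`. -/
theorem exists_mult (χ : IrrCharacter G) (ψ : (P : Subgroup G) →* ℂˣ) : ∃ n : ℕ,
    (Nat.card (P : Subgroup G) : ℂ)⁻¹ * ∑ z : (P : Subgroup G), (χ : G → ℂ) z * conj (dualVal ψ z) = n := by
  obtain ⟨n, hn⟩ := CfsgLib.Char.classInner_char_nat
    (CfsgLib.Char.isCharacter_res (P : Subgroup G) (CfsgLib.Char.isCharacter_of_isIrr χ.2))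
    (CfsgLib.Char.isCharacter_of_isIrr (CfsgLib.Char.isIrrCharacter_units_hom ψ))
  refine ⟨n, ?_⟩
  rw [← hn, CfsgLib.Char.classInner_def]
  rfl

/-- `⟨χ|P, 1 - ψ⟩`. -/
def T (χ : IrrCharacter G) (ψ : (P : Subgroup G) →* ℂˣ) : ℤ :=
  ((exists_mult χ (1 : (P : Subgroup G) →* ℂˣ)).choose : ℤ) - (exists_mult χ ψ).choose

theorem T_eq (χ : IrrCharacter G) (ψ : (P : Subgroup G) →* ℂˣ) : (T χ ψ : ℂ) =
    (Nat.card (P : Subgroup G) : ℂ)⁻¹ * ∑ z : (P : Subgroup G), (χ : G → ℂ) z * (1 - conj (dualVal ψ z)) := by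
  rw [T, Int.cast_sub, Int.cast_natCast, Int.cast_natCast,
    ← (exists_mult χ (1 : (P : Subgroup G) →* ℂˣ)).choose_spec, ← (exists_mult χ ψ).choose_spec,
    ← mul_sub, ← Finset.sum_sub_distrib]
  exact congrArg _ (Finset.sum_congr rfl fun z _ => by simp [dualVal, mul_sub])

theorem T_eq_conj (χ : IrrCharacter G) (ψ : (P : Subgroup G) →* ℂˣ) : (T χ ψ : ℂ) =
    (Nat.card (P : Subgroup G) : ℂ)⁻¹ * ∑ z : (P : Subgroup G), conj ((χ : G → ℂ) z) * (1 - dualVal ψ z) := by
  have h := congrArg conj (T_eq χ ψ)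
  rw [map_mul, map_inv₀, map_natCast, map_intCast, map_sum] at h
  simpa only [map_mul, map_sub, map_one, Complex.conj_conj] using h

theorem T_one (χ : IrrCharacter G) : T χ (1 : (P : Subgroup G) →* ℂˣ) = 0 := sub_self _

/-- The values off the identity. -/
theorem value_eq_neg_sum (hcomm : ∀ a b : (P : Subgroup G), a * b = b * a)
    [Fintype ((P : Subgroup G) →* ℂˣ)] (χ : IrrCharacter G) {y : (P : Subgroup G)} (hy : y ≠ 1) :
    (χ : G → ℂ) y = -∑ ψ : (P : Subgroup G) →* ℂˣ, (T χ ψ : ℂ) * dualVal ψ y := by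
  rw [dual_expansion hcomm (fun z : (P : Subgroup G) => (χ : G → ℂ) z) y]
  have hc : ∀ ψ : (P : Subgroup G) →* ℂˣ, (Nat.card (P : Subgroup G) : ℂ)⁻¹ *
      ∑ z : (P : Subgroup G), (χ : G → ℂ) z * conj (dualVal ψ z) =
        ((exists_mult χ (1 : (P : Subgroup G) →* ℂˣ)).choose : ℂ) - (T χ ψ : ℂ) := fun ψ => by
    rw [T, Int.cast_sub, Int.cast_natCast, Int.cast_natCast, sub_sub_cancel]
    exact (exists_mult χ ψ).choose_spec
  rw [Finset.sum_congr rfl fun ψ _ => congrArg (· * dualVal ψ y) (hc ψ)]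
  simp only [sub_mul, Finset.sum_sub_distrib, ← Finset.mul_sum, dual_column hcomm hy, mul_zero, zero_sub]

variable {M : Ideal AlgInt} [M.IsMaximal]

include h in
/-- The inner products. -/
theorem InertiaThree.sum_T_mul (hM : IsPModular p M) [DecidablePred (· ∈ principalBlock M G)]
    [DecidableEq ((P : Subgroup G) →* ℂˣ)] {ψ φ : (P : Subgroup G) →* ℂˣ} (hψ : ψ ≠ 1) (hφ : φ ≠ 1) :
    ∑ χ : IrrCharacter G, (if χ ∈ principalBlock M G then T χ ψ * T χ φ else 0) =
      3 + (if φ = ψ then 1 else 0) + (if tw σ φ = ψ then 1 else 0) + (if tw σ (tw σ φ) = ψ then 1 else 0) := by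
  classical
  apply Int.cast_injective (α := ℂ)
  have hP : (Nat.card (P : Subgroup G) : ℂ) ≠ 0 := CfsgLib.Char.card_ne_zero'
  set c : ℂ := (Nat.card (P : Subgroup G) : ℂ)
  have hone : ∀ {α : (P : Subgroup G) →* ℂˣ}, α ≠ 1 →
      ∑ y : (P : Subgroup G), (1 - conj (dualVal ψ y)) * (1 - dualVal α y) =
        c * (1 + (if α = ψ then 1 else 0)) := fun {α} hα => by
    have h1 : ∑ y : (P : Subgroup G), conj (dualVal ψ y) = 0 := by rw [← map_sum, dual_sum_eq_zero hψ, map_zero]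
    have h2 := dual_orthogonality α ψ
    simp only [sub_mul, mul_sub, one_mul, mul_one, Finset.sum_sub_distrib, Finset.sum_const,
      Finset.card_univ, nsmul_eq_mul, h1, dual_sum_eq_zero hα]
    rw [← Nat.card_eq_fintype_card, Finset.sum_congr rfl (fun y _ => mul_comm (conj (dualVal ψ y)) _), h2]
    split_ifs <;> simp [c] <;> ring
  have hrow : ∀ y : (P : Subgroup G), (1 - conj (dualVal ψ y)) * ∑ z : (P : Subgroup G), (1 - dualVal φ z) *
        ∑ χ : IrrCharacter G, (if χ ∈ principalBlock M G then (χ : G → ℂ) y * conj ((χ : G → ℂ) z) else 0) =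
      c * ((1 - conj (dualVal ψ y)) * ((1 - dualVal φ y) + (1 - dualVal (tw σ φ) y) +
        (1 - dualVal (tw σ (tw σ φ)) y))) := fun y => by
    by_cases hy : y = 1
    · subst hy; simp [dualVal]
    obtain ⟨n1, n2, n3⟩ := h.distinct hy
    simp only [h.column hM hy, mul_ite, mul_zero]
    rw [← Finset.sum_filter,
      show (Finset.univ.filter fun z => z = y ∨ z = σ y ∨ z = σ (σ y)) =
        ({y, σ y, σ (σ y)} : Finset (P : Subgroup G)) by ext; simp,
      Finset.sum_insert (by simp [n1, n2]), Finset.sum_insert (by simp [n3]), Finset.sum_singleton]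
    simp only [dualVal, tw_apply]
    ring
  have hlhs : ((∑ χ : IrrCharacter G, if χ ∈ principalBlock M G then T χ ψ * T χ φ else 0 : ℤ) : ℂ) =
      c⁻¹ * c⁻¹ * ∑ y : (P : Subgroup G), (1 - conj (dualVal ψ y)) * ∑ z : (P : Subgroup G), (1 - dualVal φ z) *
        ∑ χ : IrrCharacter G, (if χ ∈ principalBlock M G then (χ : G → ℂ) y * conj ((χ : G → ℂ) z) else 0) := by
    push_cast
    simp only [Finset.mul_sum]
    conv_rhs => rw [Finset.sum_congr rfl (fun y _ => Finset.sum_comm), Finset.sum_comm]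
    refine Finset.sum_congr rfl fun χ _ => ?_
    split_ifs
    · rw [T_eq, T_eq_conj]
      simp only [Finset.mul_sum, Finset.sum_mul]
      rw [Finset.sum_comm]
      refine Finset.sum_congr rfl fun y _ => Finset.sum_congr rfl fun z _ => ?_
      ring
    · simp
  rw [hlhs, Finset.sum_congr rfl (fun y _ => hrow y), ← Finset.mul_sum]
  simp only [mul_add, Finset.sum_add_distrib, hone hφ, hone (h.tw_ne_one hφ),
    hone (h.tw_ne_one (h.tw_ne_one hφ))]
  push_cast
  field_simp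
  split_ifs <;> ring

/-- A moment against `T`. -/
theorem sum_T_moment [DecidablePred (· ∈ principalBlock M G)] (ψ : (P : Subgroup G) →* ℂˣ)
    (F : IrrCharacter G → ℂ)
    (hF : ∀ u : (P : Subgroup G), ψ u ≠ 1 → ∑ χ : IrrCharacter G,
      (if χ ∈ principalBlock M G then F χ * conj ((χ : G → ℂ) u) else 0) = 0) :
    ∑ χ : IrrCharacter G, (if χ ∈ principalBlock M G then (T χ ψ : ℂ) * F χ else 0) = 0 := by
  have e : ∀ χ : IrrCharacter G, (if χ ∈ principalBlock M G then (T χ ψ : ℂ) * F χ else 0) =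
      ∑ u : (P : Subgroup G), (Nat.card (P : Subgroup G) : ℂ)⁻¹ * (1 - dualVal ψ u) *
        (if χ ∈ principalBlock M G then F χ * conj ((χ : G → ℂ) u) else 0) := fun χ => by
    split_ifs
    · rw [T_eq_conj, Finset.mul_sum, Finset.sum_mul]
      exact Finset.sum_congr rfl fun u _ => by ring
    · simp
  rw [Finset.sum_congr rfl (fun χ _ => e χ), Finset.sum_comm]
  refine Finset.sum_eq_zero fun u _ => ?_
  rw [← Finset.mul_sum]
  by_cases hu : ψ u = 1
  · simp [dualVal, hu]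
  · rw [hF u hu, mul_zero]

end CfsgLib.CharBlocks.InertialThree
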