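import Cfsg.Agent.Lib.Char.BrauerInduction
import Cfsg.Agent.Lib.CharNormal.CentralCount
import Cfsg.Agent.Lib.Char.Ortho

/-!
# Combinations of irreducible characters with algebraic integers as coefficients

* `IntComb`: class functions with integral inner products with all irreducible characters;
* `intComb_of_linear`: it is enough to test linear characters of subgroups;
* `intComb_central_translate`: translates of a character by an element commuting with the group;
* `isIntegral_sum_smul`: a criterion for averages over a group action;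
* `intComb_div`: division by a class function with natural values.
-/

set_option autoImplicit false

namespace CfsgLib.CharBlocks

open CfsgLib.Char
open scoped ComplexConjugate

variable {G : Type*} [Group G] [Fintype G]

/-- Class functions which are combinations of irreducible characters with integral coefficients. -/
def IntComb (f : G → ℂ) : Prop :=
  Cfsg.IsClassFunction G f ∧ ∀ φ : Cfsg.IrrCharacter G, IsIntegral ℤ (Cfsg.classInner f φ)

theorem isIntegral_natCast' (n : ℕ) : IsIntegral ℤ (n : ℂ) := by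
  simpa using (isIntegral_algebraMap (R := ℤ) (A := ℂ) (x := (n : ℤ)))

theorem isIntegral_conj' {z : ℂ} (h : IsIntegral ℤ z) : IsIntegral ℤ (conj z) :=
  h.map (Complex.conjAe.toAlgHom.restrictScalars ℤ)

theorem intComb_of_char {χ : G → ℂ} (h : Cfsg.IsCharacter G χ) : IntComb χ :=
  ⟨isClassFunction_of_isCharacter h, fun φ => by
    obtain ⟨m, hm⟩ := classInner_char_nat h (isCharacter_of_isIrr φ.2)
    rw [hm]; exact isIntegral_natCast' m⟩

theorem intComb_add {f g : G → ℂ} (hf : IntComb f) (hg : IntComb g) : IntComb (f + g) :=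
  ⟨isClassFunction_add hf.1 hg.1, fun φ => by
    rw [classInner_add_left]; exact (hf.2 φ).add (hg.2 φ)⟩

theorem intComb_smul {f : G → ℂ} (hf : IntComb f) {c : ℂ} (hc : IsIntegral ℤ c) : IntComb (c • f) :=
  ⟨isClassFunction_smul hf.1 c, fun φ => by
    rw [classInner_smul_left]; exact hc.mul (hf.2 φ)⟩

theorem intComb_zero : IntComb (0 : G → ℂ) :=
  ⟨fun _ _ => rfl, fun φ => by rw [classInner_zero_left]; exact isIntegral_zero⟩

theorem intComb_sum {ι : Type*} (s : Finset ι) {f : ι → G → ℂ} (h : ∀ i ∈ s, IntComb (f i)) :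
    IntComb (∑ i ∈ s, f i) :=
  Finset.sum_induction f IntComb (fun _ _ => intComb_add) intComb_zero h

theorem intComb_eq_sum {f : G → ℂ} (hf : IntComb f) :
    f = ∑ φ : Cfsg.IrrCharacter G, Cfsg.classInner f φ • (φ : G → ℂ) :=
  classFun_eq_sum hf.1

theorem intComb_mul_char {f χ : G → ℂ} (hf : IntComb f) (hχ : Cfsg.IsCharacter G χ) :
    IntComb (f * χ) := by
  rw [intComb_eq_sum hf, Finset.sum_mul]
  refine intComb_sum _ fun φ _ => ?_
  rw [smul_mul_assoc]
  exact intComb_smul (intComb_of_char (isCharacter_mul (isCharacter_of_isIrr φ.2) hχ)) (hf.2 φ)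

theorem intComb_classInner {f g : G → ℂ} (hf : IntComb f) (hg : IntComb g) :
    IsIntegral ℤ (Cfsg.classInner f g) := by
  rw [intComb_eq_sum hg, classInner_sum_right]
  refine IsIntegral.sum _ fun φ _ => ?_
  rw [classInner_smul_right]
  exact (isIntegral_conj' (hg.2 φ)).mul (hf.2 φ)

/-- A class function integral against the linear characters of all subgroups. -/
theorem intComb_of_linear {f : G → ℂ} (hf : Cfsg.IsClassFunction G f)
    (h : ∀ (E : Subgroup G) (lam : E →* ℂˣ), IsIntegral ℤ ((Nat.card E : ℂ)⁻¹ *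
      ∑ᶠ e : E, f e * (lam e : ℂ))) : IntComb f := by
  classical
  refine ⟨hf, fun φ => ?_⟩
  let S : AddSubgroup (G → ℂ) :=
    { carrier := {g | IsIntegral ℤ (Cfsg.classInner f g)}
      zero_mem' := by simp [classInner_zero_right, isIntegral_zero]
      add_mem' := fun {a b} (ha : IsIntegral ℤ _) (hb : IsIntegral ℤ _) => by
        simpa [classInner_add_right] using ha.add hb
      neg_mem' := fun {a} (ha : IsIntegral ℤ _) => by
        simpa [classInner_neg_right] using ha.neg }
  have hle : linSpan G ≤ S := by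
    rw [linSpan, AddSubgroup.closure_le]
    rintro _ ⟨E, lam, -, rfl⟩
    have := Fintype.ofFinite E
    show IsIntegral ℤ (Cfsg.classInner f _)
    rw [frobenius_reciprocity' E _ hf, classInner_def]
    have e : ∀ x : E, conj ((lam x : ℂ)) = ((lam⁻¹ x : ℂˣ) : ℂ) := fun x => by
      rw [← char_inv (isCharacter_of_isIrr (isIrrCharacter_units_hom lam)), map_inv]
      rfl
    simpa only [e, finsum_eq_sum_of_fintype] using h E lam⁻¹
  exact hle (brauer_induction (isGen_of_irr φ.2))

/-- Translates of a character by an element commuting with the image. -/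
theorem intComb_central_translate {X : Type*} [Group X] [Finite X] {χ : X → ℂ}
    (hχ : Cfsg.IsCharacter X χ) (f : G →* X) {z : X} (hz : ∀ g, Commute z (f g)) :
    IntComb fun g => χ (z * f g) := by
  classical
  have := Fintype.ofFinite (Subgroup.zpowers z)
  let F : (Subgroup.zpowers z) × G →* X :=
    MonoidHom.noncommCoprod (Subgroup.zpowers z).subtype f fun a g => by
      obtain ⟨k, hk⟩ := Subgroup.mem_zpowers_iff.mp a.2
      rw [Subgroup.coe_subtype, ← hk]
      exact (hz g).zpow_left k
  obtain ⟨m, hm, -⟩ := char_decomp (isCharacter_comp hχ F)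
  let zz : (Subgroup.zpowers z) × G := (⟨z, Subgroup.mem_zpowers z⟩, 1)
  have hzc : zz ∈ Subgroup.center ((Subgroup.zpowers z) × G) := by
    refine Subgroup.mem_center_iff.mpr fun w => Prod.ext ?_ (by simp [zz])
    obtain ⟨k, hk⟩ := Subgroup.mem_zpowers_iff.mp w.1.2
    refine Subtype.ext ?_
    show (w.1 : X) * z = z * (w.1 : X)
    rw [← hk]
    exact ((Commute.refl z).zpow_left k).eq
  have e : (fun g => χ (z * f g)) = ∑ ψ : Cfsg.IrrCharacter ((Subgroup.zpowers z) × G),
      ((m ψ : ℂ) * ((ψ : (Subgroup.zpowers z) × G → ℂ) zz / (ψ : (Subgroup.zpowers z) × G → ℂ) 1)) •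
        ((ψ : (Subgroup.zpowers z) × G → ℂ) ∘ MonoidHom.inr (Subgroup.zpowers z) G) := by
    funext g
    have h1 := congrFun hm (zz * (1, g))
    simp only [Finset.sum_apply, Pi.smul_apply, smul_eq_mul, Function.comp_apply] at h1 ⊢
    rw [show F (zz * (1, g)) = z * f g by simp [F, zz]] at h1
    rw [h1]
    refine Finset.sum_congr rfl fun ψ _ => ?_
    rw [mul_assoc, MonoidHom.inr_apply, div_mul_eq_mul_div,
      ← CfsgLib.CharNormal.char_center_mul ψ.2 hzc, mul_div_assoc, div_self (irr_one_ne_zero ψ.2),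
      mul_one]
  rw [e]
  refine intComb_sum _ fun ψ _ => intComb_smul
    (intComb_of_char (isCharacter_comp (isCharacter_of_isIrr ψ.2) _)) ((isIntegral_natCast' _).mul ?_)
  refine IsIntegral.of_pow (n := orderOf zz) (orderOf_pos _) ?_
  have hroot : ∀ k : ℕ, ((ψ : (Subgroup.zpowers z) × G → ℂ) zz /
      (ψ : (Subgroup.zpowers z) × G → ℂ) 1) ^ k =
      (ψ : (Subgroup.zpowers z) × G → ℂ) (zz ^ k) / (ψ : (Subgroup.zpowers z) × G → ℂ) 1 := by
    intro k
    induction k with
    | zero => rw [pow_zero, pow_zero, div_self (irr_one_ne_zero ψ.2)]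
    | succ k ih =>
      rw [pow_succ', pow_succ', ih, div_mul_div_comm, ← CfsgLib.CharNormal.char_center_mul ψ.2 hzc,
        mul_div_mul_right _ _ (irr_one_ne_zero ψ.2)]
  rw [hroot, pow_orderOf_eq_one, div_self (irr_one_ne_zero ψ.2)]
  exact isIntegral_one

/-- An average over a group action is integral. -/
theorem isIntegral_sum_smul {E : Type*} [Group E] [Fintype E] {X : Type*} [Fintype X] [MulAction E X]
    (lam : E →* ℂˣ) (u : X → X → ℂ) (hu : ∀ x y, IsIntegral ℤ (u x y))
    (hinv : ∀ (g : E) x y, u (g • x) (g • y) = u x y) :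
    IsIntegral ℤ ((Nat.card E : ℂ)⁻¹ * ∑ e : E, (∑ x, u x (e • x)) * (lam e : ℂ)) := by
  classical
  set g : X → ℂ := fun x => ∑ e : E, u x (e • x) * (lam e : ℂ) with hgdef
  have hgi : ∀ (a : E) x, g (a • x) = g x := by
    intro a x
    refine (Fintype.sum_equiv (MulAut.conj a).toEquiv _ _ fun e => ?_).symm
    simp only [MulEquiv.toEquiv_eq_coe, MulEquiv.coe_toEquiv, MulAut.conj_apply, map_mul, map_inv]
    rw [show (a * e * a⁻¹) • a • x = a • e • x by rw [smul_smul, smul_smul]; group, hinv,
      mul_inv_cancel_comm]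
  have hα : ∀ x, ∃ α : ℂ, IsIntegral ℤ α ∧
      g x = (Nat.card (MulAction.stabilizer E x) : ℂ) * α := by
    intro x
    by_cases h1 : ∀ s ∈ MulAction.stabilizer E x, lam s = 1
    · let S := MulAction.stabilizer E x
      let b : E ⧸ S → ℂ := fun q => Quotient.liftOn' q (fun e => u x (e • x) * (lam e : ℂ))
        fun a b hab => by
          have hm := QuotientGroup.leftRel_apply.mp hab
          have h2 : b = a * (a⁻¹ * b) := by group
          rw [h2, map_mul, h1 _ hm, mul_one, mul_smul, MulAction.mem_stabilizer_iff.mp hm]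
      refine ⟨∑ q : E ⧸ S, b q, IsIntegral.sum _ fun q _ => ?_, ?_⟩
      · induction q using Quotient.inductionOn' with
        | h e =>
          exact (hu _ _).mul (char_isIntegral (isCharacter_of_isIrr (isIrrCharacter_units_hom lam)) e)
      · rw [Finset.mul_sum]
        show ∑ e : E, u x (e • x) * (lam e : ℂ) = _
        rw [← Finset.sum_fiberwise (g := fun e : E => (e : E ⧸ S))]
        refine Finset.sum_congr rfl fun q _ => ?_
        rw [Finset.sum_congr rfl fun e he => (show u x (e • x) * (lam e : ℂ) = b q by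
          rw [← (Finset.mem_filter.mp he).2]; rfl), Finset.sum_const, nsmul_eq_mul]
        congr 2
        rw [← Fintype.card_subtype, ← Nat.card_eq_fintype_card]
        obtain ⟨e₀, rfl⟩ := QuotientGroup.mk_surjective q
        refine Nat.card_congr
          { toFun := fun e => ⟨e₀⁻¹ * e.1, QuotientGroup.eq.mp e.2.symm⟩
            invFun := fun s => ⟨e₀ * s.1, (QuotientGroup.eq.mpr (by simp [S])).symm⟩
            left_inv := fun e => Subtype.ext (by simp)
            right_inv := fun s => Subtype.ext (by simp) }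
    · push Not at h1
      obtain ⟨s, hs, hs1⟩ := h1
      refine ⟨0, isIntegral_zero, ?_⟩
      rw [mul_zero]
      have h2 : g x * (lam s : ℂ) = g x := by
        simp only [hgdef, Finset.sum_mul]
        refine Fintype.sum_equiv (Equiv.mulRight s) _ _ fun e => ?_
        simp only [Equiv.coe_mulRight, map_mul, Units.val_mul, mul_smul,
          MulAction.mem_stabilizer_iff.mp hs, mul_assoc]
      have h3 : g x * ((lam s : ℂ) - 1) = 0 := by rw [mul_sub, h2, mul_one, sub_self]
      exact (mul_eq_zero.mp h3).resolve_right fun h =>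
        hs1 (Units.ext (sub_eq_zero.mp h))
  choose α hαi hαe using hα
  rw [show ∑ e : E, (∑ x, u x (e • x)) * (lam e : ℂ) = ∑ x, g x by
    simp only [Finset.sum_mul, hgdef]; exact Finset.sum_comm, Finset.mul_sum]
  rw [← (MulAction.selfEquivSigmaOrbits E X).symm.sum_comp, Fintype.sum_sigma]
  refine IsIntegral.sum _ fun ω _ => ?_
  set x₀ := ω.out with hx₀
  have hconst : ∀ y : MulAction.orbit E ω.out, g (y : X) = g x₀ := by
    rintro ⟨_, a, rfl⟩
    exact hgi a x₀
  rw [show ∑ y : MulAction.orbit E ω.out, (Nat.card E : ℂ)⁻¹ *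
      g ((MulAction.selfEquivSigmaOrbits E X).symm ⟨ω, y⟩) = α x₀ from ?_]
  · exact hαi x₀
  rw [Finset.sum_congr rfl fun y _ => (show (Nat.card E : ℂ)⁻¹ *
      g ((MulAction.selfEquivSigmaOrbits E X).symm ⟨ω, y⟩) = (Nat.card E : ℂ)⁻¹ * g x₀ from
        congrArg _ (hconst y)), Finset.sum_const, Finset.card_univ, nsmul_eq_mul, hαe x₀,
    ← Nat.card_eq_fintype_card]
  have hc : Nat.card (MulAction.orbit E x₀) * Nat.card (MulAction.stabilizer E x₀) = Nat.card E := by
    rw [← Nat.card_prod]
    exact Nat.card_congr (MulAction.orbitProdStabilizerEquivGroup E x₀)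
  rw [← hc, Nat.cast_mul]
  have h1 : (Nat.card (MulAction.orbit E x₀) : ℂ) ≠ 0 := Nat.cast_ne_zero.mpr fun h => by
    rw [h, zero_mul] at hc; exact Nat.card_pos.ne hc
  have h2 : (Nat.card (MulAction.stabilizer E x₀) : ℂ) ≠ 0 := Nat.cast_ne_zero.mpr Nat.card_pos.ne'
  simp only [hx₀] at h1 h2 ⊢
  field_simp

/-- The permutation character of an action. -/
theorem intComb_fixed {X : Type*} [Fintype X] [MulAction G X] {f : G → ℂ} (hf : IntComb f) :
    IntComb fun g => f g * (Nat.card (MulAction.fixedBy X g) : ℂ) := by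
  classical
  have hπ : IntComb fun g : G => (Nat.card (MulAction.fixedBy X g) : ℂ) := by
    refine intComb_of_linear (fun g h => ?_) fun E lam => ?_
    · refine congrArg _ (Nat.card_congr ((MulAction.toPerm h).subtypeEquiv fun x => ?_).symm)
      simp only [MulAction.mem_fixedBy, MulAction.toPerm_apply]
      rw [show (h * g * h⁻¹) • h • x = h • g • x by rw [smul_smul, smul_smul]; group,
        smul_left_cancel_iff]
    · have := Fintype.ofFinite E
      rw [finsum_eq_sum_of_fintype]
      convert isIntegral_sum_smul (X := X) lam (fun x y => if y = x then 1 else 0)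
        (fun x y => by split_ifs <;> simp [isIntegral_one, isIntegral_zero])
        (fun g x y => by simp [smul_left_cancel_iff]) using 3 with e
      rw [Finset.sum_boole, Nat.card_eq_fintype_card, Fintype.card_subtype]
      rfl
  rw [show (fun g => f g * (Nat.card (MulAction.fixedBy X g) : ℂ)) =
    (fun g : G => (Nat.card (MulAction.fixedBy X g) : ℂ)) * f from funext fun g => mul_comm _ _]
  rw [intComb_eq_sum hf, Finset.mul_sum]
  refine intComb_sum _ fun φ _ => ?_
  rw [mul_smul_comm]
  exact intComb_smul (intComb_mul_char hπ (isCharacter_of_isIrr φ.2)) (hf.2 φ)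

/-- Division by a class function with natural values which preserves `IntComb`. -/
theorem intComb_div {π : G → ℕ} (hπ0 : ∀ g, π g ≠ 0)
    (hstep : ∀ f, IntComb f → IntComb fun g => f g * (π g : ℂ)) {f : G → ℂ} (hf : IntComb f)
    {q : ℕ} (hq : q.Coprime (Nat.card G)) (hπq : ∀ g, ∃ k, π g ∣ q ^ k)
    (hint : ∀ g, IsIntegral ℤ (f g / (π g : ℂ))) : IntComb fun g => f g / (π g : ℂ) := by
  classical
  have key : ∀ s : Finset ℕ, ∃ r : G → ℂ, IntComb r ∧ ∀ g,
      f g * ∏ a ∈ s, ((π g : ℂ) - a) = (π g : ℂ) * r g + f g * ∏ a ∈ s, (-(a : ℂ)) := by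
    intro s
    induction s using Finset.induction_on with
    | empty => exact ⟨0, intComb_zero, fun g => by simp⟩
    | insert a s ha ih =>
      obtain ⟨r, hr, hre⟩ := ih
      refine ⟨(fun g => r g * (π g : ℂ)) + (((-1 : ℂ) * a) • r + (∏ b ∈ s, (-(b : ℂ))) • f),
        intComb_add (hstep r hr) (intComb_add (intComb_smul hr ?_) (intComb_smul hf ?_)),
        fun g => ?_⟩
      · exact isIntegral_one.neg.mul (isIntegral_natCast' a)
      · exact IsIntegral.prod _ fun b _ => (isIntegral_natCast' b).neg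
      rw [Finset.prod_insert ha, Finset.prod_insert ha, mul_left_comm, hre g]
      simp only [Pi.add_apply, Pi.smul_apply, smul_eq_mul]
      ring
  obtain ⟨r, hr, hre⟩ := key (Finset.univ.image π)
  set P : ℕ := ∏ a ∈ Finset.univ.image π, a with hP
  have hrP : ∀ g, (P : ℂ) * (f g / π g) = ((-1 : ℂ) ^ ((Finset.univ.image π).card + 1)) * r g := by
    intro g
    have h := hre g
    rw [Finset.prod_eq_zero (Finset.mem_image_of_mem π (Finset.mem_univ g)) (sub_self _), mul_zero,
      Finset.prod_neg] at h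
    have hne : (π g : ℂ) ≠ 0 := Nat.cast_ne_zero.mpr (hπ0 g)
    have hs : ((-1 : ℂ) ^ (Finset.univ.image π).card) * ((-1 : ℂ) ^ (Finset.univ.image π).card) = 1 := by
      rw [← pow_add, ← two_mul, pow_mul, neg_one_sq, one_pow]
    rw [hP, Nat.cast_prod, eq_comm, ← sub_eq_zero]
    field_simp
    linear_combination ((-1 : ℂ) ^ (Finset.univ.image π).card) * h +
      (f g * ∏ a ∈ Finset.univ.image π, (a : ℂ)) * hs
  have hPcop : P.Coprime (Nat.card G) := by
    refine Nat.Coprime.prod_left fun a ha => ?_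
    obtain ⟨g, -, rfl⟩ := Finset.mem_image.mp ha
    obtain ⟨k, hk⟩ := hπq g
    exact (hq.pow_left k).coprime_dvd_left hk
  have hcls : Cfsg.IsClassFunction G fun g => f g / (π g : ℂ) := by
    intro g h
    have hP0 : (P : ℂ) ≠ 0 := Nat.cast_ne_zero.mpr (Finset.prod_ne_zero_iff.mpr fun a ha => by
      obtain ⟨g, -, rfl⟩ := Finset.mem_image.mp ha
      exact hπ0 g)
    exact mul_left_cancel₀ hP0 (by rw [hrP, hrP, hr.1 g h])
  refine ⟨hcls, fun φ => ?_⟩
  set c := Cfsg.classInner (fun g => f g / (π g : ℂ)) φ with hc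
  have h1 : IsIntegral ℤ ((P : ℂ) * c) := by
    rw [hc, ← classInner_smul_left, show (P : ℂ) • (fun g => f g / (π g : ℂ)) =
      ((-1 : ℂ) ^ ((Finset.univ.image π).card + 1)) • r from funext hrP, classInner_smul_left]
    exact (isIntegral_one.neg.pow _).mul (hr.2 φ)
  have h2 : IsIntegral ℤ ((Nat.card G : ℂ) * c) := by
    rw [hc, card_mul_classInner]
    exact IsIntegral.sum _ fun g _ =>
      (hint g).mul (isIntegral_conj' (char_isIntegral (isCharacter_of_isIrr φ.2) g))
  obtain ⟨a, b, hab⟩ := (Nat.isCoprime_iff_coprime.mpr hPcop : IsCoprime (P : ℤ) (Nat.card G : ℤ))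
  have habC : (a : ℂ) * P + (b : ℂ) * Nat.card G = 1 := by exact_mod_cast congrArg (Int.cast (R := ℂ)) hab
  rw [show c = (a : ℂ) * ((P : ℂ) * c) + (b : ℂ) * ((Nat.card G : ℂ) * c) by
    rw [← mul_assoc, ← mul_assoc, ← add_mul, habC, one_mul]]
  exact ((isIntegral_algebraMap (R := ℤ) (A := ℂ) (x := a)).mul h1).add
    ((isIntegral_algebraMap (R := ℤ) (A := ℂ) (x := b)).mul h2)

end CfsgLib.CharBlocks
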