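import Cfsg.Agent.Lib.Char.Ortho
import Mathlib.RingTheory.Valuation.LocalSubring
import Mathlib.LinearAlgebra.Matrix.Adjugate
import Mathlib.LinearAlgebra.Matrix.ToLin

/-!
# Integral forms of complex representations

* `exists_pLocal`: a valuation subring of `ℂ` in which the prime `p` is not a unit;
* `exists_integral_matrix`: every character is the trace of a matrix representation with entries
  in a given valuation subring.
-/

namespace CfsgLib.CharBlocks

open Matrix

theorem exists_pLocal (p : ℕ) [hp : Fact p.Prime] :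
    ∃ R : ValuationSubring ℂ, R.valuation (p : ℂ) < 1 := by
  let A : Subring ℂ := (Int.castRingHom ℂ).range
  let I : Ideal A := Ideal.span {(p : A)}
  have hI : I ≠ ⊤ := by
    rw [Ne, Ideal.span_singleton_eq_top]
    intro h
    obtain ⟨⟨b, z, hz⟩, hb⟩ := isUnit_iff_exists_inv.mp h
    have h' : (p : ℂ) * b = 1 := by simpa using congrArg Subtype.val hb
    rw [← hz] at h'
    have h'' : (p : ℤ) * z = 1 := by
      have : ((((p : ℤ) * z : ℤ)) : ℂ) = ((1 : ℤ) : ℂ) := by
        push_cast
        simpa using h'
      exact_mod_cast this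
    have h3 := congrArg Int.natAbs h''
    rw [Int.natAbs_mul, Int.natAbs_natCast, Int.natAbs_one] at h3
    exact hp.out.ne_one (Nat.eq_one_of_mul_eq_one_right h3)
  obtain ⟨R, -, hR⟩ := Ideal.image_subset_nonunits_valuationSubring I hI
  refine ⟨R, ?_⟩
  have : (p : ℂ) ∈ R.nonunits := hR ⟨(p : A), Ideal.subset_span rfl, by simp⟩
  rwa [ValuationSubring.mem_nonunits_iff] at this

/-- Every character is afforded by a matrix representation with entries in the valuation
subring `R`. -/
theorem exists_integral_matrix (R : ValuationSubring ℂ) {G : Type*} [Group G] [Finite G]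
    {χ : G → ℂ} (hχ : Cfsg.IsCharacter G χ) :
    ∃ (n : ℕ) (A : G →* Matrix (Fin n) (Fin n) ℂ),
      (∀ g i j, A g i j ∈ R) ∧ ∀ g, (A g).trace = χ g := by
  classical
  obtain ⟨n, ρ, rfl⟩ := hχ
  let B : G →* Matrix (Fin n) (Fin n) ℂ :=
    (LinearMap.toMatrixAlgEquiv' : _ ≃ₐ[ℂ] _).toAlgHom.toRingHom.toMonoidHom.comp ρ
  have hBtr : ∀ g, (B g).trace = ρ.character g := fun g => by
    show Matrix.trace _ = _
    rw [Representation.character, LinearMap.trace_eq_matrix_trace ℂ (Pi.basisFun ℂ (Fin n))]
    rfl
  -- the generators `B g eᵢ`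
  let S : (Fin n → G × Fin n) → Matrix (Fin n) (Fin n) ℂ :=
    fun f => Matrix.of fun i j => B (f j).1 i (f j).2
  have : Nonempty (Fin n → G × Fin n) := ⟨fun j => (1, j)⟩
  obtain ⟨f, hf⟩ := Finite.exists_max fun f => R.valuation (S f).det
  have hdet : (S f).det ≠ 0 := by
    intro h
    have h1 := hf fun j => (1, j)
    have hS : S (fun j => ((1 : G), j)) = 1 := by ext i j; simp [S]
    rw [hS, h, Matrix.det_one, map_one, map_zero] at h1
    exact not_lt_of_ge h1 zero_lt_one
  have hu : IsUnit (S f).det := isUnit_iff_ne_zero.mpr hdet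
  have hu' : IsUnit (S f) := (Matrix.isUnit_iff_isUnit_det _).mpr hu
  let A : G →* Matrix (Fin n) (Fin n) ℂ :=
    { toFun := fun g => (S f)⁻¹ * B g * S f
      map_one' := by rw [map_one, mul_one, Matrix.nonsing_inv_mul _ hu]
      map_mul' := fun g h => by
        rw [map_mul]
        simp only [mul_assoc, Matrix.mul_nonsing_inv_cancel_left _ _ hu] }
  refine ⟨n, A, fun g i j => ?_, fun g => ?_⟩
  · have hcol : (fun i' => (B g * S f) i' j) = fun i' => B (g * (f j).1) i' (f j).2 := by
      funext i'
      rw [map_mul]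
      rfl
    have hA : A g i j = (S f).det⁻¹ * ((S f).updateCol i fun i' => (B g * S f) i' j).det := by
      show ((S f)⁻¹ * B g * S f) i j = _
      rw [mul_assoc, Matrix.inv_def, Ring.inverse_eq_inv, Matrix.smul_mul, Matrix.smul_apply,
        smul_eq_mul, ← Matrix.cramer_apply, Matrix.cramer_eq_adjugate_mulVec]
      rfl
    rw [← ValuationSubring.valuation_le_one_iff, hA, map_mul, map_inv₀]
    refine inv_mul_le_one_of_le₀ ?_ zero_le
    have hupd : ((S f).updateCol i fun i' => (B g * S f) i' j) =
        S (Function.update f i (g * (f j).1, (f j).2)) := by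
      rw [hcol]
      ext a b
      by_cases hb : b = i
      · subst hb; simp [S]
      · simp [S, Matrix.updateCol_ne hb, Function.update_of_ne hb]
    rw [hupd]
    exact hf _
  · show ((S f)⁻¹ * B g * S f).trace = _
    rw [Matrix.trace_mul_comm, ← mul_assoc, Matrix.mul_nonsing_inv _ hu, one_mul, hBtr]

end CfsgLib.CharBlocks
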