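import Cfsg.Agent.Lib.CharBlocks.KernelPairs
import Cfsg.Agent.Lib.BrauerPairs.Stable

/-!
# The `π'`-core in the kernel of the Brauer correspondent and of local blocks

* `killsPi_cjPair`: conjugation invariance;
* `pairOf_trans`: a pair of a block of `G₀ ⊇ C(D₀)` inducing `B` is a pair of `B`;
* `killsPi_iff_correspondent`: at a maximal pair, with the block of the normaliser;
* `killsPi_of_correspondent`: every pair of `B` then has the property.
-/

set_option autoImplicit false

noncomputable section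

namespace CfsgLib.CharBlocks

open Cfsg CfsgLib.Blocks CfsgLib.BrauerPairs

universe u

variable {M : Ideal AlgInt} [M.IsMaximal] {G : Type u} [Group G] [Fintype G] {p : ℕ} {π : Set ℕ}

omit [Fintype G] in
theorem map_piOf_le [Finite G] (π : Set ℕ) (n : G) (X : Subgroup G) :
    (piOf π X).map (MulAut.conj n).toMonoidHom ≤ piOf π (X.map (MulAut.conj n).toMonoidHom) := by
  refine le_piOf (Subgroup.map_mono (piOf_le π X))
    ((Subgroup.map_mono (Subgroup.le_normalizer.trans (normalizer_le_piOf π X))).trans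
      (Subgroup.le_normalizer_map _)) fun q hq hd => prime_notMem_piOf π X hq ?_
  rwa [Subgroup.card_map_of_injective (MulEquiv.injective _)] at hd

omit [Fintype G] in
theorem map_piOf_eq [Finite G] (π : Set ℕ) (n : G) (X : Subgroup G) :
    (piOf π X).map (MulAut.conj n).toMonoidHom = piOf π (X.map (MulAut.conj n).toMonoidHom) := by
  refine le_antisymm (map_piOf_le π n X) ?_
  have h := Subgroup.map_mono (f := (MulAut.conj n).toMonoidHom)
    (map_piOf_le π n⁻¹ (X.map (MulAut.conj n).toMonoidHom))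
  rwa [map_conj_map_conj, map_conj_map_conj, mul_inv_cancel, inv_mul_cancel,
    map_conj_eq_self (Subgroup.one_mem _), map_conj_eq_self (Subgroup.one_mem _)] at h

theorem cjA_avgOn (n : G) (K : Subgroup G) :
    cjA n (avgOn M K) = avgOn M (K.map (MulAut.conj n).toMonoidHom) := by
  classical
  refine ext_coeff fun g => ?_
  rw [coeff_cjA, coeff_avgOn, coeff_avgOn, Subgroup.card_map_of_injective (MulEquiv.injective _)]
  refine if_congr ⟨fun h => ⟨_, h, ?_⟩, ?_⟩ rfl rfl
  · show n * (n⁻¹ * g * n) * n⁻¹ = g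
    group
  · rintro ⟨k, hk, rfl⟩
    show n⁻¹ * (n * k * n⁻¹) * n ∈ K
    simpa [mul_assoc] using hk

omit [Fintype G] in
theorem cen_map_conj (n : G) (Q : Subgroup G) :
    (Cen Q).map (MulAut.conj n).toMonoidHom = Cen (Q.map (MulAut.conj n).toMonoidHom) := by
  ext y
  rw [mem_centralizer_map_conj]
  constructor
  · rintro ⟨c, hc, rfl⟩
    simpa [mul_assoc] using hc
  · intro h
    exact ⟨_, h, by show n * (n⁻¹ * y * n) * n⁻¹ = y; group⟩

theorem killsPi_cjPair (x : G) {a : BrauerPairIdx G} (ha : KillsPi (M := M) π a) :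
    KillsPi (M := M) π (cjPair x a) := by
  show pid M (cjPair x a) * avgOn M (piOf π (Cen (cjPair x a).1)) = pid M (cjPair x a)
  rw [pid_cjPair, cjPair_fst, ← cen_map_conj, ← map_piOf_eq, ← cjA_avgOn, ← map_mul]
  exact congrArg (cjA x) ha

variable [hp : Fact p.Prime]

/-- A pair of a block of `G₀ ⊇ C(D₀)` inducing `B` is a pair of `B`. -/
theorem pairOf_trans (hM : IsPModular p M) {G₀ : Subgroup G} [Fintype G₀] {D₀ : Subgroup G₀}
    {B : Set (IrrCharacter G)} {B₀ : Set (IrrCharacter G₀)} (hind : IsInducedBlock M G₀ B₀ B)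
    {e₀ : Set (IrrCharacter (Cen D₀))} (h₀ : IsBrauerPairOf p M B₀ D₀ e₀)
    {g : Set (IrrCharacter (Cen (D₀.map G₀.subtype)))} (hg : IsPBlock M g)
    (hu : Up (M := M) ⟨D₀, e₀⟩ ⟨D₀.map G₀.subtype, g⟩) :
    IsBrauerPairOf p M B (D₀.map G₀.subtype) g := by
  classical
  obtain ⟨hDp, he₀⟩ := h₀.1
  have hB₀ := h₀.2.1
  have := Fintype.ofFinite (Cen D₀)
  obtain ⟨-, hB, hindB⟩ := (isInducedBlock_iff _).mp hind
  obtain ⟨χ, hχ⟩ := IsPBlock.nonempty hB
  obtain ⟨η, hη⟩ := IsPBlock.nonempty hB₀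
  obtain ⟨ξ, hξ⟩ := IsPBlock.nonempty he₀
  obtain ⟨-, -, hind₀⟩ :=
    (isInducedBlock_iff _).mp ((brauerPairOf_iff_induced hM hDp he₀ hB₀).mp h₀)
  have hDp' : IsPGroup p (D₀.map G₀.subtype) := hDp.map _
  have hemb : br (D₀.map G₀.subtype) (gidemTop M B) =
      emb G₀ (emb (Cen D₀) (red (resIn (Cen D₀) (resIn G₀ (idem hB))))) := by
    rw [← br_red_eq_emb, emb_br (fun z => cen_iff_map hu.cen z)]
    refine ext_coeff fun y => ?_
    rw [coeff_br, coeff_br]
    split_ifs with hy
    · have hy0 : y ∈ G₀ := by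
        have h1 : y ∈ (Cen D₀).map G₀.subtype := hu.cen.symm.le hy
        exact Subgroup.map_subtype_le _ h1
      rw [show (emb G₀ (red (resIn G₀ (idem hB)))).coeff y = _ from coeff_emb G₀ _ ⟨y, hy0⟩,
        coeff_red, rcoeff_resIn, gidemTop_eq hB]
      rfl
    · rfl
  set a := resIn (Cen D₀) (resIn G₀ (idem hB)) with ha
  have hid : red (a * a) = red a := by
    refine emb_injective (Cen D₀) (emb_injective G₀ ?_)
    rw [map_mul, map_mul, map_mul, ← hemb, br_top_idem hM hB hDp']
  refine (brauerPairOf_iff hM).mpr ⟨⟨hDp', hg⟩, hB, ?_⟩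
  have h1 : bomega ξ a = 1 := by
    rw [ha, ← indBomega_apply, hind₀ ξ hξ η hη, ← indBomega_apply, hindB η hη χ hχ,
      bomega_idem, if_pos hχ]
  have h2 := (bomega_eq_one_iff hid he₀ hξ).mp h1
  rw [hemb, show gidem M (Cen (D₀.map G₀.subtype)) g = emb G₀ (gidem M (Cen D₀) e₀) from hu.pid_eq,
    gidem_eq_emb he₀, ← map_mul, ← map_mul, h2]

/-- The property at a maximal pair is the one of the block of the normaliser. -/
theorem killsPi_iff_correspondent (hM : IsPModular p M) (hpπ : p ∈ π) {B : Set (IrrCharacter G)}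
    {D : Subgroup G} {e : Set (IrrCharacter (Cen D))} [Fintype ↥(Subgroup.normalizer (D : Set G))]
    (hmax : IsMaximalBrauerPair p M B D e) {B₁ : Set (IrrCharacter ↥(Subgroup.normalizer (D : Set G)))}
    (hB₁ : IsInducedBlock M (Subgroup.normalizer (D : Set G)) B₁ B)
    (hB₁D : IsDefectGroup p M B₁ (D.subgroupOf (Subgroup.normalizer (D : Set G)))) :
    KillsPi (M := M) π (⟨D, e⟩ : BrauerPairIdx G) ↔
      ∀ n : ↥(Subgroup.normalizer (D : Set G)),
        n ∈ Cfsg.piCore {q | q ∉ π} ↥(Subgroup.normalizer (D : Set G)) → n ∈ Cfsg.blockKer B₁ := by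
  classical
  obtain ⟨F, hF, hFD, hFi, hBd, hFe, -⟩ := maximal_spec hM hmax
  obtain rfl : F = B₁ := (existsUnique_inducing_with_defect hM hmax.1.1.1 hmax.1.2.1 hBd).unique
    ⟨hF, hFD, hFi⟩ ⟨((isInducedBlock_iff _).mp hB₁).1, hB₁D, hB₁⟩
  have he : IsPBlock M e := hmax.1.1.2
  have hCN : Cen D ≤ (Subgroup.normalizer (D : Set G)) := Subgroup.centralizer_le_normalizer _
  have hKN : piOf π (Subgroup.normalizer (D : Set G)) ≤ Cen D := by
    intro k hk
    refine Subgroup.mem_centralizer_iff.mpr fun d hd => ?_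
    have hkN := piOf_le π (Subgroup.normalizer (D : Set G)) hk
    have hk' : k * d⁻¹ * k⁻¹ ∈ D :=
      (Subgroup.mem_set_normalizer_iff.mp hkN d⁻¹).mp (D.inv_mem hd)
    have h1 : d * k * d⁻¹ * k⁻¹ ∈ D := by simpa [mul_assoc] using D.mul_mem hd hk' 
    have h2 : d * k * d⁻¹ * k⁻¹ ∈ piOf π (Subgroup.normalizer (D : Set G)) := (piOf π (Subgroup.normalizer (D : Set G))).mul_mem
      ((Subgroup.mem_set_normalizer_iff.mp (normalizer_le_piOf π (Subgroup.normalizer (D : Set G)) (Subgroup.le_normalizer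
        (Subgroup.le_normalizer hd))) k).mp hk) ((piOf π (Subgroup.normalizer (D : Set G))).inv_mem hk)
    obtain ⟨m, hm⟩ := IsPGroup.iff_card.mp hmax.1.1.1
    have h3 : orderOf (d * k * d⁻¹ * k⁻¹) = 1 := by
      refine Nat.eq_one_of_dvd_coprimes
        ((hp.out.coprime_iff_not_dvd.mpr (not_dvd_piOf hM hpπ (Subgroup.normalizer (D : Set G)))).pow_left m) ?_
        (by rw [← Subgroup.orderOf_mk _ h2]; exact orderOf_dvd_natCard _)
      rw [← hm, ← Subgroup.orderOf_mk _ h1]
      exact orderOf_dvd_natCard _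
    rw [orderOf_eq_one_iff] at h3
    calc d * k = d * k * d⁻¹ * k⁻¹ * (k * d) := by group
      _ = k * d := by rw [h3, one_mul]
  have hNC : (Subgroup.normalizer (D : Set G)) ≤ Subgroup.normalizer (Cen D : Set G) := fun n hn => mem_normalizer_centralizer hn
  have hle : piOf π (Cen D) = piOf π (Subgroup.normalizer (D : Set G)) := by
    refine le_antisymm (le_piOf ((piOf_le π _).trans hCN) (hNC.trans (normalizer_le_piOf π (Cen D)))
      fun q hq hd => prime_notMem_piOf π _ hq hd)
      (le_piOf hKN ((hCN.trans Subgroup.le_normalizer).trans (normalizer_le_piOf π (Subgroup.normalizer (D : Set G))))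
        fun q hq hd => prime_notMem_piOf π _ hq hd)
  have hNK : (Subgroup.normalizer (D : Set G)) ≤ Subgroup.normalizer (piOf π (Subgroup.normalizer (D : Set G)) : Set G) :=
    Subgroup.le_normalizer.trans (normalizer_le_piOf π (Subgroup.normalizer (D : Set G)))
  have hcomm : gidem M (Subgroup.normalizer (D : Set G)) F * gidem M (Cen D) e = gidem M (Cen D) e * gidem M (Subgroup.normalizer (D : Set G)) F :=
    (centralIn_gidem F).commute_of_supp fun g hg => (centralIn_gidem e).1 g fun h => hg (hCN h)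
  have hiff : (∀ n : (Subgroup.normalizer (D : Set G)), n ∈ Cfsg.piCore {q | q ∉ π} (Subgroup.normalizer (D : Set G)) → n ∈ Cfsg.blockKer F) ↔ TrivOn (piOf π (Subgroup.normalizer (D : Set G))) F := by
    constructor
    · intro h θ hθ n hn
      obtain ⟨m, hm, hmn⟩ := hn
      obtain rfl : m = n := Subtype.ext hmn
      exact h m hm θ hθ
    · intro h n hn θ hθ
      exact h θ hθ n ⟨n, hn, rfl⟩
  rw [hiff, KillsPi, hle]
  constructor
  · intro h
    refine trivOn_of_mul_ne_zero hM (piOf_le π (Subgroup.normalizer (D : Set G))) hNK (not_dvd_piOf hM hpπ (Subgroup.normalizer (D : Set G))) hF fun h0 => ?_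
    apply gidem_ne_zero he
    calc gidem M (Cen D) e = gidem M (Cen D) e * gidem M (Subgroup.normalizer (D : Set G)) F := by rw [← hcomm, hFe]
      _ = gidem M (Cen D) e * avgOn M (piOf π (Subgroup.normalizer (D : Set G))) * gidem M (Subgroup.normalizer (D : Set G)) F := by
          rw [show gidem M (Cen D) e * avgOn M (piOf π (Subgroup.normalizer (D : Set G))) = gidem M (Cen D) e from h]
      _ = gidem M (Cen D) e * (gidem M (Subgroup.normalizer (D : Set G)) F * avgOn M (piOf π (Subgroup.normalizer (D : Set G)))) := by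
          rw [mul_assoc, ((centralIn_avgOn (piOf_le π (Subgroup.normalizer (D : Set G))) hNK).commute_of_supp (centralIn_gidem F).1)]
      _ = 0 := by rw [h0, mul_zero]
  · intro h
    show gidem M (Cen D) e * avgOn M (piOf π (Subgroup.normalizer (D : Set G))) = gidem M (Cen D) e
    calc gidem M (Cen D) e * avgOn M (piOf π (Subgroup.normalizer (D : Set G)))
        = gidem M (Cen D) e * (gidem M (Subgroup.normalizer (D : Set G)) F * avgOn M (piOf π (Subgroup.normalizer (D : Set G)))) := by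
          rw [← mul_assoc, ← hcomm, hFe]
      _ = gidem M (Cen D) e := by
          rw [mul_avgOn_of_trivOn hM (piOf_le π (Subgroup.normalizer (D : Set G))) hNK (not_dvd_piOf hM hpπ (Subgroup.normalizer (D : Set G))) hF h, ← hcomm, hFe]

/-- With the kernel condition on the correspondent every pair of `B` has the property. -/
theorem killsPi_of_correspondent (hM : IsPModular p M) (hpπ : p ∈ π) {B : Set (IrrCharacter G)}
    (hB : IsPBlock M B) {D : Subgroup G} (hBD : IsDefectGroup p M B D)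
    [Fintype ↥(Subgroup.normalizer (D : Set G))]
    {B₁ : Set (IrrCharacter ↥(Subgroup.normalizer (D : Set G)))}
    (hB₁ : IsInducedBlock M (Subgroup.normalizer (D : Set G)) B₁ B)
    (hB₁D : IsDefectGroup p M B₁ (D.subgroupOf (Subgroup.normalizer (D : Set G))))
    (hker : ∀ n : ↥(Subgroup.normalizer (D : Set G)),
      n ∈ Cfsg.piCore {q | q ∉ π} ↥(Subgroup.normalizer (D : Set G)) → n ∈ Cfsg.blockKer B₁)
    {a : BrauerPairIdx G} (ha : IsBrauerPairOf p M B a.1 a.2) : KillsPi (M := M) π a := by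
  obtain ⟨e, hmax⟩ := exists_maximal_at hM hB hBD
  obtain ⟨x, hx⟩ := exists_conj_le_maximal hM (a := a) (b := ⟨D, e⟩) hmax ha
  have h := killsPi_cjPair x⁻¹ (killsPi_down hM hpπ hx
    ((killsPi_iff_correspondent hM hpπ hmax hB₁ hB₁D).mpr hker))
  rwa [cjPair_cjPair _ _ ha.1, inv_mul_cancel, cjPair_one ha.1] at h

end CfsgLib.CharBlocks
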