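import Cfsg.Agent.Lib.BrauerPairs.Cover
import Cfsg.Agent.Lib.BrauerPairs.Principal
import Cfsg.Agent.S3743

/-!
# Normal `p'`-subgroups in kernels of blocks along Brauer pairs

* `avgOn`, `br_avgOn`: the idempotent of the trivial character of a `p'`-subgroup and its image
  under the Brauer map;
* `trivOn_of_mul_ne_zero`, `mul_avgOn_of_trivOn`: a normal `p'`-subgroup lies in the kernel of a
  block iff the product of the idempotents is nonzero;
* `piOf`, `killsPi_down`, `killsPi_up`: the property "the `π'`-core of `C(Q)` is in the kernel of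
  `f`" descends along inclusion of pairs, and ascends when that core is a Hall subgroup.
-/

set_option autoImplicit false

noncomputable section

namespace CfsgLib.CharBlocks

open Cfsg CfsgLib.Blocks CfsgLib.BrauerPairs

attribute [local instance] Ideal.Quotient.field

universe u

variable {M : Ideal AlgInt} [M.IsMaximal] {G : Type u} [Group G] [Fintype G] {p : ℕ}

open Classical in
variable (M) in
/-- The averaging element of a subgroup modulo `M`. -/
def avgOn (K : Subgroup G) : KG M G :=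
  ofFun fun g => if g ∈ K then ((Nat.card K : Res M))⁻¹ else 0

open Classical in
theorem coeff_avgOn (K : Subgroup G) (g : G) :
    (avgOn M K).coeff g = if g ∈ K then ((Nat.card K : Res M))⁻¹ else 0 := by
  rw [avgOn, coeff_ofFun]

theorem natCast_ne_zero (hM : IsPModular p M) {n : ℕ} (hn : ¬ p ∣ n) : (n : Res M) ≠ 0 := by
  have := res_charP M hM
  rwa [Ne, CharP.cast_eq_zero_iff (Res M) p]

theorem isFixed_avgOn {R K : Subgroup G} (h : R ≤ Subgroup.normalizer (K : Set G)) :
    IsFixed R (avgOn M K) := fun v hv => ext_coeff fun g => by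
  classical
  rw [coeff_cjA, coeff_avgOn, coeff_avgOn]
  exact if_congr ((mem_normalizer_iff''.mp (h hv)) g).symm rfl rfl

theorem centralIn_avgOn {H K : Subgroup G} (hKH : K ≤ H)
    (h : H ≤ Subgroup.normalizer (K : Set G)) : CentralIn H (avgOn M K) := by
  classical
  exact ⟨fun g hg => by rw [coeff_avgOn, if_neg fun hk => hg (hKH hk)], isFixed_avgOn h⟩

theorem coeff_mul_KG (a b : KG M G) (g : G) :
    (a * b).coeff g = ∑ h : G, a.coeff h * b.coeff (h⁻¹ * g) :=
  coeff_mul_eq_sum a b g

/-- A smaller averaging element is absorbed. -/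
theorem avgOn_mul_avgOn (hM : IsPModular p M) {A B : Subgroup G} (hAB : A ≤ B)
    (hA : ¬ p ∣ Nat.card A) : avgOn M A * avgOn M B = avgOn M B := by
  classical
  refine ext_coeff fun g => ?_
  rw [coeff_mul_KG]
  have h1 : ∀ h : G, (avgOn M A).coeff h * (avgOn M B).coeff (h⁻¹ * g) =
      if h ∈ A then ((Nat.card A : Res M))⁻¹ * (avgOn M B).coeff g else 0 := fun h => by
    rw [coeff_avgOn A h]
    split_ifs with hh
    · rw [coeff_avgOn, coeff_avgOn]
      refine congrArg _ (if_congr ?_ rfl rfl)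
      exact ⟨fun h' => by simpa using B.mul_mem (hAB hh) h', fun h' => B.mul_mem (B.inv_mem (hAB hh)) h'⟩
    · rw [zero_mul]
  rw [Finset.sum_congr rfl fun h _ => h1 h, ← Finset.sum_filter, Finset.sum_const, nsmul_eq_mul,
    ← Fintype.card_subtype, ← Nat.card_eq_fintype_card]
  rw [show (Nat.card {x // x ∈ A} : Res M) = (Nat.card A : Res M) from rfl,
    mul_inv_cancel_left₀ (natCast_ne_zero hM hA)]

/-- The Brauer map sends the averaging element to that of the fixed points. -/
theorem br_avgOn (hM : IsPModular p M) {R K : Subgroup G} (hR : IsPGroup p R)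
    (hRN : R ≤ Subgroup.normalizer (K : Set G)) :
    br R (avgOn M K) = avgOn M (K ⊓ Cen R) := by
  classical
  have : Fact p.Prime := ⟨hM.1⟩
  have := res_charP M hM
  have hcard : (Nat.card K : Res M) = (Nat.card (K ⊓ Cen R : Subgroup G) : Res M) := by
    let _ : MulAction R K :=
      { smul := fun v k => ⟨(v : G) * (k : G) * (v : G)⁻¹,
          (Subgroup.mem_set_normalizer_iff.mp (hRN v.2) _).mp k.2⟩
        one_smul := fun k => Subtype.ext (by
          show ((1 : R) : G) * (k : G) * ((1 : R) : G)⁻¹ = k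
          simp)
        mul_smul := fun v w k => Subtype.ext (by
          show ((v * w : R) : G) * (k : G) * ((v * w : R) : G)⁻¹ =
            (v : G) * ((w : G) * (k : G) * (w : G)⁻¹) * (v : G)⁻¹
          simp only [Subgroup.coe_mul]
          group) }
    have h1 := hR.card_modEq_card_fixedPoints (α := K)
    rw [(CharP.natCast_eq_natCast (Res M) p).mpr h1]
    congr 1
    refine Nat.card_congr ⟨fun k => ⟨(k.1 : G), k.1.2, Subgroup.mem_centralizer_iff.mpr fun v hv => ?_⟩,
      fun k => ⟨⟨(k : G), k.2.1⟩, fun v => Subtype.ext ?_⟩, fun k => rfl, fun k => rfl⟩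
    · exact (mul_inv_eq_iff_eq_mul).mp (congrArg Subtype.val (k.2 ⟨v, hv⟩))
    · show (v : G) * (k : G) * (v : G)⁻¹ = (k : G)
      rw [mul_inv_eq_iff_eq_mul]
      exact Subgroup.mem_centralizer_iff.mp k.2.2 (v : G) v.2
  refine ext_coeff fun g => ?_
  rw [coeff_br, coeff_avgOn, coeff_avgOn, ← hcard]
  by_cases hgC : g ∈ Cen R
  · rw [if_pos hgC]
    exact if_congr ⟨fun h => ⟨h, hgC⟩, fun h => h.1⟩ rfl rfl
  · rw [if_neg hgC, if_neg fun h => hgC h.2]

/-- The subgroup `K` is in the kernel of every member of `f`. -/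
def TrivOn {H : Subgroup G} (K : Subgroup G) (f : Set (IrrCharacter H)) : Prop :=
  ∀ θ ∈ f, ∀ h : H, (h : G) ∈ K → (θ : H → ℂ) h = (θ : H → ℂ) 1

theorem emb_avgOn {H : Subgroup G} [Fintype H] {K : Subgroup G} (hKH : K ≤ H) :
    emb H (avgOn M (K.subgroupOf H)) = avgOn M K := by
  classical
  refine ext_coeff fun g => ?_
  rw [coeff_avgOn]
  by_cases hg : g ∈ H
  · rw [show (emb H (avgOn M (K.subgroupOf H))).coeff g = _ from coeff_emb H _ ⟨g, hg⟩, coeff_avgOn,
      card_subgroupOf' hKH]
    exact if_congr Iff.rfl rfl rfl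
  · rw [coeff_emb_of_notMem H _ hg, if_neg fun h => hg (hKH h)]

/-- The idempotent of the principal block of a `p'`-group is the averaging element. -/
theorem gidem_principal (hM : IsPModular p M) (N : Subgroup G) [Fintype N]
    (hN : ¬ p ∣ Nat.card N) :
    principalBlock M N = {(CfsgLib.Char.irrOne : IrrCharacter N)} ∧
      gidem M N (principalBlock M N) = avgOn M N := by
  classical
  have hb : principalBlock M N = {(CfsgLib.Char.irrOne : IrrCharacter N)} := by
    rw [principalBlock_eq]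
    exact Set.ext fun ψ => ⟨fun h => ((sameBlock_iff_eq hM hN _ ψ).mp h).symm,
      fun h => h ▸ mem_blockOf_self _⟩
  refine ⟨hb, ext_coeff fun g => ?_⟩
  rw [gidem, coeff_ofFun, coeff_avgOn, subgroupBlockCoeff]
  by_cases hg : g ∈ N
  · rw [dif_pos hg, if_pos hg, resD_eq (blockCoeff_mem_locRing isPBlock_principalBlock _)]
    refine eq_inv_of_mul_eq_one_left ?_
    rw [← map_natCast (res M), ← map_mul, ← map_one (res M)]
    refine congrArg (res M) (Subtype.ext ?_)
    show blockCoeff (principalBlock M N) ⟨g, hg⟩ * ((Nat.card N : locRing M) : ℂ) = 1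
    have hn : (Nat.card N : ℂ) ≠ 0 := CfsgLib.Char.card_ne_zero'
    rw [hb, blockCoeff_eq]
    simp [CfsgLib.Char.irrOne_apply, hn]
  · rw [dif_neg hg, if_neg hg, resD_zero]

theorem cover_trivial {H : Subgroup G} [Fintype H] (hM : IsPModular p M) {K : Subgroup G}
    (hKH : K ≤ H) (hHN : H ≤ Subgroup.normalizer (K : Set G)) (hK : ¬ p ∣ Nat.card K)
    {f : Set (IrrCharacter H)} (hf : IsPBlock M f) :
    TrivOn K f ↔ gidem M H f * avgOn M K ≠ 0 := by
  classical
  have : (K.subgroupOf H).Normal := (Subgroup.normal_subgroupOf_iff_le_normalizer hKH).mpr hHN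
  have := Fintype.ofFinite (K.subgroupOf H)
  have hK' : ¬ p ∣ Nat.card (K.subgroupOf H) := by rwa [card_subgroupOf' hKH]
  obtain ⟨hb, hg⟩ := gidem_principal hM (K.subgroupOf H) hK'
  rw [gidem_eq_emb hf, ← emb_avgOn hKH, ← map_mul, ← hg, map_ne_zero_iff _ (emb_injective H),
    ← gidemTop_eq hf, ← covers_iff hf isPBlock_principalBlock, hb]
  constructor
  · intro h
    obtain ⟨χ, hχ⟩ := IsPBlock.nonempty hf
    exact ⟨χ, hχ, _, rfl, classInner_res_one_ne_zero χ.2 fun n hn => h χ hχ n hn⟩
  · rintro ⟨χ, hχ, θ, rfl, h⟩ ψ hψ x hx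
    refine trivialOn_of_sameBlock (N := K.subgroupOf H) hM hK' (χ := χ) (ψ := ψ) ?_ ?_ x hx
    · have h2 : ψ ∈ blockOf M (χ : H → ℂ) := isPBlock_eq_blockOf hf hχ ▸ hψ
      exact h2
    · exact CfsgLib.CharNormal.res_eq_degree_of_constituent_one _ χ.2 h

theorem trivOn_of_mul_ne_zero {H : Subgroup G} (hM : IsPModular p M) {K : Subgroup G}
    (hKH : K ≤ H) (hHN : H ≤ Subgroup.normalizer (K : Set G)) (hK : ¬ p ∣ Nat.card K)
    {f : Set (IrrCharacter H)} (hf : IsPBlock M f) (h : gidem M H f * avgOn M K ≠ 0) :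
    TrivOn K f :=
  have := Fintype.ofFinite H
  (cover_trivial hM hKH hHN hK hf).mpr h

theorem mul_avgOn_of_trivOn {H : Subgroup G} (hM : IsPModular p M) {K : Subgroup G}
    (hKH : K ≤ H) (hHN : H ≤ Subgroup.normalizer (K : Set G)) (hK : ¬ p ∣ Nat.card K)
    {f : Set (IrrCharacter H)} (hf : IsPBlock M f) (h : TrivOn K f) :
    gidem M H f * avgOn M K = gidem M H f := by
  have := Fintype.ofFinite H
  have hc := centralIn_avgOn (M := M) hKH hHN
  rw [(centralIn_gidem f).commute_of_supp hc.1]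
  refine (occurs_cases hc (avgOn_mul_avgOn hM le_rfl hK) hf).resolve_right fun h0 => ?_
  exact (cover_trivial hM hKH hHN hK hf).mp h
    (by rw [(centralIn_gidem f).commute_of_supp hc.1]; exact h0)

theorem mul_avgOn_mono (hM : IsPModular p M) {A B : Subgroup G} (hAB : A ≤ B)
    (hA : ¬ p ∣ Nat.card A) {x : KG M G} {H : Subgroup G} (hx : CentralIn H x) (hBH : B ≤ H)
    (hB : x * avgOn M B = x) : x * avgOn M A = x := by
  classical
  have h1 : avgOn M B * x = x * avgOn M B := (hx.commute_of_supp fun g hg => by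
    rw [coeff_avgOn, if_neg fun h => hg (hBH h)]).symm
  have h2 : avgOn M A * x = x * avgOn M A := (hx.commute_of_supp fun g hg => by
    rw [coeff_avgOn, if_neg fun h => hg (hBH (hAB h))]).symm
  rw [← h2]
  conv_lhs => rw [← hB, ← h1, ← mul_assoc, avgOn_mul_avgOn hM hAB hA, h1, hB]

/-! ## The `π'`-core of a subgroup -/

/-- The `π'`-core of `X`, as a subgroup of `G`. -/
abbrev piOf (π : Set ℕ) (X : Subgroup G) : Subgroup G := Cfsg.piCoreOf {q | q ∉ π} X

omit [Fintype G] in
theorem piOf_le (π : Set ℕ) (X : Subgroup G) : piOf π X ≤ X := Subgroup.map_subtype_le _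

omit [Fintype G] in
theorem prime_notMem_piOf [Finite G] (π : Set ℕ) (X : Subgroup G) {q : ℕ} (hq : q.Prime)
    (h : q ∣ Nat.card (piOf π X)) : q ∉ π := by
  rw [piOf, Cfsg.piCoreOf, Subgroup.card_map_of_injective X.subtype_injective] at h
  exact Cfsg.Agent.S3743.piCore_isPi (H := X) {r | r ∉ π} q hq h

theorem not_dvd_piOf {π : Set ℕ} (hM : IsPModular p M) (hpπ : p ∈ π) (X : Subgroup G) :
    ¬ p ∣ Nat.card (piOf π X) :=
  fun h => prime_notMem_piOf π X hM.1 h hpπ

theorem not_dvd_of_le_piOf {π : Set ℕ} (hM : IsPModular p M) (hpπ : p ∈ π) {K X : Subgroup G}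
    (h : K ≤ piOf π X) : ¬ p ∣ Nat.card K :=
  fun hd => not_dvd_piOf hM hpπ X (hd.trans (Subgroup.card_dvd_of_le h))

omit [Fintype G] in
/-- A normal `π'`-subgroup lies in the core. -/
theorem le_piOf {π : Set ℕ} {K X : Subgroup G} (hKX : K ≤ X)
    (hXK : X ≤ Subgroup.normalizer (K : Set G))
    (hK : ∀ q : ℕ, q.Prime → q ∣ Nat.card K → q ∉ π) : K ≤ piOf π X := by
  have hn : (K.subgroupOf X).Normal := (Subgroup.normal_subgroupOf_iff_le_normalizer hKX).mpr hXK
  have h : K.subgroupOf X ≤ Cfsg.piCore {q | q ∉ π} X := le_sSup ⟨hn, fun q hq hd => hK q hq (by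
    rwa [Nat.card_congr (Subgroup.subgroupOfEquivOfLe hKX).toEquiv] at hd)⟩
  exact fun k hk => ⟨⟨k, hKX hk⟩, h hk, rfl⟩

omit [Fintype G] in
/-- The core is normalised by everything normalising `X`. -/
theorem normalizer_le_piOf (π : Set ℕ) (X : Subgroup G) [Finite G] :
    Subgroup.normalizer (X : Set G) ≤ Subgroup.normalizer (piOf π X : Set G) := by
  have key : ∀ n ∈ Subgroup.normalizer (X : Set G),
      (piOf π X).map (MulAut.conj n).toMonoidHom ≤ piOf π X := fun n hn => by
    refine le_piOf ?_ ?_ fun q hq hd => prime_notMem_piOf π X hq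
      (by rwa [Subgroup.card_map_of_injective (MulEquiv.injective _)] at hd)
    · rintro _ ⟨k, hk, rfl⟩
      exact (Subgroup.mem_set_normalizer_iff.mp hn k).mp (piOf_le π X hk)
    · have hX : X.map (MulAut.conj n).toMonoidHom = X := Subgroup.mem_normalizer_iff_map_conj_eq.mp hn
      have h0 : X ≤ Subgroup.normalizer (piOf π X : Set G) :=
        (Subgroup.normal_subgroupOf_iff_le_normalizer (piOf_le π X)).mp (by
          rw [show (piOf π X).subgroupOf X = Cfsg.piCore {q | q ∉ π} X from
            Subgroup.comap_map_eq_self_of_injective X.subtype_injective _]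
          infer_instance)
      conv_lhs => rw [← hX]
      exact (Subgroup.map_mono h0).trans (Subgroup.le_normalizer_map _)
  intro n hn
  refine Subgroup.mem_normalizer_iff_map_conj_eq.mpr (Subgroup.eq_of_le_of_card_ge (key n hn) ?_)
  rw [Subgroup.card_map_of_injective (MulEquiv.injective _)]

/-- The fixed points on the core lie in the core of the smaller centraliser. -/
theorem inf_cen_le_piOf (π : Set ℕ) {Q R : Subgroup G} (hQR : Q ≤ R) :
    piOf π (Cen Q) ⊓ Cen R ≤ piOf π (Cen R) := by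
  refine le_piOf inf_le_right (fun c hc => Subgroup.mem_set_normalizer_iff.mpr fun k => ?_)
    fun q hq hd => prime_notMem_piOf π _ hq (hd.trans (Subgroup.card_dvd_of_le inf_le_left))
  have h1 := Subgroup.mem_set_normalizer_iff.mp (normalizer_le_piOf π (Cen Q)
    (Subgroup.le_normalizer (centralizer_anti hQR hc))) k
  have h2 := Subgroup.mem_set_normalizer_iff.mp (Subgroup.le_normalizer (H := Cen R) hc) k
  exact and_congr h1 h2

variable {π : Set ℕ}

/-- The `π'`-core of `C(Q)` is in the kernel of `f`, said with idempotents. -/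
def KillsPi (π : Set ℕ) (a : BrauerPairIdx G) : Prop :=
  pid M a * avgOn M (piOf π (Cen a.1)) = pid M a

theorem killsPi_iff (hM : IsPModular p M) (hpπ : p ∈ π) {a : BrauerPairIdx G}
    (ha : IsPBlock M a.2) : KillsPi (M := M) π a ↔ TrivOn (piOf π (Cen a.1)) a.2 := by
  have hN := Subgroup.le_normalizer.trans (normalizer_le_piOf π (Cen a.1))
  refine ⟨fun h => trivOn_of_mul_ne_zero hM (piOf_le π _) hN (not_dvd_piOf hM hpπ _) ha ?_,
    fun h => mul_avgOn_of_trivOn hM (piOf_le π _) hN (not_dvd_piOf hM hpπ _) ha h⟩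
  have h' : gidem M (Cen a.1) a.2 * avgOn M (piOf π (Cen a.1)) = gidem M (Cen a.1) a.2 := h
  rw [h']
  exact gidem_ne_zero ha

theorem step_facts (hM : IsPModular p M) (hpπ : p ∈ π) {a b : BrauerPairIdx G}
    (h : NormalSubpairRel p M a b) :
    br b.1 (pid M a * avgOn M (piOf π (Cen a.1))) =
        br b.1 (pid M a) * avgOn M (piOf π (Cen a.1) ⊓ Cen b.1) ∧
      ¬ p ∣ Nat.card (piOf π (Cen a.1) ⊓ Cen b.1 : Subgroup G) := by
  obtain ⟨-, hb, -, hN, hfix, -⟩ := (normalSubpair_iff hM).mp h
  have h0 : b.1 ≤ Subgroup.normalizer (Cen a.1 : Set G) := fun v hv =>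
    mem_normalizer_centralizer (hN hv)
  have hNK := h0.trans (normalizer_le_piOf π (Cen a.1))
  exact ⟨by rw [← br_avgOn hM hb.1 hNK]; exact br_mul hM hb.1 hfix (isFixed_avgOn hNK),
    not_dvd_of_le_piOf hM hpπ inf_le_left⟩

/-- Descent. -/
theorem killsPi_down (hM : IsPModular p M) (hpπ : p ∈ π) {a b : BrauerPairIdx G}
    (h : Relation.ReflTransGen (NormalSubpairRel p M) a b) (hb : KillsPi (M := M) π b) :
    KillsPi (M := M) π a := by
  induction h using Relation.ReflTransGen.head_induction_on with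
  | refl => exact hb
  | @head a c hac _ ih =>
    obtain ⟨h1, h2⟩ := step_facts hM hpπ hac
    obtain ⟨ha, hc, hle, -, -, hocc⟩ := (normalSubpair_iff hM).mp hac
    have hocc' : br c.1 (pid M a) * pid M c = pid M c := hocc
    have h3 : pid M c * avgOn M (piOf π (Cen a.1) ⊓ Cen c.1) = pid M c :=
      mul_avgOn_mono hM (inf_cen_le_piOf π hle) h2 (centralIn_gidem c.2) (piOf_le π _) ih
    have hN := Subgroup.le_normalizer.trans (normalizer_le_piOf π (Cen a.1))
    refine (killsPi_iff hM hpπ ha.2).mpr (trivOn_of_mul_ne_zero hM (piOf_le π _) hN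
      (not_dvd_piOf hM hpπ _) ha.2 fun h0 => gidem_ne_zero hc.2 ?_)
    have h4 : br c.1 (pid M a) * avgOn M (piOf π (Cen a.1) ⊓ Cen c.1) = 0 := by
      rw [← h1, show pid M a * avgOn M (piOf π (Cen a.1)) = 0 from h0, br_zero]
    show pid M c = 0
    calc pid M c = br c.1 (pid M a) * (pid M c * avgOn M (piOf π (Cen a.1) ⊓ Cen c.1)) := by
          rw [h3, hocc']
      _ = br c.1 (pid M a) * avgOn M (piOf π (Cen a.1) ⊓ Cen c.1) * pid M c := by
          rw [(centralIn_gidem c.2).commute_of_supp fun g hg => by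
            classical
            rw [coeff_avgOn, if_neg fun h5 => hg h5.2], mul_assoc]
      _ = 0 := by rw [h4, zero_mul]

/-- Ascent, when the core is a Hall subgroup. -/
theorem killsPi_up (hM : IsPModular p M) (hpπ : p ∈ π) {a b : BrauerPairIdx G}
    (h : Relation.ReflTransGen (NormalSubpairRel p M) a b) (ha : KillsPi (M := M) π a)
    (hHall : ∀ x ∈ Cen a.1, (∀ q : ℕ, q.Prime → q ∣ orderOf x → q ∉ π) → x ∈ piOf π (Cen a.1)) :
    KillsPi (M := M) π b := by
  suffices KillsPi (M := M) π b ∧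
      ∀ x ∈ Cen b.1, (∀ q : ℕ, q.Prime → q ∣ orderOf x → q ∉ π) → x ∈ piOf π (Cen b.1) from this.1
  induction h with
  | refl => exact ⟨ha, hHall⟩
  | @tail b c _ hbc ih =>
    obtain ⟨ihk, ihh⟩ := ih
    obtain ⟨h1, h2⟩ := step_facts hM hpπ hbc
    obtain ⟨hb, hc, hle, -, -, hocc⟩ := (normalSubpair_iff hM).mp hbc
    have hocc' : br c.1 (pid M b) * pid M c = pid M c := hocc
    have hin : ∀ x ∈ Cen c.1, (∀ q : ℕ, q.Prime → q ∣ orderOf x → q ∉ π) →
        x ∈ piOf π (Cen b.1) ⊓ Cen c.1 :=
      fun x hx hq => ⟨ihh x (centralizer_anti hle hx) hq, hx⟩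
    have heq : piOf π (Cen b.1) ⊓ Cen c.1 = piOf π (Cen c.1) := le_antisymm (inf_cen_le_piOf π hle)
      fun x hx => hin x (piOf_le π _ hx) fun q hq hd => prime_notMem_piOf π (Cen c.1) hq (by
        rw [← Subgroup.orderOf_mk x hx] at hd
        exact hd.trans (orderOf_dvd_natCard _))
    refine ⟨?_, fun x hx hq => heq ▸ hin x hx hq⟩
    show pid M c * avgOn M (piOf π (Cen c.1)) = pid M c
    rw [← heq]
    conv_lhs => rw [← hocc', mul_assoc]
    rw [(centralIn_gidem c.2).commute_of_supp fun g hg => by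
      classical
      rw [coeff_avgOn, if_neg fun h5 => hg h5.2]]
    rw [← mul_assoc, ← h1, show pid M b * avgOn M (piOf π (Cen b.1)) = pid M b from ihk, hocc']

end CfsgLib.CharBlocks
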