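import Cfsg.Agent.Lib.Char.Linear
import Cfsg.Agent.Lib.Char.Integral
import Cfsg.Agent.Lib.CharNormal.Clifford
import Cfsg.Agent.Lib.CharBlocks.Degree
import Mathlib.GroupTheory.PGroup
import Mathlib.GroupTheory.Transfer

/-!
Linear constituents of restrictions to `p`-subgroups.
-/

namespace CfsgLib.CharBlocks.LinConst

open Cfsg CfsgLib.Char

variable {G : Type*} [Group G]

/-- A character of `p'`-degree has a linear constituent on every `p`-subgroup. -/
theorem exists_linear_constituent [Finite G] {p : ℕ} [hp : Fact p.Prime] (P : Subgroup G)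
    (hP : IsPGroup p P) [Fintype P] (χ : IrrCharacter G) (hd : ¬ p ∣ charDegree (χ : G → ℂ)) :
    ∃ μ : P →* ℂˣ, classInner (fun x : P => (χ : G → ℂ) x) (fun x => (μ x : ℂ)) ≠ 0 := by
  classical
  have := Fintype.ofFinite G
  have hres := isCharacter_res P (isCharacter_of_isIrr χ.2)
  obtain ⟨m, hm, hmi⟩ := char_decomp hres
  by_contra hcon
  push Not at hcon
  apply hd
  obtain ⟨k, hk⟩ := IsPGroup.iff_card.1 hP
  have h1 := congrFun hm 1
  simp only [Finset.sum_apply, Pi.smul_apply, smul_eq_mul, OneMemClass.coe_one] at h1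
  simp only [← coe_charDegree_irr] at h1
  have h2 : charDegree (χ : G → ℂ) = ∑ η, m η * charDegree (η : P → ℂ) := by exact_mod_cast h1
  rw [h2]
  refine Finset.dvd_sum fun η _ => ?_
  have hdvd := charDegree_dvd_card η.2
  rw [hk] at hdvd
  obtain ⟨i, -, hi⟩ := (Nat.dvd_prime_pow hp.out).1 hdvd
  rcases i with _ | i
  · have h1η : (η : P → ℂ) 1 = 1 := by
      rw [← coe_charDegree_irr, hi, pow_zero, Nat.cast_one]
    have h0 := hcon (linearHom (isCharacter_of_isIrr η.2) h1η)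
    simp only [linearHom_apply] at h0
    rw [hmi η] at h0
    rw [Nat.cast_eq_zero.1 h0, zero_mul]
    exact dvd_zero p
  · exact dvd_mul_of_dvd_right (hi ▸ dvd_pow_self p i.succ_ne_zero) _

/-- A linear constituent on `P` restricts to a constituent on `M ≤ P`. -/
theorem classInner_res_ne_zero [Finite G] (P M : Subgroup G) (hMP : M ≤ P) [Fintype P] [Fintype M]
    (χ : IrrCharacter G) (μ : P →* ℂˣ)
    (h : classInner (fun x : P => (χ : G → ℂ) x) (fun x => (μ x : ℂ)) ≠ 0) :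
    classInner (fun x : M => (χ : G → ℂ) x) (fun x => (μ ⟨x, hMP x.2⟩ : ℂ)) ≠ 0 := by
  classical
  have := Fintype.ofFinite G
  obtain ⟨m, hm, hmi⟩ := char_decomp (isCharacter_res P (isCharacter_of_isIrr χ.2))
  set μ₀ : IrrCharacter P := ⟨_, isIrrCharacter_units_hom μ⟩ with hμ₀
  have hm0 : m μ₀ ≠ 0 := by
    intro e
    apply h
    rw [show (fun x : P => (μ x : ℂ)) = (μ₀ : P → ℂ) from rfl, hmi μ₀, e, Nat.cast_zero]
  have hl : IsCharacter M (fun x : M => (μ ⟨x, hMP x.2⟩ : ℂ)) :=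
    isCharacter_comp (isCharacter_of_isIrr μ₀.2) (Subgroup.inclusion hMP)
  have hirr : IsIrrCharacter M (fun x : M => (μ ⟨x, hMP x.2⟩ : ℂ)) :=
    isIrrCharacter_units_hom (μ.comp (Subgroup.inclusion hMP))
  choose k hk using fun η : IrrCharacter P => classInner_char_nat
    (isCharacter_comp (isCharacter_of_isIrr η.2) (Subgroup.inclusion hMP)) hl
  have e : (fun x : M => (χ : G → ℂ) x) =
      ∑ η : IrrCharacter P, (m η : ℂ) • ((η : P → ℂ) ∘ Subgroup.inclusion hMP) := by
    funext x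
    have := congrFun hm ⟨x, hMP x.2⟩
    simp only [Finset.sum_apply, Pi.smul_apply, smul_eq_mul, Function.comp_apply] at this ⊢
    exact this
  rw [e, classInner_sum_left]
  simp only [classInner_smul_left, hk]
  have hk0 : k μ₀ = 1 := by
    have := hk μ₀
    rw [show ((μ₀ : P → ℂ) ∘ Subgroup.inclusion hMP) = fun x : M => (μ ⟨x, hMP x.2⟩ : ℂ) from rfl,
      classInner_irr_self hirr] at this
    exact_mod_cast this.symm
  have hnat : (∑ η : IrrCharacter P, (m η : ℂ) * (k η : ℂ)) = ((∑ η, m η * k η : ℕ) : ℂ) := by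
    push_cast; rfl
  rw [hnat, Nat.cast_ne_zero]
  intro hz
  have := Finset.sum_eq_zero_iff.1 hz μ₀ (Finset.mem_univ _)
  rw [hk0, mul_one] at this
  exact hm0 this

/-- If a character above `θ` restricts with linear constituent `μ` to `P ≥ M`, then `μ` is a
conjugate of `θ` on `M`. -/
theorem exists_conj_eq [Finite G] (P M : Subgroup G) [M.Normal] (hMP : M ≤ P) [Fintype P] [Fintype M]
    (χ : IrrCharacter G) (μ : P →* ℂˣ)
    (h : classInner (fun x : P => (χ : G → ℂ) x) (fun x => (μ x : ℂ)) ≠ 0)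
    {θ : M → ℂ} (hθ : IsIrrCharacter M θ) (hc : classInner (fun x : M => (χ : G → ℂ) x) θ ≠ 0) :
    ∃ g : G, CharNormal.conjFun M g θ = fun x : M => (μ ⟨x, hMP x.2⟩ : ℂ) := by
  have := Fintype.ofFinite G
  exact CharNormal.exists_conj_of_constituents M χ.2 hθ
    (isIrrCharacter_units_hom (μ.comp (Subgroup.inclusion hMP))) hc
    (classInner_res_ne_zero P M hMP χ μ h)

/-- An invariant linear character extendible to a subgroup of `p'`-index extends. -/
theorem exists_ext {T : Type*} [Group T] [Finite T] {p : ℕ} [Fact p.Prime] (P M : Subgroup T)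
    [M.Normal] (hMP : M ≤ P) (hMp : IsPGroup p M) (hidx : ¬ p ∣ P.index) (μ : P →* ℂˣ)
    (hinv : ∀ (g : T) (x : T) (hx : x ∈ M),
      μ ⟨g⁻¹ * x * g, hMP (by simpa using ‹M.Normal›.conj_mem x hx g⁻¹)⟩ = μ ⟨x, hMP hx⟩) :
    ∃ ν : T →* ℂˣ, ∀ (m : T) (hm : m ∈ M), ν m = μ ⟨m, hMP hm⟩ := by
  classical
  obtain ⟨k, hk⟩ := IsPGroup.iff_card.1 hMp
  have hcop : Nat.Coprime P.index (Nat.card M) := by
    rw [hk]
    exact Nat.Coprime.pow_right _ (((Fact.out : p.Prime).coprime_iff_not_dvd.2 hidx).symm)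
  refine ⟨(MonoidHom.transfer μ) ^ Nat.gcdA P.index (Nat.card M), fun m hm => ?_⟩
  have := Fintype.ofFinite (Quotient (MulAction.orbitRel (Subgroup.zpowers m) (T ⧸ P)))
  have hν : MonoidHom.transfer μ m = μ ⟨m, hMP hm⟩ ^ P.index := by
    rw [MonoidHom.transfer_eq_prod_quotient_orbitRel_zpowers_quot,
      Subgroup.index_eq_sum_minimalPeriod P m, ← Finset.prod_pow_eq_pow_sum]
    refine Finset.prod_congr rfl fun q _ => ?_
    rw [← map_pow]
    exact hinv _ _ (pow_mem hm _)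
  have hone : μ ⟨m, hMP hm⟩ ^ Nat.card M = 1 := by
    rw [← map_pow]
    convert map_one μ
    exact Subtype.ext (orderOf_dvd_iff_pow_eq_one.1 (Subgroup.orderOf_dvd_natCard M hm))
  rw [MonoidHom.zpow_apply, hν]
  conv_rhs => rw [← zpow_one (μ ⟨m, hMP hm⟩), show (1 : ℤ) = ((P.index.gcd (Nat.card M) : ℕ) : ℤ) by
    rw [hcop]; rfl, Nat.gcd_eq_gcd_ab, zpow_add, zpow_mul, zpow_mul, zpow_natCast, zpow_natCast, hone,
    one_zpow, mul_one]

end CfsgLib.CharBlocks.LinConst
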