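import Cfsg.Agent.Lib.CharBlocks.RealOddElement
import Cfsg.Agent.Lib.Cores.PConstrained
import Cfsg.Agent.Lib.Cores.Balance
import Cfsg.Agent.Lib.Invol.ZStarFinal
import Cfsg.Agent.Lib.Transfer.SolvablePSolvable
import Cfsg.Agent.Lib.OddLocal.Ten.PLengthTools
import Cfsg.Agent.S0205
import Cfsg.Agent.S4744

/-!
# Transitive groups of prime power degree without characters of defect zero

If centralizers of nontrivial `p`-elements have odd order, the degree is a power of `p` and no character has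
`p`-defect zero, then every involution fixes exactly one point, the product of two involutions with different
fixed points is a `p`-element, so each point stabilizer has only one involution, and Glauberman's Z*-theorem
makes the group `p`-solvable.
-/

set_option autoImplicit false

namespace CfsgLib.CharBlocks.OneFixedPoint

open Subgroup Cfsg
open CfsgLib.CharBlocks (InvolSylow.Inverts)

variable {G Ω : Type*} [Group G] [Finite G] [MulAction G Ω] [FaithfulSMul G Ω] [Fintype Ω]
  {p : ℕ} [hp : Fact p.Prime] {r : ℕ}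

/-- What is assumed. -/
structure Hyp (G Ω : Type*) [Group G] [MulAction G Ω] [Fintype Ω] (p r : ℕ) : Prop where
  trans : MulAction.IsPretransitive G Ω
  hp2 : p ≠ 2
  hpG : p ∣ Nat.card G
  h2G : 2 ∣ Nat.card G
  hC : ∀ g : G, g ≠ 1 → (∃ k : ℕ, orderOf g = p ^ k) → Odd (Nat.card ↥(centralizer ({g} : Set G)))
  hdeg : Fintype.card Ω = p ^ r
  hno : ¬ ∃ χ : Cfsg.IrrCharacter G,
    (Cfsg.charDegree (χ : G → ℂ)).factorization p = (Nat.card G).factorization p

omit hp in
theorem exists_orderOf_eq_pow [Fact p.Prime] {P : Subgroup G} (hP : IsPGroup p P) {z : G} (hz : z ∈ P) :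
    ∃ k, orderOf z = p ^ k := by
  obtain ⟨k, hk⟩ := IsPGroup.iff_orderOf.mp hP ⟨z, hz⟩
  exact ⟨k, by rw [← hk, Subgroup.orderOf_mk]⟩

variable (h : Hyp G Ω p r)
include h

omit [FaithfulSMul G Ω] hp in
theorem odd_of_p [Fact p.Prime] {z : G} (hz : ∃ k, orderOf z = p ^ k) : Odd (orderOf z) := by
  obtain ⟨k, hk⟩ := hz
  rw [hk]
  exact ((Fact.out : p.Prime).odd_of_ne_two h.hp2).pow

omit [FaithfulSMul G Ω] in
theorem hodd (t z : G) (ht : orderOf t = 2) (hz : ∃ k, orderOf z = p ^ k) (hcom : t * z = z * t) : z = 1 := by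
  by_contra hz1
  have h' := orderOf_dvd_natCard (⟨t, mem_centralizer_singleton_iff.mpr hcom⟩ : centralizer ({z} : Set G))
  rw [Subgroup.orderOf_mk, ht] at h'
  exact Nat.not_even_iff_odd.mpr (h.hC z hz1 hz) (even_iff_two_dvd.mpr h')

omit [FaithfulSMul G Ω] in
theorem not_dvd_centralizer {v : G} (hv : orderOf v = 2) :
    ¬ p ∣ Nat.card (centralizer ({v} : Set G)) := fun hd => by
  obtain ⟨w, hw⟩ := exists_prime_orderOf_dvd_card' p hd
  rw [← Subgroup.orderOf_coe] at hw
  have := hodd h v w hv ⟨1, by rw [hw, pow_one]⟩ (mem_centralizer_singleton_iff.mp w.2).symm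
  rw [this, orderOf_one] at hw
  exact hp.out.ne_one hw.symm

omit [FaithfulSMul G Ω] in
/-- Every Sylow `p`-subgroup is abelian. -/
theorem sylow_comm (P : Sylow p G) : ∀ a ∈ (P : Subgroup G), ∀ b ∈ (P : Subgroup G), a * b = b * a := by
  have h1 := ((Cfsg.Agent.S4744.result p h.hp2 h.hpG h.h2G h.hC).resolve_left h.hno P).2
  exact fun a ha b hb => congrArg Subtype.val (h1.is_comm.comm ⟨a, ha⟩ ⟨b, hb⟩)

omit [FaithfulSMul G Ω] in
/-- A Sylow `p`-subgroup is transitive. -/
theorem sylow_transitive (P : Sylow p G) (α β : Ω) : ∃ z ∈ (P : Subgroup G), z • α = β := by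
  haveI := h.trans
  have hG : Nat.card G = p ^ r * Nat.card (MulAction.stabilizer G α) := by
    rw [← index_mul_card (MulAction.stabilizer G α), MulAction.index_stabilizer_of_transitive,
      Nat.card_eq_fintype_card (α := Ω), h.hdeg]
  set K := MulAction.stabilizer (P : Subgroup G) α
  have hK : Nat.card K ∣ Nat.card (MulAction.stabilizer G α) := by
    rw [← card_map_of_injective (P : Subgroup G).subtype_injective]
    refine card_dvd_of_le ?_
    rintro _ ⟨z, hz, rfl⟩
    exact hz
  have hKp : IsPGroup p K := P.isPGroup'.to_subgroup _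
  obtain ⟨a, ha⟩ := IsPGroup.iff_card.1 hKp
  have horb : K.index * p ^ a = p ^ ((Nat.card G).factorization p) := by
    rw [← ha, index_mul_card, P.card_eq_multiplicity]
  have hle : p ^ r ≤ K.index := by
    have hS : Nat.card (MulAction.stabilizer G α) ≠ 0 := Nat.card_pos.ne'
    have h1 : a ≤ (Nat.card (MulAction.stabilizer G α)).factorization p :=
      (hp.out.pow_dvd_iff_le_factorization hS).1 (ha ▸ hK)
    have h2 : (Nat.card G).factorization p = r + (Nat.card (MulAction.stabilizer G α)).factorization p := by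
      rw [hG, Nat.factorization_mul (pow_ne_zero _ hp.out.ne_zero) hS]
      simp [hp.out.factorization_pow]
    refine Nat.le_of_mul_le_mul_right ?_ (pow_pos hp.out.pos a)
    rw [horb, h2, ← pow_add]
    exact Nat.pow_le_pow_right hp.out.pos (by omega)
  have huniv : MulAction.orbit (P : Subgroup G) α = Set.univ := by
    refine Set.eq_of_subset_of_ncard_le (Set.subset_univ _) ?_ (Set.toFinite _)
    rw [Set.ncard_univ, Nat.card_eq_fintype_card, h.hdeg, ← MulAction.index_stabilizer]
    exact hle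
  obtain ⟨z, hz⟩ := huniv.ge (Set.mem_univ β)
  exact ⟨z, z.2, hz⟩

/-- A nontrivial `p`-element fixes no point. -/
theorem eq_one_of_smul_eq {z : G} (hz : ∃ k, orderOf z = p ^ k) {α : Ω} (hα : z • α = α) : z = 1 := by
  obtain ⟨k, hk⟩ := hz
  obtain ⟨P, hP⟩ := (IsPGroup.of_card (n := k) (by rw [Nat.card_zpowers, hk]) : IsPGroup p (zpowers z)).exists_le_sylow
  refine eq_of_smul_eq_smul (α := Ω) fun β => ?_
  obtain ⟨y, hy, rfl⟩ := sylow_transitive h P α β
  rw [one_smul, smul_smul, sylow_comm h P z (hP (mem_zpowers z)) y hy, mul_smul, hα]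

omit [FaithfulSMul G Ω] in
theorem exists_fixed {v : G} (hv : orderOf v = 2) : ∃ α : Ω, v • α = α := by
  classical
  haveI : Fact (Nat.Prime 2) := ⟨Nat.prime_two⟩
  obtain ⟨α, hα⟩ := Equiv.Perm.exists_fixed_point_of_prime (p := 2) (n := 1)
    (σ := MulAction.toPerm v)
    (fun hd => by
      rw [h.hdeg] at hd
      exact h.hp2 ((Nat.prime_dvd_prime_iff_eq Nat.prime_two hp.out).1 (Nat.prime_two.dvd_of_dvd_pow hd)).symm)
    (Equiv.ext fun x => by
      rw [pow_one, pow_two, Equiv.Perm.mul_apply, Equiv.Perm.one_apply, MulAction.toPerm_apply,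
        MulAction.toPerm_apply, smul_smul, InvolSylow.invol_mul_self hv, one_smul])
  exact ⟨α, hα⟩

/-- An involution fixes exactly one point. -/
theorem fixed_unique {v : G} (hv : orderOf v = 2) {α β : Ω} (hα : v • α = α) (hβ : v • β = β) : α = β := by
  obtain ⟨P, hP⟩ := Cfsg.Agent.S4744.exists_inverted h.hp2 (even_iff_two_dvd.mpr h.h2G) (hodd h) h.hno hv
  obtain ⟨z, hz, rfl⟩ := sylow_transitive h P α β
  have h1 : v • z • α = z⁻¹ • α := by
    rw [← hP z hz, smul_smul, mul_smul (v * z), inv_eq_of_mul_eq_one_right (InvolSylow.invol_mul_self hv), hα]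
  have h2 : (z * z) • α = α := by
    rw [mul_smul]
    calc z • z • α = z • (v • z • α) := by rw [hβ]
      _ = z • z⁻¹ • α := by rw [h1]
      _ = α := smul_inv_smul z α
  have hzp := exists_orderOf_eq_pow P.isPGroup' hz
  have h3 := eq_one_of_smul_eq h (exists_orderOf_eq_pow P.isPGroup' (mul_mem hz hz)) h2
  have h4 : orderOf z ∣ 2 := orderOf_dvd_of_pow_eq_one (by rw [pow_two, h3])
  have h5 : z = 1 := orderOf_eq_one_iff.1
    (Nat.eq_one_of_dvd_coprimes (Nat.coprime_two_right.2 (odd_of_p h hzp)) dvd_rfl h4)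
  rw [h5, one_smul]

/-- Commuting involutions fix the same point. -/
theorem fixed_eq_of_commute {v z : G} (hv : orderOf v = 2) (hz : orderOf z = 2) (hvz : v * z = z * v)
    {α γ : Ω} (hα : v • α = α) (hγ : z • γ = γ) : α = γ :=
  fixed_unique h hz (fixed_unique h hv (by rw [smul_smul, hvz, mul_smul, hα]) hα) hγ

/-- An inverted element moving the fixed point of the involution has a centralizer of odd order. -/
theorem odd_centralizer {v g : G} (hv : orderOf v = 2) (hgv : v * g * v⁻¹ = g⁻¹) (hg : Odd (orderOf g))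
    {α : Ω} (hα : v • α = α) (hgα : g • α ≠ α) : Odd (Nat.card (centralizer ({g} : Set G))) := by
  by_contra heven
  rw [Nat.not_odd_iff_even, even_iff_two_dvd] at heven
  obtain ⟨⟨w, hwC⟩, hw⟩ := exists_prime_orderOf_dvd_card' 2 heven
  rw [Subgroup.orderOf_mk] at hw
  have hwg := mem_centralizer_singleton_iff.mp hwC
  obtain ⟨γ, hγ⟩ := exists_fixed h hw
  have hvv := InvolSylow.invol_mul_self hv
  have hww := InvolSylow.invol_mul_self hw
  have hvi : v⁻¹ = v := inv_eq_of_mul_eq_one_right hvv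
  have hwi : w⁻¹ = w := inv_eq_of_mul_eq_one_right hww
  have hgγ : g • γ = γ := fixed_unique h hw (by rw [smul_smul, hwg, mul_smul, hγ]) hγ
  set c := w * v with hc
  by_cases hodd' : Odd (orderOf c)
  · obtain ⟨d, hd, hd'⟩ := InvolSylow.exists_conj_eq_mul hvv (c := c)
      (by rw [hc, mul_assoc w v v, hvv, mul_one, hww]) hodd'
    rw [hc, mul_assoc w v v, hvv, mul_one] at hd'
    -- conjugation by `d` takes `g` to itself or its inverse, and `w` to an involution centralizing `g`
    have hpow : ∀ n : ℕ, c ^ n * g * (c ^ n)⁻¹ = g ∨ c ^ n * g * (c ^ n)⁻¹ = g⁻¹ := by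
      have hcg : c * g * c⁻¹ = g⁻¹ := by
        calc c * g * c⁻¹ = w * (v * g * v⁻¹) * w⁻¹ := by rw [hc]; group
          _ = (w * g * w⁻¹)⁻¹ := by rw [hgv]; group
          _ = g⁻¹ := by rw [hwg, mul_inv_cancel_right]
      intro n
      induction n with
      | zero => left; simp
      | succ n ih =>
        rw [pow_succ', show c * c ^ n * g * (c * c ^ n)⁻¹ = c * (c ^ n * g * (c ^ n)⁻¹) * c⁻¹ by group]
        rcases ih with e | e <;> rw [e]
        · exact Or.inr hcg
        · left
          rw [← conj_inv, hcg, inv_inv]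
    obtain ⟨n, rfl⟩ := Submonoid.mem_powers_iff _ _ |>.mp ((mem_powers_iff_mem_zpowers).mpr hd)
    have hvg : v * g * v⁻¹ = g := by
      have hwc : ∀ x : G, x = g ∨ x = g⁻¹ → w * x * w⁻¹ = x := by
        rintro x (rfl | rfl)
        · rw [hwg, mul_inv_cancel_right]
        · rw [← conj_inv, hwg, mul_inv_cancel_right]
      have h1 := hwc _ (hpow n)
      rw [← hd'] at h1
      calc v * g * v⁻¹ = (c ^ n)⁻¹ * (c ^ n * v * (c ^ n)⁻¹ * (c ^ n * g * (c ^ n)⁻¹) *
            (c ^ n * v * (c ^ n)⁻¹)⁻¹) * c ^ n := by group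
        _ = g := by rw [h1]; group
    rw [hgv] at hvg
    have hg1 : g = 1 := orderOf_eq_one_iff.1 (Nat.eq_one_of_dvd_coprimes (Nat.coprime_two_right.2 hg) dvd_rfl
      (orderOf_dvd_of_pow_eq_one (by
        rw [pow_two]
        nth_rewrite 1 [← hvg]
        rw [inv_mul_cancel])))
    exact hgα (by rw [hg1, one_smul])
  · rw [Nat.not_odd_iff_even, even_iff_two_dvd] at hodd'
    set z := c ^ (orderOf c / 2)
    have hz : orderOf z = 2 := orderOf_pow_orderOf_div (orderOf_pos c).ne' hodd'
    have hzi : z⁻¹ = z := inv_eq_of_mul_eq_one_right (InvolSylow.invol_mul_self hz)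
    have hwcw : w * c * w⁻¹ = c⁻¹ := by
      rw [hc, mul_inv_rev, hvi, hwi]
      calc w * (w * v) * w = (w * w) * v * w := by group
        _ = v * w := by rw [hww, one_mul]
    have hzw : z * w = w * z := by
      have h1 : w * z * w⁻¹ = z := by
        rw [← conj_pow, hwcw, inv_pow, hzi]
      calc z * w = (w * z * w⁻¹) * w := by rw [h1]
        _ = w * z := by group
    have hzv : z * v = v * z := by
      have h2 : Commute z c := (Commute.refl c).pow_left _
      have hv' : v = w⁻¹ * c := by rw [hc, inv_mul_cancel_left]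
      rw [hv', hwi]
      exact ((show Commute z w from hzw).mul_right h2).eq
    obtain ⟨δ, hδ⟩ := exists_fixed h hz
    have e1 := fixed_eq_of_commute h hv hz hzv.symm hα hδ
    have e2 := fixed_eq_of_commute h hw hz hzw.symm hγ hδ
    rw [e1, ← e2] at hgα
    exact hgα hgγ

/-- An inverted element of odd order moving the fixed point of the involution is a `p`-element. -/
theorem pElement {v g : G} (hv : orderOf v = 2) (hgv : v * g * v⁻¹ = g⁻¹) (hg : Odd (orderOf g))
    {α : Ω} (hα : v • α = α) (hgα : g • α ≠ α) : ∃ k, orderOf g = p ^ k := by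
  have hCo := odd_centralizer h hv hgv hg hα hgα
  have hg1 : g ≠ 1 := fun e => hgα (by rw [e, one_smul])
  have hpC : p ∣ Nat.card (centralizer ({g} : Set G)) := by
    by_contra hpC
    exact h.hno (exists_defectZero_of_inverted hv hgv hCo hpC (not_dvd_centralizer h hv))
  set C := centralizer ({g} : Set G) with hCdef
  have hvC : ∀ c ∈ C, v * c * v⁻¹ ∈ C := by
    intro c hc
    rw [mem_centralizer_singleton_iff] at hc ⊢
    have hvi : v * g⁻¹ * v⁻¹ = g := by rw [← conj_inv, hgv, inv_inv]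
    nth_rewrite 1 [← hvi]
    have hcg : c * g⁻¹ = g⁻¹ * c := (show Commute c g from hc).inv_right.eq
    calc v * c * v⁻¹ * (v * g⁻¹ * v⁻¹) = v * (c * g⁻¹) * v⁻¹ := by group
      _ = (v * g⁻¹ * v⁻¹) * (v * c * v⁻¹) := by rw [hcg]; group
      _ = g * (v * c * v⁻¹) := by rw [hvi]
  -- an involution `u` inverting `g` and normalizing a Sylow subgroup `S` of `C`
  obtain ⟨S⟩ : Nonempty (Sylow p C) := inferInstance
  set S' := (S : Subgroup C).map C.subtype with hS'
  have hvS : S'.map (MulAut.conj v).toMonoidHom ≤ C := by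
    rintro _ ⟨x, hx, rfl⟩
    exact hvC x (map_subtype_le _ hx)
  obtain ⟨S₂, hS₂⟩ := ((S.isPGroup'.map C.subtype).map (MulAut.conj v).toMonoidHom |>.of_equiv
    (subgroupOfEquivOfLe hvS).symm).exists_le_sylow
  obtain ⟨c, hcS⟩ := MulAction.exists_smul_eq C S₂ S
  have hcn : ∀ x ∈ S', (c : G) * v * x * ((c : G) * v)⁻¹ ∈ S' := by
    intro x hx
    have h1 : (⟨v * x * v⁻¹, hvC x (map_subtype_le _ hx)⟩ : C) ∈ (S₂ : Subgroup C) :=
      hS₂ (mem_map_of_mem (MulAut.conj v).toMonoidHom hx)
    have h2 : c * ⟨v * x * v⁻¹, hvC x (map_subtype_le _ hx)⟩ * c⁻¹ ∈ (c • S₂).toSubgroup := by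
      rw [Sylow.coe_subgroup_smul]
      exact Subgroup.smul_mem_pointwise_smul _ (MulAut.conj c) _ h1
    exact ⟨_, (le_of_eq (congrArg Sylow.toSubgroup hcS)) h2, by simp [mul_assoc]⟩
  set w := (c : G) * v with hw
  have hwg : w * g * w⁻¹ = g⁻¹ := by
    calc w * g * w⁻¹ = (c : G) * (v * g * v⁻¹) * (c : G)⁻¹ := by rw [hw]; group
      _ = ((c : G) * g * (c : G)⁻¹)⁻¹ := by rw [hgv]; group
      _ = g⁻¹ := by rw [mem_centralizer_singleton_iff.mp c.2, mul_inv_cancel_right]
  have hw2 : w * w ∈ C := by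
    rw [mem_centralizer_singleton_iff]
    have : (w * w) * g * (w * w)⁻¹ = g := by
      calc (w * w) * g * (w * w)⁻¹ = w * (w * g * w⁻¹) * w⁻¹ := by group
        _ = (w * g * w⁻¹)⁻¹ := by rw [hwg, ← conj_inv, hwg]
        _ = g := by rw [hwg, inv_inv]
    exact mul_inv_eq_iff_eq_mul.mp this
  obtain ⟨j, hj⟩ := hCo.of_dvd_nat (orderOf_dvd_natCard (⟨w * w, hw2⟩ : C))
  set u := w ^ orderOf (⟨w * w, hw2⟩ : C) with hu
  have huu : u * u = 1 := by
    rw [hu, ← (Commute.refl w).mul_pow]
    exact congrArg Subtype.val (pow_orderOf_eq_one (⟨w * w, hw2⟩ : C))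
  have hug : u * g * u⁻¹ = g⁻¹ := by
    have hev : ∀ n : ℕ, (w * w) ^ n * g * ((w * w) ^ n)⁻¹ = g := fun n => by
      rw [mem_centralizer_singleton_iff.mp (pow_mem hw2 n), mul_inv_cancel_right]
    rw [hu, hj, pow_succ', pow_mul, pow_two]
    calc w * (w * w) ^ j * g * (w * (w * w) ^ j)⁻¹ = w * ((w * w) ^ j * g * ((w * w) ^ j)⁻¹) * w⁻¹ := by group
      _ = g⁻¹ := by rw [hev, hwg]
  have hu2 : orderOf u = 2 := orderOf_eq_prime (hp := ⟨Nat.prime_two⟩) (by rw [pow_two, huu]) fun e => by
    rw [e, one_mul, inv_one, mul_one] at hug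
    refine hg1 (orderOf_eq_one_iff.1 (Nat.eq_one_of_dvd_coprimes (Nat.coprime_two_right.2 hg) dvd_rfl
      (orderOf_dvd_of_pow_eq_one ?_)))
    rw [pow_two]
    nth_rewrite 1 [hug]
    rw [inv_mul_cancel]
  have hun : ∀ x ∈ S', u * x * u⁻¹ ∈ S' := by
    have : ∀ (n : ℕ), ∀ x ∈ S', w ^ n * x * (w ^ n)⁻¹ ∈ S' := by
      intro n
      induction n with
      | zero => intro x hx; simpa using hx
      | succ n ih =>
        intro x hx
        rw [pow_succ', show w * w ^ n * x * (w * w ^ n)⁻¹ = w * (w ^ n * x * (w ^ n)⁻¹) * w⁻¹ by group]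
        exact hcn _ (ih x hx)
    exact this _
  -- an element `y` of order `p`, centralizing `g`, inverted by `u`
  obtain ⟨y, hyS, hy1, huy⟩ : ∃ y ∈ S', y ≠ 1 ∧ u * y * u⁻¹ = y⁻¹ := by
    obtain ⟨x, hx⟩ := exists_prime_orderOf_dvd_card' p hpC
    have hS1 : S' ≠ ⊥ := fun e => by
      have h1 := S.dvd_card_of_dvd_card hpC
      rw [← card_map_of_injective C.subtype_injective, ← hS', e, card_bot] at h1
      exact hp.out.not_dvd_one h1
    obtain ⟨y, hy, hy1⟩ := (bot_or_exists_ne_one S').resolve_left hS1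
    obtain ⟨Q, hQ⟩ := (S.isPGroup'.map C.subtype).exists_le_sylow
    refine ⟨y * (u * y * u⁻¹)⁻¹, mul_mem hy (inv_mem (hun y hy)), fun e => ?_, ?_⟩
    · rw [mul_inv_eq_one] at e
      refine hy1 (hodd h u y hu2 (exists_orderOf_eq_pow Q.isPGroup' (hQ hy)) ?_)
      calc u * y = u * y * u⁻¹ * u := by group
        _ = y * u := by rw [← e]
    · have hcomm : y * (u * y * u⁻¹) = u * y * u⁻¹ * y := sylow_comm h Q _ (hQ hy) _ (hQ (hun y hy))
      calc u * (y * (u * y * u⁻¹)⁻¹) * u⁻¹ = u * y * u⁻¹ * ((u * u) * y * (u * u)⁻¹)⁻¹ := by group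
        _ = u * y * u⁻¹ * y⁻¹ := by rw [huu]; group
        _ = (y * (u * y * u⁻¹)⁻¹)⁻¹ := by group
  have hyg : g * y = y * g := (mem_centralizer_singleton_iff.mp (map_subtype_le _ hyS)).symm
  have hyp : ∃ k, orderOf y = p ^ k := exists_orderOf_eq_pow (S.isPGroup'.map C.subtype) hyS
  -- the centralizer `X` of `y`
  set X := centralizer ({y} : Set G) with hX
  have hXo : Odd (Nat.card X) := h.hC y hy1 hyp
  haveI : Group.IsSolvable X := Cfsg.Agent.S0205.result hXo
  obtain ⟨R, hR⟩ : ∃ R : Sylow p G, y ∈ (R : Subgroup G) := by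
    obtain ⟨k, hk⟩ := hyp
    obtain ⟨R, hR⟩ := (IsPGroup.of_card (n := k) (by rw [Nat.card_zpowers, hk]) : IsPGroup p (zpowers y)).exists_le_sylow
    exact ⟨R, hR (mem_zpowers y)⟩
  have hRX : (R : Subgroup G) ≤ X := fun z hz => mem_centralizer_singleton_iff.mpr (sylow_comm h R z hz y hR)
  have hcore : pPrimeCore p X = ⊥ := by
    rw [eq_bot_iff]
    intro x hx
    rw [Subgroup.mem_bot]
    refine Subtype.ext (eq_of_smul_eq_smul (α := Ω) fun β => ?_)
    rw [OneMemClass.coe_one, one_smul]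
    set N := pPrimeCore p X
    set RX : Subgroup X := (R : Subgroup G).subgroupOf X
    set K := N ⊔ RX
    have htr : MulAction.orbit K β = Set.univ := Set.eq_univ_of_forall fun γ => by
      obtain ⟨z, hz, hzβ⟩ := sylow_transitive h R β γ
      exact ⟨⟨⟨z, hRX hz⟩, mem_sup_right (show (⟨z, hRX hz⟩ : X) ∈ RX from hz)⟩, hzβ⟩
    have hidx : (MulAction.stabilizer K β).index = p ^ r := by
      rw [MulAction.index_stabilizer, htr, Set.ncard_univ, Nat.card_eq_fintype_card, h.hdeg]
    -- the stabilizer lies in `N`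
    have hsub : ∀ k : K, k ∈ MulAction.stabilizer K β → (k : X) ∈ N := by
      intro k hk
      obtain ⟨n, hn, z, hz, hnz⟩ := CfsgLib.Solvable.exists_mul_of_mem_sup
        (show RX ≤ normalizer (N : Set X) from le_top.trans (normalizer_eq_top_iff.2 inferInstance).ge) k.2
      by_contra hkN
      have hzne : z ≠ 1 := fun e => hkN (by rw [hnz, e, mul_one]; exact hn)
      -- a power of `k` is congruent to a nontrivial power of `z`
      obtain ⟨b, hb⟩ := exists_orderOf_eq_pow R.isPGroup' (show (z : G) ∈ (R : Subgroup G) from hz)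
      set m := Nat.card N
      have hm : (Nat.card N).Coprime p := CfsgLib.Cores.coprime_card_pPrimeCore p
      have hord : orderOf k ∣ p ^ b * m := by
        refine orderOf_dvd_of_pow_eq_one (Subtype.ext ?_)
        have h1 : ((k : X)) ^ (p ^ b) ∈ N := by
          rw [← QuotientGroup.eq_one_iff, QuotientGroup.mk_pow, hnz, QuotientGroup.mk_mul,
            (QuotientGroup.eq_one_iff n).2 hn, one_mul, ← QuotientGroup.mk_pow]
          refine (QuotientGroup.eq_one_iff _).2 ?_
          have : z ^ (p ^ b) = 1 := Subtype.ext (by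
            rw [SubgroupClass.coe_pow, ← hb, pow_orderOf_eq_one]; rfl)
          rw [this]
          exact one_mem _
        have h2 := congrArg Subtype.val (show (⟨((k : X)) ^ (p ^ b), h1⟩ : N) ^ m = 1 from pow_card_eq_one')
        simpa [pow_mul] using h2
      have hkm : k ^ m ∈ MulAction.stabilizer K β := pow_mem hk m
      have hp' : ∃ i, orderOf (((k ^ m : K) : X) : G) = p ^ i := by
        rw [Subgroup.orderOf_coe, Subgroup.orderOf_coe]
        have : orderOf (k ^ m) ∣ p ^ b := orderOf_dvd_of_pow_eq_one (by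
          rw [← pow_mul, mul_comm, ← orderOf_dvd_iff_pow_eq_one]; exact hord)
        obtain ⟨i, -, hi⟩ := (Nat.dvd_prime_pow hp.out).1 this
        exact ⟨i, hi⟩
      have h1 := eq_one_of_smul_eq h hp' hkm
      have hkm1 : (k : X) ^ m = 1 := Subtype.ext (by rw [← SubgroupClass.coe_pow]; exact h1)
      refine hkN ?_
      rw [← QuotientGroup.eq_one_iff]
      refine orderOf_eq_one_iff.1 (Nat.eq_one_of_dvd_coprimes (hm.pow_right b) ?_ ?_)
      · exact orderOf_dvd_of_pow_eq_one (by rw [← QuotientGroup.mk_pow, hkm1, QuotientGroup.mk_one])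
      · refine orderOf_dvd_of_pow_eq_one ?_
        rw [hnz, QuotientGroup.mk_mul, (QuotientGroup.eq_one_iff n).2 hn, one_mul, ← QuotientGroup.mk_pow]
        refine (QuotientGroup.eq_one_iff _).2 ?_
        have : z ^ (p ^ b) = 1 := Subtype.ext (by
          rw [SubgroupClass.coe_pow, ← hb, pow_orderOf_eq_one]; rfl)
        rw [this]
        exact one_mem _
    have heq : MulAction.stabilizer K β = N.subgroupOf K := by
      refine eq_of_le_of_card_ge (fun k hk => hsub k hk) ?_
      have h1 := index_mul_card (MulAction.stabilizer K β)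
      rw [hidx] at h1
      refine Nat.le_of_dvd Nat.card_pos ?_
      have hco : (Nat.card (N.subgroupOf K)).Coprime (p ^ r) := by
        rw [Nat.card_congr (subgroupOfEquivOfLe (le_sup_left : N ≤ K)).toEquiv]
        exact (CfsgLib.Cores.coprime_card_pPrimeCore p).pow_right r
      refine hco.dvd_of_dvd_mul_left ?_
      rw [h1]
      exact card_subgroup_dvd_card _
    exact (heq.ge (show (⟨x, mem_sup_left hx⟩ : K) ∈ N.subgroupOf K from hx) :)
  -- the Sylow subgroup is `O_p(X)`
  set O := pCore p X with hO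
  have hconst : centralizer (O : Set X) ≤ O := by
    rw [CfsgLib.Cores.centralizer_pCore_le_iff hcore]
    exact CfsgLib.Cores.layer_eq_bot_iff.2 fun L hL =>
      CfsgLib.Cores.component_not_le_of_isSolvable hL (inferInstance : Group.IsSolvable (⊤ : Subgroup X)) le_top
  obtain ⟨RS, hRS⟩ : ∃ RS : Sylow p X, (RS : Subgroup X) = (R : Subgroup G).subgroupOf X :=
    ⟨R.subtype hRX, rfl⟩
  have hRO : (RS : Subgroup X) ≤ O := fun z hz => hconst (mem_centralizer_iff.2 fun o ho =>
    Subtype.ext (sylow_comm h R _ (hRS.le (CfsgLib.Cores.pCore_le_sylow RS ho)) _ (hRS.le hz)))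
  -- `u` inverts `O`
  have huX : ∀ x : X, u * (x : G) * u⁻¹ ∈ X := by
    intro x
    rw [mem_centralizer_singleton_iff]
    have huy' : u * y⁻¹ * u⁻¹ = y := by rw [← conj_inv, huy, inv_inv]
    have hxy : (x : G) * y⁻¹ = y⁻¹ * x :=
      (show Commute (x : G) y from mem_centralizer_singleton_iff.mp x.2).inv_right.eq
    calc u * (x : G) * u⁻¹ * y = u * (x : G) * u⁻¹ * (u * y⁻¹ * u⁻¹) := by rw [huy']
      _ = u * ((x : G) * y⁻¹) * u⁻¹ := by group
      _ = (u * y⁻¹ * u⁻¹) * (u * (x : G) * u⁻¹) := by rw [hxy]; group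
      _ = y * (u * (x : G) * u⁻¹) := by rw [huy']
  let φ : X →* X :=
    { toFun := fun x => ⟨u * x * u⁻¹, huX x⟩
      map_one' := Subtype.ext (by simp)
      map_mul' := fun a b => Subtype.ext (by simp [mul_assoc]) }
  have hφinv : Function.Involutive φ := fun x => Subtype.ext (by
    show u * (u * (x : G) * u⁻¹) * u⁻¹ = x
    calc u * (u * (x : G) * u⁻¹) * u⁻¹ = (u * u) * x * (u * u)⁻¹ := by group
      _ = x := by rw [huu]; group)
  have hinvO : ∀ z ∈ O, u * (z : G) * u⁻¹ = (z : G)⁻¹ := by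
    intro z hz
    have hzO : φ z ∈ O := by
      let e : X ≃* X := { φ with invFun := φ, left_inv := hφinv, right_inv := hφinv }
      have := (Subgroup.characteristic_iff_comap_eq.1 (CfsgLib.Cores.pCore_characteristic (G := X) p) e).ge hz
      exact this
    have hcomm : (z : G) * (φ z : G) = (φ z : G) * z :=
      sylow_comm h R _ (hRS.le (CfsgLib.Cores.pCore_le_sylow RS hz)) _ (hRS.le (CfsgLib.Cores.pCore_le_sylow RS hzO))
    have h1 : (φ z : G) * z = 1 := by
      refine hodd h u _ hu2 (exists_orderOf_eq_pow R.isPGroup'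
        (mul_mem (hRS.le (CfsgLib.Cores.pCore_le_sylow RS hzO)) (hRS.le (CfsgLib.Cores.pCore_le_sylow RS hz)))) ?_
      show u * (u * (z : G) * u⁻¹ * z) = u * (z : G) * u⁻¹ * z * u
      calc u * (u * (z : G) * u⁻¹ * z) = (u * u) * (z * (u⁻¹ * z)) := by group
        _ = (z : G) * (u * z * u⁻¹) * u := by rw [huu, one_mul, inv_eq_of_mul_eq_one_right huu]; simp [mul_assoc, huu]
        _ = _ := by rw [show (u * (z : G) * u⁻¹) = (φ z : G) from rfl, hcomm]
    exact eq_inv_of_mul_eq_one_left h1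
  -- hence `g² ∈ O`
  have hgX : g ∈ X := mem_centralizer_singleton_iff.mpr hyg
  have hgg : (⟨g, hgX⟩ : X) * ⟨g, hgX⟩ ∈ O := by
    refine hconst (mem_centralizer_iff.2 fun o ho => Subtype.ext ?_)
    show (o : G) * (g * g) = g * g * o
    have hon : O.Normal := inferInstance
    have h1 := hinvO _ (hon.conj_mem o ho ⟨g, hgX⟩)
    have h2 := hinvO o ho
    have h1' : u * (g * o * g⁻¹) * u⁻¹ = (g * o * g⁻¹)⁻¹ := h1
    have h3 : g⁻¹ * (o : G) * g = g * o * g⁻¹ := by
      rw [← inv_inj (a := g⁻¹ * (o : G) * g), ← h1']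
      calc (g⁻¹ * (o : G) * g)⁻¹ = g⁻¹ * (o : G)⁻¹ * g⁻¹⁻¹ := by group
        _ = (u * g * u⁻¹) * (u * o * u⁻¹) * (u * g * u⁻¹)⁻¹ := by rw [hug, h2]
        _ = _ := by group
    calc (o : G) * (g * g) = g * (g⁻¹ * o * g) * g := by group
      _ = g * g * o := by rw [h3]; group
  obtain ⟨k, hk⟩ := exists_orderOf_eq_pow R.isPGroup' (hRS.le (CfsgLib.Cores.pCore_le_sylow RS hgg) :
    g * g ∈ (R : Subgroup G))
  refine ⟨k, ?_⟩
  have hk' : orderOf (g * g) = p ^ k := hk
  rw [← hk', ← pow_two, Nat.Coprime.orderOf_pow (Nat.coprime_two_right.2 hg)]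

/-- The product of two involutions with different fixed points is a `p`-element. -/
theorem mul_pElement {v u : G} (hv : orderOf v = 2) (hu : orderOf u = 2) {α β : Ω} (hα : v • α = α)
    (hβ : u • β = β) (hne : α ≠ β) : ∃ k, orderOf (u * v) = p ^ k := by
  have hvv := InvolSylow.invol_mul_self hv
  have huu := InvolSylow.invol_mul_self hu
  have hvi : v⁻¹ = v := inv_eq_of_mul_eq_one_right hvv
  have hui : u⁻¹ = u := inv_eq_of_mul_eq_one_right huu
  have hinv : v * (u * v) * v⁻¹ = (u * v)⁻¹ := by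
    rw [mul_inv_rev, hui, hvi]
    simp [mul_assoc, hvv]
  refine pElement h hv hinv ?_ hα fun e => hne ?_
  · by_contra hodd'
    rw [Nat.not_odd_iff_even, even_iff_two_dvd] at hodd'
    set c := u * v
    set z := c ^ (orderOf c / 2)
    have hz : orderOf z = 2 := orderOf_pow_orderOf_div (orderOf_pos c).ne' hodd'
    have h1 : v * z * v⁻¹ = z := by
      rw [← conj_pow, hinv, inv_pow, inv_eq_of_mul_eq_one_right (InvolSylow.invol_mul_self hz)]
    have hzv : z * v = v * z := by
      calc z * v = (v * z * v⁻¹) * v := by rw [h1]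
        _ = v * z := by group
    have hzu : z * u = u * z := by
      have h2 : Commute z c := (Commute.refl c).pow_left _
      have hu' : u = c * v := by simp [c, mul_assoc, hvv]
      rw [hu']
      exact (h2.mul_right (show Commute z v from hzv)).eq
    obtain ⟨δ, hδ⟩ := exists_fixed h hz
    exact hne ((fixed_eq_of_commute h hv hz hzv.symm hα hδ).trans (fixed_eq_of_commute h hu hz hzu.symm hβ hδ).symm)
  · rw [mul_smul, hα] at e
    exact fixed_unique h hu e hβ

/-- Two involutions with the same fixed point are equal. -/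
theorem eq_of_fixed {v u : G} (hv : orderOf v = 2) (hu : orderOf u = 2) {γ : Ω} (hvγ : v • γ = γ)
    (huγ : u • γ = γ) : u = v := by
  classical
  haveI := h.trans
  haveI : Fact (Nat.Prime 2) := ⟨Nat.prime_two⟩
  -- involutions agreeing at a point they move have the same fixed point
  have key : ∀ {a b : G}, orderOf a = 2 → orderOf b = 2 → ∀ {μ ν α : Ω}, a • μ = μ → b • ν = ν →
      a • α = b • α → μ = ν := by
    intro a b ha hb μ ν α hμ hν hab
    by_contra hne
    obtain ⟨k, hk⟩ := mul_pElement h ha hb hμ hν hne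
    have h1 : (b * a) • α = α := by rw [mul_smul, hab, smul_smul, InvolSylow.invol_mul_self hb, one_smul]
    have h2 := eq_one_of_smul_eq h ⟨k, hk⟩ h1
    have h3 : b = a := by
      calc b = b * (a * a) := by rw [InvolSylow.invol_mul_self ha, mul_one]
        _ = a := by rw [← mul_assoc, h2, one_mul]
    subst h3
    exact hne (fixed_unique h hb hμ hν)
  have hex : ∀ δ : Ω, ∃ a : G, orderOf a = 2 ∧ a • δ = δ := fun δ => by
    obtain ⟨g, hg⟩ := MulAction.exists_smul_eq G γ δ
    refine ⟨g * v * g⁻¹, (SemiconjBy.conj_mk g v).orderOf_eq.symm.trans hv, ?_⟩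
    rw [← hg, mul_smul, mul_smul, inv_smul_smul, hvγ]
  choose f hf hfix using hex
  refine eq_of_smul_eq_smul (α := Ω) fun α => ?_
  by_cases hα : α = γ
  · rw [hα, huγ, hvγ]
  let F : {δ : Ω // δ ≠ α} → {δ : Ω // δ ≠ α} := fun δ =>
    ⟨f δ.1 • α, fun e => δ.2 (fixed_unique h (hf δ.1) (hfix δ.1) e)⟩
  have hF : Function.Injective F := fun a b hab =>
    Subtype.ext (key (hf a.1) (hf b.1) (hfix a.1) (hfix b.1) (congrArg Subtype.val hab))
  have hsurj := Finite.surjective_of_injective hF
  have hval : ∀ {a : G}, orderOf a = 2 → a • γ = γ → a • α = f γ • α := by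
    intro a ha haγ
    obtain ⟨δ, hδ⟩ := hsurj ⟨a • α, fun e => hα (fixed_unique h ha haγ e).symm⟩
    have hδ' : f δ.1 • α = a • α := congrArg Subtype.val hδ
    rw [← hδ', key (hf δ.1) ha (hfix δ.1) haγ hδ']
  rw [hval hu huγ, hval hv hvγ]

/-- `G` is `p`-solvable. -/
theorem isPSolvable : IsPSolvable p G := by
  haveI : Fact (Nat.Prime 2) := ⟨Nat.prime_two⟩
  obtain ⟨z, hz⟩ := exists_prime_orderOf_dvd_card' 2 h.h2G
  have hiso : Cfsg.IsIsolatedInvolution z := ⟨hz, fun g hg => by
    have hgz : orderOf (g * z * g⁻¹) = 2 := (SemiconjBy.conj_mk g z).orderOf_eq.symm.trans hz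
    obtain ⟨α, hα⟩ := exists_fixed h hz
    obtain ⟨β, hβ⟩ := exists_fixed h hgz
    have := fixed_eq_of_commute h hz hgz hg.eq hα hβ
    exact eq_of_fixed h hz hgz hα (this ▸ hβ)⟩
  set O := oddCore G
  haveI hOn : O.Normal := inferInstance
  have hOodd : Odd (Nat.card O) := CfsgLib.Cores.odd_card_oddCore
  haveI : Group.IsSolvable O := Cfsg.Agent.S0205.result hOodd
  have hzz := InvolSylow.invol_mul_self hz
  set C := centralizer ({z} : Set G)
  have hsurj : Function.Surjective ((QuotientGroup.mk' O).comp C.subtype) := by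
    intro q
    obtain ⟨g, rfl⟩ := QuotientGroup.mk'_surjective O q
    set c := g * z * g⁻¹ * z⁻¹ with hc
    have hcO : c ∈ O := by
      have h1 := inv_mem (CfsgLib.Invol.zstar hiso g)
      rwa [show (z * g * z⁻¹ * g⁻¹)⁻¹ = c by rw [hc]; group] at h1
    obtain ⟨d, hd, hd'⟩ := InvolSylow.exists_conj_eq_mul hzz (c := c) (by
      rw [show c * z = g * z * g⁻¹ by rw [hc]; group]
      calc g * z * g⁻¹ * (g * z * g⁻¹) = g * (z * z) * g⁻¹ := by group
        _ = 1 := by rw [hzz]; group)
      (hOodd.of_dvd_nat (by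
        have := orderOf_dvd_natCard (⟨c, hcO⟩ : O)
        rwa [← Subgroup.orderOf_coe] at this))
    have hdO : d ∈ O := (zpowers_le.mpr hcO) hd
    have hd'' : d * z * d⁻¹ = g * z * g⁻¹ := by rw [hd', hc]; group
    refine ⟨⟨d⁻¹ * g, ?_⟩, ?_⟩
    · rw [mem_centralizer_singleton_iff]
      calc d⁻¹ * g * z = d⁻¹ * (g * z * g⁻¹) * g := by group
        _ = z * (d⁻¹ * g) := by rw [← hd'']; group
    · show QuotientGroup.mk' O (d⁻¹ * g) = QuotientGroup.mk' O g
      rw [map_mul, show QuotientGroup.mk' O d⁻¹ = 1 from (QuotientGroup.eq_one_iff _).2 (inv_mem hdO), one_mul]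
  have hidx : ¬ p ∣ O.index := fun hd => not_dvd_centralizer h hz (hd.trans (by
    rw [Subgroup.index_eq_card]
    exact Subgroup.card_dvd_of_surjective _ hsurj))
  obtain ⟨n, A, h0, hl, hm, hn, hstep⟩ := CfsgLib.Transfer.isPSolvable_of_isSolvable p
    (inferInstance : Group.IsSolvable O)
  -- replace the series of `O` by its upper series, which is characteristic
  have hser : ∃ m : ℕ, CfsgLib.PGroup.useries p O m = ⊤ := by
    by_contra hcon
    push Not at hcon
    have hgrow : ∀ i, i ≤ Nat.card ↥(CfsgLib.PGroup.useries p O (2 * i)) := by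
      intro i
      induction i with
      | zero => exact Nat.zero_le _
      | succ i ih =>
        have h1 := CfsgLib.Transfer.useries_lt_of_isSolvable (p := p) (hcon (2 * i))
        have h2 : Nat.card ↥(CfsgLib.PGroup.useries p O (2 * i)) <
            Nat.card ↥(CfsgLib.PGroup.useries p O (2 * i + 2)) :=
          lt_of_le_of_ne (card_le_of_le h1.le) fun e => h1.ne (eq_of_le_of_card_ge h1.le e.ge)
        rw [show 2 * (i + 1) = 2 * i + 2 by ring]
        omega
    have := (hgrow (Nat.card O + 1)).trans (card_le_card_group _)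
    omega
  obtain ⟨m, hm'⟩ := hser
  let B : ℕ → Subgroup G := fun i => (CfsgLib.PGroup.useries p O i).map O.subtype
  refine ⟨m + 1, Fin.snoc (fun i : Fin (m + 1) => B i) ⊤, ?_, Fin.snoc_last _ _, ?_, ?_, ?_⟩
  · rw [show (0 : Fin (m + 1 + 1)) = Fin.castSucc 0 from rfl, Fin.snoc_castSucc]
    show (CfsgLib.PGroup.useries p O 0).map O.subtype = ⊥
    rw [show CfsgLib.PGroup.useries p O 0 = ⊥ from rfl, Subgroup.map_bot]
  · refine Fin.monotone_iff_le_succ.2 fun i => ?_
    refine Fin.lastCases ?_ (fun j => ?_) i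
    · rw [Fin.succ_last, Fin.snoc_last]; exact le_top
    · rw [Fin.snoc_castSucc, Fin.succ_castSucc, Fin.snoc_castSucc]
      exact map_mono (CfsgLib.Transfer.upperPSeries_mono p O (by simp))
  · intro i
    refine Fin.lastCases ?_ (fun j => ?_) i
    · rw [Fin.snoc_last]; exact inferInstance
    · rw [Fin.snoc_castSucc]
      haveI := CfsgLib.OddLocal.Ten.useries_characteristic (p := p) (G := O) j
      exact ConjAct.normal_of_characteristic_of_normal
  · intro i
    refine Fin.lastCases ?_ (fun j => ?_) i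
    · right
      rw [Fin.snoc_castSucc, Fin.succ_last, Fin.snoc_last, relIndex_top_right]
      show ((CfsgLib.PGroup.useries p O m).map O.subtype).index.Coprime p
      rw [hm', ← MonoidHom.range_eq_map, range_subtype]
      exact (hp.out.coprime_iff_not_dvd.2 hidx).symm
    · rw [Fin.snoc_castSucc, Fin.succ_castSucc, Fin.snoc_castSucc]
      show (∃ e, ((CfsgLib.PGroup.useries p O j).map O.subtype).relIndex
          ((CfsgLib.PGroup.useries p O (j.succ : Fin (m + 1))).map O.subtype) = p ^ e) ∨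
        (((CfsgLib.PGroup.useries p O j).map O.subtype).relIndex
          ((CfsgLib.PGroup.useries p O (j.succ : Fin (m + 1))).map O.subtype)).Coprime p
      rw [relIndex_map_map_of_injective _ _ O.subtype_injective]
      have hs := CfsgLib.PGroup.stepCond_series (p := p) (G := O) (j : ℕ)
      by_cases he : Even (j : ℕ)
      · exact Or.inr (hs.1 he)
      · exact Or.inl (hs.2 he)

end CfsgLib.CharBlocks.OneFixedPoint
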