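import Cfsg.Agent.Lib.Blocks.AlgInt
import Cfsg.Agent.Lib.Blocks.GaloisInv
import Cfsg.Agent.Lib.Char.Basic

/-!
# A character vanishing at a `p`-element has degree divisible by `p`
-/

set_option autoImplicit false

noncomputable section

namespace CfsgLib.CharBlocks

open Cfsg CfsgLib.Char

theorem dvd_degree_of_apply_eq_zero {G : Type*} [Group G] [Finite G] {p : ℕ} [hp : Fact p.Prime]
    {χ : G → ℂ} (hχ : IsCharacter G χ) {g : G} {k : ℕ} (hg : orderOf g = p ^ k) (h0 : χ g = 0) {n : ℕ}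
    (hn : χ 1 = n) : p ∣ n := by
  obtain ⟨M, hM⟩ := CfsgLib.Blocks.exists_isPModular hp.out
  have := hM.2.1
  have := CfsgLib.Blocks.res_charP M hM
  obtain ⟨d, ρ, rfl⟩ := hχ
  obtain ⟨z, hz, hsum⟩ := exists_roots_char_pow ρ g
  have hint : ∀ i, IsIntegral ℤ (z i) := fun i =>
    IsIntegral.of_pow (orderOf_pos g) (by rw [hz i]; exact isIntegral_one)
  let w : Fin (Module.finrank ℂ (Fin d → ℂ)) → AlgInt := fun i => ⟨z i, hint i⟩
  have hw : ∀ i, Ideal.Quotient.mk M (w i) = 1 := fun i => by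
    have h1 : (Ideal.Quotient.mk M (w i)) ^ p ^ k = 1 := by
      rw [← map_pow, show w i ^ p ^ k = 1 from Subtype.ext (by rw [SubmonoidClass.coe_pow, ← hg, hz i]; rfl), map_one]
    have h2 : (Ideal.Quotient.mk M (w i) - 1) ^ p ^ k = 0 := by
      rw [sub_pow_char_pow, h1, one_pow, sub_self]
    exact sub_eq_zero.mp (eq_zero_of_pow_eq_zero h2)
  have hs1 : ∑ i, z i = 0 := by
    have := hsum 1
    rw [pow_one, h0] at this
    simpa using this.symm
  have hs0 : (n : ℂ) = (Module.finrank ℂ (Fin d → ℂ) : ℂ) := by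
    have := hsum 0
    rw [pow_zero, hn] at this
    simpa using this
  have hsw : ∑ i, w i = 0 := Subtype.ext (by rw [AddSubmonoidClass.coe_finsetSum]; exact hs1)
  have h := congrArg (Ideal.Quotient.mk M) hsw
  rw [map_sum, map_zero, Finset.sum_congr rfl (fun i _ => hw i)] at h
  simp only [Finset.sum_const, Finset.card_univ, Fintype.card_fin, nsmul_eq_mul, mul_one] at h
  rw [Nat.cast_inj.mp hs0]
  exact (CharP.cast_eq_zero_iff (CfsgLib.Blocks.Res M) p _).mp h

end CfsgLib.CharBlocks
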