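import Cfsg.Agent.Lib.CharNormal.Kernel
import Cfsg.Agent.Lib.CharNormal.CentralCount
import Cfsg.Agent.Lib.CharNormal.Gallagher
import Cfsg.Agent.Lib.Char.Extension
import Cfsg.Agent.Lib.Char.Ito
import Cfsg.Agent.Lib.Char.Linear
import Cfsg.Agent.Lib.PGroup.Basic
import Cfsg.Agent.Lib.PStab.CentralQuotient
import Cfsg.Agent.Lib.Solvable.Nilpotent
import Mathlib.GroupTheory.NoncommCoprod

/-!
# Primitive characters

* `conjFun_eq_of_primitive`: restrictions to normal subgroups are homogeneous;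
* `le_center_of_abelian`: normal abelian subgroups are central for faithful primitive characters;
* `isIrr_res_of_nilpotent_quotient`: restrictions above a subgroup with nilpotent quotient are irreducible;
* `exists_mul_sq_le`: a `q`-group has an element fixing few points of a `p`-group of class two.
-/

set_option autoImplicit false

namespace CfsgLib.CharBlocks.Primitive

open CfsgLib.Char CfsgLib.CharNormal
open scoped ComplexConjugate commutatorElement

/-- Not induced from a proper subgroup. -/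
def IsPrim {G : Type*} [Group G] [Fintype G] (χ : G → ℂ) : Prop :=
  ¬ ∃ (H : Subgroup G), H ≠ ⊤ ∧ ∃ θ : ↥H → ℂ, Cfsg.IsCharacter ↥H θ ∧ Cfsg.indFun H θ = χ

section Chars

variable {G : Type*} [Group G] [Fintype G] {χ : G → ℂ}

theorem conjFun_eq_of_primitive (hχ : Cfsg.IsIrrCharacter G χ) (hprim : IsPrim χ) (N : Subgroup G)
    [N.Normal] [Fintype N] {θ : N → ℂ} (hθ : Cfsg.IsIrrCharacter N θ)
    (h0 : Cfsg.classInner (fun n : N => χ n) θ ≠ 0) (g : G) : conjFun N g θ = θ := by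
  classical
  have hT : inertia N θ = ⊤ := by
    by_contra hne
    have := Fintype.ofFinite (inertia N θ)
    obtain ⟨ψ, hψ, hind, -⟩ := clifford_correspondence N hθ (inertia N θ) (fun g => mem_inertia N)
      (le_inertia N (isClassFunction_of_isIrr hθ)) hχ h0
    exact hprim ⟨_, hne, ψ, isCharacter_of_isIrr hψ, by convert hind⟩
  exact (mem_inertia N).1 (hT ▸ Subgroup.mem_top g)

theorem le_center_of_abelian (hχ : Cfsg.IsIrrCharacter G χ) (hprim : IsPrim χ)
    (hfaith : ∀ g, χ g = χ 1 → g = 1) (A : Subgroup G) [A.Normal]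
    (hA : ∀ a ∈ A, ∀ b ∈ A, a * b = b * a) : A ≤ Subgroup.center G := by
  classical
  have := Fintype.ofFinite A
  intro a ha
  obtain ⟨θ, hθ, h0⟩ := exists_constituent (isCharacter_res A (isCharacter_of_isIrr hχ)) fun h =>
    irr_one_ne_zero hχ (by simpa using congrFun h 1)
  have hθ1 : θ 1 = 1 := irr_one_of_comm (fun x y => Subtype.ext (hA x x.2 y y.2)) hθ
  have hres := res_eq_smul_of_invariant A hχ hθ (conjFun_eq_of_primitive hχ hprim A hθ h0) h0
  obtain ⟨d, hd0, hd⟩ := exists_degree_pos hχ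
  have he : Cfsg.classInner (fun n : A => χ n) θ = d := by
    have := congrFun hres 1
    simp only [OneMemClass.coe_one, hd, Pi.smul_apply, hθ1, smul_eq_mul, mul_one] at this
    exact this.symm
  have hca : χ a * conj (χ a) = (d : ℂ) * d := by
    have h := congrFun hres ⟨a, ha⟩
    rw [he, Pi.smul_apply, smul_eq_mul] at h
    rw [h, map_mul, Complex.conj_natCast, ← char_inv (isCharacter_of_isIrr hθ)]
    have h1 := linear_map_mul (isCharacter_of_isIrr hθ) hθ1 ⟨a, ha⟩ ⟨a, ha⟩⁻¹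
    rw [mul_inv_cancel, hθ1] at h1
    linear_combination -((d : ℂ) * d) * h1
  have hn : ‖χ a‖ = d := by
    rw [Complex.mul_conj'] at hca
    have h2 : ((‖χ a‖ ^ 2 : ℝ) : ℂ) = (((d : ℝ) ^ 2 : ℝ) : ℂ) := by
      push_cast; linear_combination hca
    exact (sq_eq_sq₀ (norm_nonneg _) (Nat.cast_nonneg d)).1 (Complex.ofReal_injective h2)
  obtain ⟨N, ρ, -, hρ⟩ := hχ
  have hN : N = d := by
    have := congrFun hρ 1
    rw [Representation.char_one, hd, Module.finrank_fin_fun] at this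
    exact_mod_cast this
  subst hN
  rw [← hρ] at hn
  obtain ⟨ω, hω⟩ := (norm_character_eq_iff ρ a).1 (by rw [hn, Module.finrank_fin_fun])
  refine Subgroup.mem_center_iff.2 fun g => ?_
  have hag : ρ (g * a) = ρ (a * g) := by
    rw [map_mul, map_mul, hω]
    ext v
    simp [Module.End.mul_eq_comp]
  refine mul_inv_eq_one.1 (hfaith _ ?_)
  rw [← hρ]
  have hone : ρ (g * a * (a * g)⁻¹) = ρ 1 := by rw [map_mul, hag, ← map_mul, mul_inv_cancel]
  exact congrArg (LinearMap.trace ℂ (Fin N → ℂ)) hone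

/-- An invariant constituent on a normal subgroup of prime index is the whole restriction. -/
theorem isIrr_res_of_prime_index {H : Type*} [Group H] [Fintype H] (M : Subgroup H) [M.Normal] [Fintype M]
    (hp : M.index.Prime) {φ : H → ℂ} (hφ : Cfsg.IsIrrCharacter H φ) {θ : M → ℂ}
    (hθ : Cfsg.IsIrrCharacter M θ) (hinv : ∀ h : H, conjFun M h θ = θ)
    (h0 : Cfsg.classInner (fun n : M => φ n) θ ≠ 0) : Cfsg.IsIrrCharacter M (fun n : M => φ n) := by
  classical
  have := Fact.mk hp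
  have hcyc : IsCyclic (H ⧸ M) := isCyclic_of_prime_card (p := M.index) rfl
  obtain ⟨η, hη, hηe⟩ := extend_of_cyclic M hcyc hθ fun g n => congrFun (hinv g) n
  have hfun : (fun n : M => η n) = θ := funext hηe
  obtain ⟨β, hβ, rfl⟩ := exists_eq_mul_comp_mk' M (isCharacter_of_isIrr hη) (hfun ▸ hθ) hφ (hfun ▸ h0)
  have hβ1 : β 1 = 1 := irr_one_of_comm (fun a b => (IsCyclic.isMulCommutative (α := H ⧸ M)).is_comm.comm a b) hβ
  have he : (fun n : M => (η * (β ∘ QuotientGroup.mk)) (n : H)) = θ := funext fun n => by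
    simp only [Pi.mul_apply, Function.comp_apply, (QuotientGroup.eq_one_iff (n : H)).2 n.2, hβ1, mul_one, hηe]
  rw [he]
  exact hθ

/-- A primitive character stays irreducible down to any normal subgroup with nilpotent quotient. -/
theorem isIrr_res_of_nilpotent_quotient (hχ : Cfsg.IsIrrCharacter G χ) (hprim : IsPrim χ)
    (N : Subgroup G) [N.Normal] (hnil : Group.IsNilpotent (G ⧸ N)) :
    ∀ [Fintype N], Cfsg.IsIrrCharacter N (fun n : N => χ n) := by
  classical
  suffices h : ∀ (i : ℕ) (K : Subgroup G) [K.Normal] [Fintype K], N ≤ K → K.index = i →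
      Cfsg.IsIrrCharacter K (fun n : K => χ n) from fun {_} => h _ N le_rfl rfl
  intro i
  induction i using Nat.strong_induction_on with
  | _ i ih =>
  intro K _ _ hNK hi
  by_cases hK : K = ⊤
  · subst hK
    exact isIrr_comp_mulEquiv hχ (Subgroup.topEquiv (G := G))
  have hnK : Group.IsNilpotent (G ⧸ K) :=
    Group.nilpotent_of_surjective (QuotientGroup.map N K (MonoidHom.id G) (by simpa using hNK)) fun x => by
      obtain ⟨g, rfl⟩ := QuotientGroup.mk_surjective x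
      exact ⟨(g : G ⧸ N), rfl⟩
  have hnt : Nontrivial (G ⧸ K) := QuotientGroup.nontrivial_iff.2 hK
  have hc : Nat.card (Subgroup.center (G ⧸ K)) ≠ 1 := fun h => by
    have h1 : Subgroup.center (G ⧸ K) = ⊥ := Subgroup.card_eq_one.1 h
    have h2 := CfsgLib.Solvable.inf_center_ne_bot_of_isNilpotent (N := (⊤ : Subgroup (G ⧸ K))) top_ne_bot
    rw [h1, inf_bot_eq] at h2
    exact h2 rfl
  obtain ⟨r, hr, hrd⟩ := Nat.exists_prime_and_dvd hc
  have := Fact.mk hr
  obtain ⟨z, hz⟩ := exists_prime_orderOf_dvd_card' (G := Subgroup.center (G ⧸ K)) r hrd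
  have hznorm : (Subgroup.zpowers (z : G ⧸ K)).Normal := ⟨fun x hx g => by
    have hxc : x ∈ Subgroup.center (G ⧸ K) := Subgroup.zpowers_le.2 z.2 hx
    rw [Subgroup.mem_center_iff.1 hxc g, mul_inv_cancel_right]
    exact hx⟩
  set L := (Subgroup.zpowers (z : G ⧸ K)).comap (QuotientGroup.mk' K) with hL
  have hLn : L.Normal := hznorm.comap _
  have hKL : K ≤ L := fun x hx => by
    rw [hL, Subgroup.mem_comap, QuotientGroup.mk'_apply, (QuotientGroup.eq_one_iff x).2 hx]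
    exact one_mem _
  have hzc : Nat.card (Subgroup.zpowers (z : G ⧸ K)) = r := by
    rw [Nat.card_zpowers, Subgroup.orderOf_coe, hz]
  have hidx : K.relIndex L = r := by
    have h1 := Subgroup.index_comap_of_surjective (Subgroup.zpowers (z : G ⧸ K))
      (QuotientGroup.mk'_surjective K)
    rw [← hL] at h1
    have h2 := Subgroup.card_mul_index (Subgroup.zpowers (z : G ⧸ K))
    rw [hzc, ← h1, ← Subgroup.index_eq_card, ← Subgroup.relIndex_mul_index hKL] at h2
    exact (Nat.eq_of_mul_eq_mul_right (Nat.pos_of_ne_zero Subgroup.index_ne_zero_of_finite) h2).symm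
  have := Fintype.ofFinite L
  have hLirr := ih L.index (by
    rw [← hi, ← Subgroup.relIndex_mul_index hKL, hidx]
    exact lt_mul_of_one_lt_left (Nat.pos_of_ne_zero Subgroup.index_ne_zero_of_finite) hr.one_lt)
    L (hNK.trans hKL) rfl
  let M := K.subgroupOf L
  have := Fintype.ofFinite M
  let e : M ≃* K := Subgroup.subgroupOfEquivOfLe hKL
  obtain ⟨θ, hθ, h0⟩ := exists_constituent (isCharacter_res K (isCharacter_of_isIrr hχ)) fun h =>
    irr_one_ne_zero hχ (by simpa using congrFun h 1)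
  have hM0 : Cfsg.classInner (fun n : M => χ ((n : L) : G)) (θ ∘ e) ≠ 0 := by
    rw [show (fun n : M => χ ((n : L) : G)) = (fun n : K => χ n) ∘ e from rfl, classInner_comp_mulEquiv]
    exact h0
  have hMirr := isIrr_res_of_prime_index M (by show (K.relIndex L).Prime; rw [hidx]; exact hr) hLirr
    (isIrr_comp_mulEquiv hθ e) (fun l => funext fun n => by
      have h := congrFun (conjFun_eq_of_primitive hχ hprim K hθ h0 (l : G)) (e n)
      rw [conjFun_apply] at h
      exact h) hM0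
  exact (isIrr_comp_mulEquiv_iff e).1 hMirr

end Chars

section Fix

variable {G : Type*} [Group G] [Finite G] {p q : ℕ} [Fact p.Prime] [Fact q.Prime]

/-- A subgroup between `Z` and `S` normalised by the `p`-group `S` meets the centre modulo `Z`. -/
theorem exists_commutator_mem {Z S N : Subgroup G} [Z.Normal] (hS : IsPGroup p S) (hNS : N ≤ S)
    (hnorm : ∀ s ∈ S, ∀ x ∈ N, s * x * s⁻¹ ∈ N) (hN : ¬ N ≤ Z) :
    ∃ x ∈ N, x ∉ Z ∧ ∀ s ∈ S, ⁅x, s⁆ ∈ Z := by
  let π := QuotientGroup.mk' Z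
  let N' := (N.map π).subgroupOf (S.map π)
  have : N'.Normal := ⟨fun x hx s => by
    obtain ⟨x₀, hx₀, hxe⟩ := Subgroup.mem_map.1 (Subgroup.mem_subgroupOf.1 hx)
    obtain ⟨s₀, hs₀, hse⟩ := Subgroup.mem_map.1 s.2
    exact Subgroup.mem_subgroupOf.2 (Subgroup.mem_map.2
      ⟨s₀ * x₀ * s₀⁻¹, hnorm s₀ hs₀ x₀ hx₀, by simp [π, map_mul, ← hxe, ← hse]⟩)⟩
  have hne : N' ≠ ⊥ := by
    intro h
    rw [Subgroup.subgroupOf_eq_bot, disjoint_iff, inf_of_le_left (Subgroup.map_mono hNS)] at h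
    refine hN fun x hx => (QuotientGroup.eq_one_iff x).1 ?_
    have : π x ∈ N.map π := Subgroup.mem_map_of_mem π hx
    rw [h, Subgroup.mem_bot] at this
    exact this
  obtain ⟨y, hy, hy1⟩ : ∃ y ∈ N' ⊓ Subgroup.center (S.map π), y ≠ 1 := by
    by_contra! h
    exact CfsgLib.PGroup.inf_center_ne_bot (hS.map π) N' hne ((Subgroup.eq_bot_iff_forall _).2 h)
  obtain ⟨x, hx, hxe⟩ := Subgroup.mem_map.1 (Subgroup.mem_subgroupOf.1 (Subgroup.mem_inf.1 hy).1)
  refine ⟨x, hx, fun hxZ => hy1 (Subtype.ext ?_), fun s hs => (QuotientGroup.eq_one_iff _).1 ?_⟩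
  · rw [← hxe]
    exact (QuotientGroup.eq_one_iff x).2 hxZ
  · show π ⁅x, s⁆ = 1
    rw [map_commutatorElement, hxe, commutatorElement_eq_one_iff_mul_comm]
    exact (congrArg Subtype.val (Subgroup.mem_center_iff.1 (Subgroup.mem_inf.1 hy).2
      ⟨π s, Subgroup.mem_map_of_mem π hs⟩)).symm

/-- A `q`-group with no fixed points outside the central subgroup `Z` has an element with few fixed
points. -/
theorem exists_mul_sq_le (hpq : p ≠ q) {Z Q : Subgroup G} (hZc : Z ≤ Subgroup.center G) (hQ : IsPGroup q Q)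
    (W : Subgroup G) (hW : IsPGroup p W) (hZW : Z ≤ W) (hcl : ∀ x ∈ W, ∀ y ∈ W, ⁅x, y⁆ ∈ Z)
    (hQW : ∀ a ∈ Q, ∀ x ∈ W, a * x * a⁻¹ ∈ W)
    (hfix : ∀ x ∈ W, (∀ a ∈ Q, a * x = x * a) → x ∈ Z) :
    ∃ a ∈ Q, Nat.card ↥(W ⊓ Subgroup.centralizer {a}) * Nat.card ↥(W ⊓ Subgroup.centralizer {a}) ≤
      Nat.card W * Nat.card Z := by
  classical
  suffices h : ∀ (n : ℕ) (W : Subgroup G), IsPGroup p W → Z ≤ W → (∀ x ∈ W, ∀ y ∈ W, ⁅x, y⁆ ∈ Z) →
      (∀ a ∈ Q, ∀ x ∈ W, a * x * a⁻¹ ∈ W) →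
      (∀ x ∈ W, (∀ a ∈ Q, a * x = x * a) → x ∈ Z) → Nat.card W = n →
      ∃ a ∈ Q, Nat.card ↥(W ⊓ Subgroup.centralizer {a}) * Nat.card ↥(W ⊓ Subgroup.centralizer {a}) ≤
        Nat.card W * Nat.card Z from h _ W hW hZW hcl hQW hfix rfl
  clear hW hZW hcl hQW hfix W
  intro n
  induction n using Nat.strong_induction_on with
  | _ n ih =>
  intro W hW hZW hcl hQW hfix hn
  by_cases hWZ : W ≤ Z
  · obtain rfl : W = Z := le_antisymm hWZ hZW
    exact ⟨1, one_mem Q, Nat.mul_le_mul (Subgroup.card_le_of_le inf_le_left)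
      (Subgroup.card_le_of_le inf_le_left)⟩
  -- an element central modulo the kernel of the action
  obtain ⟨z, hzQ, hzW, hzc⟩ : ∃ z ∈ Q, (∃ x ∈ W, z * x ≠ x * z) ∧
      ∀ a ∈ Q, ∀ x ∈ W, ⁅z, a⁆ * x = x * ⁅z, a⁆ := by
    let K := (Subgroup.centralizer (W : Set G)).subgroupOf Q
    have hKn : K.Normal := ⟨fun k hk a => by
      rw [Subgroup.mem_subgroupOf, Subgroup.mem_centralizer_iff] at hk ⊢
      intro x hx
      have h := hk _ (hQW _ (inv_mem a.2) x hx)
      simp only [inv_inv, Subgroup.coe_mul, Subgroup.coe_inv] at h ⊢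
      calc x * ((a : G) * k * (a : G)⁻¹) = a * ((a : G)⁻¹ * x * a * k) * (a : G)⁻¹ := by group
        _ = a * (k * ((a : G)⁻¹ * x * a)) * (a : G)⁻¹ := by rw [h]
        _ = a * k * (a : G)⁻¹ * x := by group⟩
    have hnt : Nontrivial (Q ⧸ K) := QuotientGroup.nontrivial_iff.2 fun h => by
      refine hWZ fun x hx => hfix x hx fun a ha => ?_
      have : (⟨a, ha⟩ : Q) ∈ K := h ▸ Subgroup.mem_top _
      exact (Subgroup.mem_centralizer_iff.1 (Subgroup.mem_subgroupOf.1 this) x hx).symm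
    have := (hQ.to_quotient K).center_nontrivial
    obtain ⟨⟨zb, hzb⟩, hzb1⟩ := exists_ne (1 : Subgroup.center (Q ⧸ K))
    obtain ⟨z, rfl⟩ := QuotientGroup.mk_surjective zb
    refine ⟨z, z.2, ?_, fun a ha x hx => ?_⟩
    · by_contra! h
      exact hzb1 (Subtype.ext ((QuotientGroup.eq_one_iff z).2
        (Subgroup.mem_subgroupOf.2 (Subgroup.mem_centralizer_iff.2 fun x hx => (h x hx).symm))))
    · have h1 : ⁅z, (⟨a, ha⟩ : Q)⁆ ∈ K := by
        rw [← QuotientGroup.eq_one_iff, show ((⁅z, (⟨a, ha⟩ : Q)⁆ : Q) : Q ⧸ K) =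
          ⁅(z : Q ⧸ K), ((⟨a, ha⟩ : Q) : Q ⧸ K)⁆ from map_commutatorElement (QuotientGroup.mk' K) _ _,
          commutatorElement_eq_one_iff_mul_comm]
        exact (Subgroup.mem_center_iff.1 hzb _).symm
      exact (Subgroup.mem_centralizer_iff.1 (Subgroup.mem_subgroupOf.1 h1) x hx).symm
  set W₁ := W ⊓ Subgroup.centralizer {z} with hW₁
  have hmem : ∀ x, x ∈ W₁ ↔ x ∈ W ∧ z * x = x * z := fun x => by
    rw [hW₁, Subgroup.mem_inf, Subgroup.mem_centralizer_singleton_iff]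
    exact and_congr_right fun _ => eq_comm
  have hW₁W : W₁ ≤ W := inf_le_left
  have hZW₁ : Z ≤ W₁ := fun x hx => (hmem x).2 ⟨hZW hx, Subgroup.mem_center_iff.1 (hZc hx) z⟩
  have hlt : Nat.card W₁ < Nat.card W := by
    refine lt_of_le_of_ne (Subgroup.card_le_of_le hW₁W) fun h => ?_
    obtain ⟨x, hx, hne⟩ := hzW
    exact hne ((hmem x).1 ((Subgroup.eq_of_le_of_card_ge hW₁W h.ge).symm ▸ hx)).2
  have hQW₁ : ∀ a ∈ Q, ∀ x ∈ W₁, a * x * a⁻¹ ∈ W₁ := by
    intro a ha x hx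
    obtain ⟨hxW, hzx⟩ := (hmem x).1 hx
    refine (hmem _).2 ⟨hQW a ha x hxW, ?_⟩
    have hc := hzc a ha _ (hQW a ha x hxW)
    have hza : z * a = ⁅z, a⁆ * (a * z) := by simp [commutatorElement_def, mul_assoc]
    calc z * (a * x * a⁻¹) = (z * a) * x * a⁻¹ := by group
      _ = ⁅z, a⁆ * a * (z * x) * a⁻¹ := by rw [hza]; group
      _ = ⁅z, a⁆ * a * (x * z) * a⁻¹ := by rw [hzx]
      _ = (⁅z, a⁆ * (a * x * a⁻¹)) * (a * z * a⁻¹) := by group
      _ = (a * x * a⁻¹) * (⁅z, a⁆ * (a * z * a⁻¹)) := by rw [hc]; group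
      _ = a * x * a⁻¹ * z := by simp [commutatorElement_def, mul_assoc]
  obtain ⟨a, haQ, ha⟩ := ih _ (hn ▸ hlt) W₁ (hW.to_le hW₁W) hZW₁
    (fun x hx y hy => hcl x (hW₁W hx) y (hW₁W hy)) hQW₁ (fun x hx h => hfix x (hW₁W hx) h) rfl
  set A := W ⊓ Subgroup.centralizer {a} with hA
  set B := W ⊓ Subgroup.centralizer {a * z} with hB
  let C := W₁ ⊓ Subgroup.centralizer {a}
  have hnorm : (W₁.subgroupOf W).Normal := ⟨fun x hx g => by
    rw [Subgroup.mem_subgroupOf] at hx ⊢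
    have h1 : (g : G) * x * (g : G)⁻¹ = ⁅(g : G), (x : G)⁆ * x := by simp [commutatorElement_def, mul_assoc]
    rw [Subgroup.coe_mul, Subgroup.coe_mul, Subgroup.coe_inv, h1]
    exact mul_mem (hZW₁ (hcl _ g.2 _ x.2)) hx⟩
  let mk := QuotientGroup.mk' (W₁.subgroupOf W)
  have hcomm : ∀ x y : W, mk x * mk y = mk y * mk x := fun x y => by
    rw [← commutatorElement_eq_one_iff_mul_comm, ← map_commutatorElement]
    exact (QuotientGroup.eq_one_iff _).2 (Subgroup.mem_subgroupOf.2 (hZW₁ (hcl _ x.2 _ y.2)))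
  let Φ : ↥A × ↥B →* (↥W ⧸ W₁.subgroupOf W) :=
    (mk.comp (Subgroup.inclusion (inf_le_left : A ≤ W))).noncommCoprod
      (mk.comp (Subgroup.inclusion (inf_le_left : B ≤ W))) fun x y => hcomm _ _
  have hkey : ∀ c ∈ A, ∀ d ∈ B, c * d ∈ W₁ → c ∈ C ∧ d ∈ C := by
    intro c hc d hd hcd
    obtain ⟨hcW, hca⟩ := Subgroup.mem_inf.1 hc
    obtain ⟨hdW, hdb⟩ := Subgroup.mem_inf.1 hd
    rw [Subgroup.mem_centralizer_singleton_iff] at hca hdb
    set u := c * d with hu
    have hzu := ((hmem u).1 hcd).2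
    -- `z` moves `c` inside `W₁`
    have hu' : a * u * a⁻¹ ∈ W₁ := hQW₁ a haQ u hcd
    have hu'' : a⁻¹ * u * a⁻¹⁻¹ ∈ W₁ := hQW₁ a⁻¹ (inv_mem haQ) u hcd
    have hce : c = u * d⁻¹ := by rw [hu, mul_inv_cancel_right]
    have hdz : z * d * z⁻¹ = a⁻¹ * d * a := by
      calc z * d * z⁻¹ = a⁻¹ * ((a * z) * d) * z⁻¹ := by group
        _ = a⁻¹ * (d * (a * z)) * z⁻¹ := by rw [hdb]
        _ = a⁻¹ * d * a := by group
    have hac : a⁻¹ * c * a = c := by rw [mul_assoc, hca, inv_mul_cancel_left]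
    set v := c⁻¹ * (z * c * z⁻¹) with hv
    have hv1 : v ∈ W₁ := by
      have h1 : z * c * z⁻¹ = u * (a⁻¹ * u * a)⁻¹ * c := by
        have h2 : (z * c * z⁻¹) * (z * d * z⁻¹) = u := by
          calc (z * c * z⁻¹) * (z * d * z⁻¹) = z * (c * d) * z⁻¹ := by group
            _ = u := by rw [← hu, hzu, mul_inv_cancel_right]
        have h3 : z * c * z⁻¹ = u * (z * d * z⁻¹)⁻¹ := eq_mul_inv_of_mul_eq h2
        rw [h3, hdz, hu]
        calc c * d * (a⁻¹ * d * a)⁻¹ = c * d * (a⁻¹ * d * a)⁻¹ * (a⁻¹ * c * a)⁻¹ * c := by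
              rw [hac, inv_mul_cancel_right]
          _ = c * d * (a⁻¹ * (c * d) * a)⁻¹ * c := by group
      have h4 : u * (a⁻¹ * u * a)⁻¹ ∈ W₁ := mul_mem hcd (inv_mem (by simpa using hu''))
      rw [hv, h1]
      have h5 := hnorm.conj_mem ⟨_, hW₁W h4⟩ (Subgroup.mem_subgroupOf.2 h4) ⟨c, hcW⟩⁻¹
      simpa [Subgroup.mem_subgroupOf, mul_assoc] using h5
    have hvone : v = 1 := by
      obtain ⟨j, hj⟩ := IsPGroup.iff_orderOf.1 hW ⟨v, hW₁W hv1⟩
      rw [← Subgroup.orderOf_coe] at hj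
      obtain ⟨i, hi⟩ := IsPGroup.iff_orderOf.1 hQ ⟨z, hzQ⟩
      rw [← Subgroup.orderOf_coe] at hi
      refine CfsgLib.PStab.eq_one_of_coprime_fix (p := p) (y := z) (x := c) (z := v) (k := j) ?_ ?_
        (hj ▸ pow_orderOf_eq_one v) ?_
      · rw [hv]; group
      · rw [((hmem v).1 hv1).2, mul_inv_cancel_right]
      · rw [hi]
        exact ((Nat.coprime_primes Fact.out Fact.out).2 (Ne.symm hpq)).pow_left i
    have hzc' : z * c * z⁻¹ = c := by
      rw [hv, inv_mul_eq_one] at hvone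
      exact hvone.symm
    have hzd : z * d * z⁻¹ = d := by
      have : d = c⁻¹ * u := by rw [hu, inv_mul_cancel_left]
      rw [this]
      calc z * (c⁻¹ * u) * z⁻¹ = (z * c * z⁻¹)⁻¹ * (z * u * z⁻¹) := by group
        _ = c⁻¹ * u := by rw [hzc', hzu, mul_inv_cancel_right]
    refine ⟨Subgroup.mem_inf.2 ⟨(hmem c).2 ⟨hcW, mul_inv_eq_iff_eq_mul.1 hzc'⟩,
        Subgroup.mem_centralizer_singleton_iff.2 hca⟩,
      Subgroup.mem_inf.2 ⟨(hmem d).2 ⟨hdW, mul_inv_eq_iff_eq_mul.1 hzd⟩,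
        Subgroup.mem_centralizer_singleton_iff.2 ?_⟩⟩
    rw [hdz] at hzd
    calc d * a = a * (a⁻¹ * d * a) := by group
      _ = a * d := by rw [hzd]
  have hker : Nat.card Φ.ker ≤ Nat.card C * Nat.card C := by
    rw [← Nat.card_prod]
    have hmemk : ∀ x : Φ.ker, ((x.1.1 : G) ∈ C) ∧ ((x.1.2 : G) ∈ C) := fun x => by
      refine hkey _ x.1.1.2 _ x.1.2.2 ?_
      have h := MonoidHom.mem_ker.1 x.2
      change mk (Subgroup.inclusion (inf_le_left : A ≤ W) x.1.1) *
        mk (Subgroup.inclusion (inf_le_left : B ≤ W) x.1.2) = 1 at h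
      have h' : mk (Subgroup.inclusion (inf_le_left : A ≤ W) x.1.1 *
          Subgroup.inclusion (inf_le_left : B ≤ W) x.1.2) = 1 := by rw [map_mul]; exact h
      exact Subgroup.mem_subgroupOf.1 ((QuotientGroup.eq_one_iff _).1 h')
    exact Nat.card_le_card_of_injective (fun x : Φ.ker =>
      ((⟨_, (hmemk x).1⟩ : C), (⟨_, (hmemk x).2⟩ : C))) fun x y h => by
        simp only [Prod.mk.injEq, Subtype.mk.injEq] at h
        exact Subtype.ext (Prod.ext (Subtype.ext h.1) (Subtype.ext h.2))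
  have hrange : Nat.card Φ.range ≤ (W₁.subgroupOf W).index := Subgroup.card_le_card_group _
  have htot : Nat.card A * Nat.card B ≤ Nat.card W * Nat.card Z := by
    have h1 := Subgroup.card_mul_index Φ.ker
    rw [Subgroup.index_ker, Nat.card_prod] at h1
    have h2 := Subgroup.card_mul_index (W₁.subgroupOf W)
    rw [Nat.card_congr (Subgroup.subgroupOfEquivOfLe hW₁W).toEquiv] at h2
    calc Nat.card A * Nat.card B = Nat.card Φ.ker * Nat.card Φ.range := h1.symm
      _ ≤ Nat.card C * Nat.card C * (W₁.subgroupOf W).index := Nat.mul_le_mul hker hrange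
      _ ≤ Nat.card W₁ * Nat.card Z * (W₁.subgroupOf W).index := Nat.mul_le_mul_right _ ha
      _ = Nat.card W * Nat.card Z := by rw [← h2]; ring
  rcases le_total (Nat.card A) (Nat.card B) with h | h
  · exact ⟨a, haQ, (Nat.mul_le_mul_left _ h).trans htot⟩
  · exact ⟨a * z, mul_mem haQ hzQ, (Nat.mul_le_mul_right _ h).trans htot⟩

end Fix

end CfsgLib.CharBlocks.Primitive
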