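import Cfsg.Agent.Lib.CharBlocks.LinearConstituent
import Cfsg.Agent.Lib.Char.PermLemma
import Mathlib.GroupTheory.Index

/-!
A real irreducible character above a linear character that is inverted by a `2`-element.
-/

namespace CfsgLib.CharBlocks.RealAbove

open Cfsg CfsgLib.Char
open scoped ComplexConjugate

variable {G : Type*} [Group G] [Finite G]

omit [Finite G] in
theorem relIndex_mul_card {H K : Subgroup G} (h : H ≤ K) :
    H.relIndex K * Nat.card H = Nat.card K := by
  rw [← Subgroup.relIndex_bot_left H, ← Subgroup.relIndex_bot_left K, mul_comm]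
  exact Subgroup.relIndex_mul_relIndex _ _ _ bot_le h

/-- If a `2`-element inverts a linear character of a normal `p`-group (`p` odd), some real
irreducible character lies above it. -/
theorem exists_real {p : ℕ} [hp : Fact p.Prime] (hp2 : p ≠ 2) (M : Subgroup G) [M.Normal] [Fintype M]
    (hMp : IsPGroup p M) (μ : M →* ℂˣ) (hne : μ ≠ 1) (g : G) (hg : ∃ k, orderOf g = 2 ^ k)
    (hinv : ∀ (x : G) (hx : x ∈ M), μ ⟨g * x * g⁻¹, ‹M.Normal›.conj_mem x hx g⟩ = (μ ⟨x, hx⟩)⁻¹) :
    ∃ χ : IrrCharacter G, (∀ y : G, ((χ : G → ℂ) y).im = 0) ∧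
      classInner (fun x : M => (χ : G → ℂ) x) (fun x => (μ x : ℂ)) ≠ 0 := by
  classical
  have := Fintype.ofFinite G
  obtain ⟨n, hn⟩ := IsPGroup.iff_card.1 hMp
  have hodd : Odd (Nat.card M) := hn ▸ (hp.out.odd_of_ne_two hp2).pow
  set lam : M → ℂ := fun x => (μ x : ℂ) with hlamdef
  have hlam : IsIrrCharacter M lam := isIrrCharacter_units_hom μ
  have hcj : ∀ x : M, conj (lam x) = ((μ x)⁻¹ : ℂˣ) := fun x => by
    rw [← map_inv]
    exact (char_inv (isCharacter_of_isIrr hlam) x).symm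
  have hne' : (fun x : M => conj (lam x)) ≠ lam := by
    intro e
    apply hne
    ext x
    have h1 := congrFun e x
    rw [hcj] at h1
    have h2 : μ x ^ 2 = 1 := by
      rw [pow_two]
      exact inv_eq_iff_mul_eq_one.1 (Units.ext h1)
    have h3 : μ x ^ Nat.card M = 1 := by rw [← map_pow, pow_card_eq_one', map_one]
    obtain ⟨k, hk⟩ := hodd
    rw [hk, pow_succ, pow_mul, h2, one_pow, one_mul] at h3
    simp [h3]
  have hginv : CharNormal.conjFun M g lam = fun x : M => conj (lam x) := funext fun x => by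
    rw [hcj x]
    exact congrArg Units.val (hinv x x.2)
  let T := CharNormal.inertia M lam
  have hMT : M ≤ T := CharNormal.le_inertia M (isClassFunction_of_isIrr hlam)
  have hconj : ∀ (a : G) (f : M → ℂ), CharNormal.conjFun M a (fun x => conj (f x)) =
      fun x => conj (CharNormal.conjFun M a f x) := fun _ _ => rfl
  let Ts : Subgroup G :=
    { carrier := {a | CharNormal.conjFun M a lam = lam ∨ CharNormal.conjFun M a lam = fun x => conj (lam x)}
      one_mem' := Or.inl (CharNormal.conjFun_one M lam)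
      mul_mem' := by
        rintro a b (ha | ha) (hb | hb) <;> simp only [Set.mem_setOf_eq, ← CharNormal.conjFun_conjFun]
        · left; rw [ha, hb]
        · right; rw [ha, hb]
        · right; rw [ha, hconj, hb]
        · left; rw [ha, hconj, hb]; simp
      inv_mem' := by
        rintro a (ha | ha)
        · left
          conv_lhs => rw [← ha]
          rw [CharNormal.conjFun_inv_conjFun]
        · right
          have h := congrArg (fun f : M → ℂ => fun x => conj (f x)) (CharNormal.conjFun_inv_conjFun M a lam)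
          simp only [ha, hconj] at h
          simpa using h }
  have hTTs : T ≤ Ts := fun a ha => Or.inl ha
  have hgTs : g ∈ Ts := Or.inr hginv
  have hgT : g ∉ T := fun h => hne' (hginv.symm.trans h)
  have hidx : T.relIndex Ts = 2 := by
    rw [Subgroup.relIndex, Subgroup.index_eq_two_iff]
    refine ⟨⟨g, hgTs⟩, fun b => ?_⟩
    rw [Subgroup.mem_subgroupOf, Subgroup.mem_subgroupOf]
    show Xor' (CharNormal.conjFun M ((b : G) * g) lam = lam) (CharNormal.conjFun M (b : G) lam = lam)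
    rcases b.2 with hb | hb
    · refine Or.inr ⟨hb, ?_⟩
      rw [← CharNormal.conjFun_conjFun, hb, hginv]
      exact hne'
    · refine Or.inl ⟨?_, fun h => hne' (hb.symm.trans h)⟩
      rw [← CharNormal.conjFun_conjFun, hb, hconj, hginv]
      simp
  have hgo : IsPGroup 2 (Subgroup.zpowers (⟨g, hgTs⟩ : Ts)) := by
    obtain ⟨k, hk⟩ := hg
    exact IsPGroup.of_card (n := k) (by rw [Nat.card_zpowers, Subgroup.orderOf_mk, hk])
  obtain ⟨S, hS⟩ := hgo.exists_le_sylow
  let S1 : Subgroup G := (S : Subgroup Ts).map Ts.subtype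
  have hgS : g ∈ S1 := ⟨⟨g, hgTs⟩, hS (Subgroup.mem_zpowers _), rfl⟩
  have hS1Ts : S1 ≤ Ts := Subgroup.map_subtype_le _
  have hcS : Nat.card S1 = 2 ^ (Nat.card Ts).factorization 2 := by
    rw [Nat.card_congr (Subgroup.equivMapOfInjective _ _ Ts.subtype_injective).toEquiv.symm]
    exact S.card_eq_multiplicity
  let U := S1 ⊓ T
  have hgU : ∀ u ∈ U, g * u * g⁻¹ ∈ U := by
    rintro u ⟨hu1, hu2⟩
    refine ⟨S1.mul_mem (S1.mul_mem hgS hu1) (S1.inv_mem hgS), ?_⟩
    show CharNormal.conjFun M (g * u * g⁻¹) lam = lam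
    have hgi : CharNormal.conjFun M g⁻¹ (fun x : M => conj (lam x)) = lam := by
      rw [← hginv, CharNormal.conjFun_inv_conjFun]
    rw [← CharNormal.conjFun_conjFun, ← CharNormal.conjFun_conjFun, hginv, hconj,
      (CharNormal.mem_inertia M).1 hu2, hgi]
  have hUdvd : Nat.card U ∣ 2 ^ (Nat.card Ts).factorization 2 := hcS ▸ Subgroup.card_dvd_of_le inf_le_left
  obtain ⟨a, hale, ha⟩ := (Nat.dvd_prime_pow Nat.prime_two).1 hUdvd
  have hUcard : (Nat.card Ts).factorization 2 ≤ a + 1 := by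
    have h1 : U.relIndex S1 * Nat.card U = Nat.card S1 := relIndex_mul_card inf_le_left
    have h2 : U.relIndex S1 ≤ 2 := by
      rw [Subgroup.inf_relIndex_left]
      calc T.relIndex S1 ≤ T.relIndex Ts := Subgroup.relIndex_le_of_le_right hS1Ts (by rw [hidx]; norm_num)
        _ = 2 := hidx
    have h3 : 2 ^ (Nat.card Ts).factorization 2 ≤ 2 ^ (a + 1) := by
      rw [← hcS, ← h1, ha, pow_succ, mul_comm (2 ^ a)]
      exact Nat.mul_le_mul_right _ h2
    exact (Nat.pow_le_pow_iff_right (by norm_num)).1 h3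
  -- the extension
  let H0 := M ⊔ U
  have hMH : M ≤ H0 := le_sup_left
  have hH0T : H0 ≤ T := sup_le hMT inf_le_right
  have := Fintype.ofFinite H0
  have hmeet : M ⊓ U = ⊥ := Subgroup.inf_eq_bot_of_coprime (by
    rw [hn, ha]; exact Nat.Coprime.pow _ _ ((Nat.coprime_primes hp.out Nat.prime_two).2 hp2))
  have hdec : ∀ h : G, h ∈ H0 → ∃ m ∈ M, ∃ u ∈ U, h = m * u := fun h hh => by
    obtain ⟨m, hm, u, hu, e⟩ := Subgroup.mem_sup_of_normal_left.1 hh
    exact ⟨m, hm, u, hu, e.symm⟩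
  have hcard : Nat.card H0 = Nat.card M * Nat.card U := by
    rw [← Nat.card_prod]
    symm
    refine Nat.card_eq_of_bijective (fun z : M × U => (⟨z.1 * z.2,
      mul_mem (hMH z.1.2) (le_sup_right (a := M) z.2.2)⟩ : H0)) ⟨?_, ?_⟩
    · intro z w e
      exact Subgroup.mul_injective_of_disjoint (disjoint_iff.2 hmeet) (congrArg Subtype.val e)
    · rintro ⟨h, hh⟩
      obtain ⟨m, hm, u, hu, rfl⟩ := hdec h hh
      exact ⟨(⟨m, hm⟩, ⟨u, hu⟩), rfl⟩
  have hMi : ¬ p ∣ (M.subgroupOf H0).index := by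
    have h1 : M.relIndex H0 * Nat.card M = Nat.card H0 := relIndex_mul_card hMH
    rw [hcard, mul_comm (Nat.card M)] at h1
    rw [← Subgroup.relIndex, Nat.eq_of_mul_eq_mul_right Nat.card_pos h1, ha]
    exact fun h => hp2 ((Nat.prime_dvd_prime_iff_eq hp.out Nat.prime_two).1 (hp.out.dvd_of_dvd_pow h))
  obtain ⟨ν₀, hν₀⟩ := LinConst.exists_ext (p := p) (M.subgroupOf H0) (M.subgroupOf H0) le_rfl
    (hMp.of_injective ((Subgroup.subgroupOfEquivOfLe hMH).toMonoidHom) (MulEquiv.injective _)) hMi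
    (μ.comp (Subgroup.subgroupOfEquivOfLe hMH).toMonoidHom) (fun h x hx => by
      have hh := congrFun ((CharNormal.mem_inertia M).1 (hH0T h.2)) ⟨(h : G)⁻¹ * (x : G) * h, by
        simpa using ‹M.Normal›.conj_mem (x : G) hx (h : G)⁻¹⟩
      refine Units.ext ?_
      show (μ ⟨_, _⟩ : ℂ) = (μ ⟨_, _⟩ : ℂ)
      simp only [CharNormal.conjFun_apply, hlamdef] at hh
      convert hh.symm using 4
      · rfl
      · group)
  set ν := ν₀ ^ ((Nat.card U : ℤ) * Nat.gcdA (Nat.card U) (Nat.card M)) with hνdef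
  have hcop : Nat.Coprime (Nat.card U) (Nat.card M) := by
    rw [hn, ha]; exact Nat.Coprime.pow _ _ ((Nat.coprime_primes Nat.prime_two hp.out).2 hp2.symm)
  have hνM : ∀ (m : G) (hm : m ∈ M), ν ⟨m, hMH hm⟩ = μ ⟨m, hm⟩ := fun m hm => by
    have h3 : μ ⟨m, hm⟩ ^ Nat.card M = 1 := by rw [← map_pow, pow_card_eq_one', map_one]
    rw [hνdef, MonoidHom.zpow_apply, hν₀ ⟨m, hMH hm⟩ (Subgroup.mem_subgroupOf.2 hm)]
    change μ ⟨m, hm⟩ ^ _ = _
    have e := Nat.gcd_eq_gcd_ab (Nat.card U) (Nat.card M)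
    rw [hcop] at e
    conv_rhs => rw [← zpow_one (μ ⟨m, hm⟩), show (1 : ℤ) = ((1 : ℕ) : ℤ) from rfl, e, zpow_add,
      zpow_mul, zpow_mul, zpow_natCast, zpow_natCast, h3, one_zpow, mul_one]
    rw [zpow_mul, zpow_natCast]
  have hνU : ∀ (u : G) (hu : u ∈ U), ν ⟨u, le_sup_right (a := M) hu⟩ = 1 := fun u hu => by
    have h1 : (⟨u, le_sup_right (a := M) hu⟩ : H0) ^ Nat.card U = 1 :=
      Subtype.ext (orderOf_dvd_iff_pow_eq_one.1 (Subgroup.orderOf_dvd_natCard U hu))
    rw [hνdef, MonoidHom.zpow_apply, zpow_mul, zpow_natCast, ← map_pow, h1, map_one, one_zpow]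
  have hgH : ∀ h ∈ H0, g * h * g⁻¹ ∈ H0 := fun h hh => by
    obtain ⟨m, hm, u, hu, rfl⟩ := hdec h hh
    rw [show g * (m * u) * g⁻¹ = g * m * g⁻¹ * (g * u * g⁻¹) by group]
    exact mul_mem (hMH (‹M.Normal›.conj_mem m hm g)) (le_sup_right (a := M) (hgU u hu))
  have hνg : ∀ (h : G) (hh : h ∈ H0), ν ⟨g * h * g⁻¹, hgH h hh⟩ = (ν ⟨h, hh⟩)⁻¹ := fun h hh => by
    obtain ⟨m, hm, u, hu, rfl⟩ := hdec h hh
    have e1 : (⟨g * (m * u) * g⁻¹, hgH _ hh⟩ : H0) =
        ⟨g * m * g⁻¹, hMH (‹M.Normal›.conj_mem m hm g)⟩ *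
          ⟨g * u * g⁻¹, le_sup_right (a := M) (hgU u hu)⟩ :=
      Subtype.ext (show g * (m * u) * g⁻¹ = _ * _ by group)
    have e2 : (⟨m * u, hh⟩ : H0) = ⟨m, hMH hm⟩ * ⟨u, le_sup_right (a := M) hu⟩ := rfl
    rw [e1, e2, map_mul, map_mul, hνM _ (‹M.Normal›.conj_mem m hm g), hνM m hm,
      hνU _ (hgU u hu), hνU u hu, mul_one, mul_one, hinv m hm]
  let nu : H0 → ℂ := fun h => (ν h : ℂ)
  have hnu : IsIrrCharacter H0 nu := isIrrCharacter_units_hom ν
  let Ψ := Cfsg.indFun H0 nu
  have hΨ : IsCharacter G Ψ := isCharacter_indFun H0 (isCharacter_of_isIrr hnu)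
  have hgH' : ∀ h, g * h * g⁻¹ ∈ H0 → h ∈ H0 := by
    intro h hh
    have hsurj := Finite.injective_iff_surjective.1
      (show Function.Injective (fun z : H0 => (⟨g * z * g⁻¹, hgH z z.2⟩ : H0)) from fun a b e =>
        Subtype.ext (by simpa using congrArg Subtype.val e))
    obtain ⟨z, hz⟩ := hsurj ⟨_, hh⟩
    have : (z : G) = h := by simpa using congrArg Subtype.val hz
    exact this ▸ z.2
  have hΨreal : ∀ y, conj (Ψ y) = Ψ y := by
    intro y
    simp only [Ψ, indFun_apply, map_mul, map_inv₀, map_natCast, map_sum]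
    congr 1
    refine Fintype.sum_equiv (Equiv.mulRight g⁻¹) _ _ fun x => ?_
    rw [Equiv.coe_mulRight, show (x * g⁻¹)⁻¹ * y * (x * g⁻¹) = g * (x⁻¹ * y * x) * g⁻¹ by group]
    by_cases hx : x⁻¹ * y * x ∈ H0
    · rw [extendByZero_of_mem nu hx, extendByZero_of_mem nu (hgH _ hx)]
      change conj ((ν _ : ℂˣ) : ℂ) = _
      simp only [nu, hνg _ hx, ← map_inv]
      exact (char_inv (isCharacter_of_isIrr hnu) _).symm
    · rw [extendByZero_of_notMem nu hx, extendByZero_of_notMem nu (fun h => hx (hgH' _ h)), map_zero]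
  obtain ⟨m, hm, hmi⟩ := char_decomp hΨ
  have hmconj : ∀ χ, m (irrConj χ) = m χ := fun χ => by
    have h1 : classInner Ψ (irrConj χ : G → ℂ) = conj (classInner Ψ (χ : G → ℂ)) := by
      simp only [classInner_def, map_mul, map_inv₀, map_natCast, map_sum, irrConj_apply, hΨreal]
    rw [hmi, hmi, map_natCast] at h1
    exact_mod_cast h1
  have hres : ∀ χ, m χ ≠ 0 → classInner (fun x : M => (χ : G → ℂ) x) lam ≠ 0 := by
    intro χ h0
    have h1 : classInner (fun x : H0 => (χ : G → ℂ) x) nu ≠ 0 := by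
      intro e
      apply h0
      have h2 := hmi χ
      simp only [Ψ, frobenius_reciprocity H0 _ (isClassFunction_of_isIrr χ.2)] at h2
      rw [← classInner_conj_symm, e, map_zero] at h2
      exact_mod_cast h2.symm
    have h2 := LinConst.classInner_res_ne_zero H0 M hMH χ ν h1
    simpa only [hνM _ (Subtype.coe_prop _)] using h2
  have hT0 : 0 < T.index := Nat.pos_of_ne_zero Subgroup.index_ne_zero_of_finite
  have hdeg : ∀ χ, m χ ≠ 0 → charDegree (χ : G → ℂ) =
      charDegree (χ : G → ℂ) / T.index * T.index := by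
    intro χ h0
    obtain ⟨e, he⟩ := classInner_char_nat (isCharacter_res M (isCharacter_of_isIrr χ.2))
      (isCharacter_of_isIrr hlam)
    have h1 := CharNormal.degree_eq_mul_card_orbit M χ.2 ⟨lam, hlam⟩ (hres χ h0)
    rw [CharNormal.card_orbit_eq_index M ⟨lam, hlam⟩] at h1
    change (χ : G → ℂ) 1 = classInner (fun x : M => (χ : G → ℂ) x) lam * (T.index : ℂ) * lam 1 at h1
    have h2 : lam 1 = 1 := by simp [hlamdef]
    rw [h2, mul_one, he, ← Nat.cast_mul] at h1
    rw [charDegree_eq h1, Nat.mul_div_cancel _ hT0]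
  let f : IrrCharacter G → ℕ := fun χ => m χ * (charDegree (χ : G → ℂ) / T.index)
  have hsum : ∑ χ, f χ = H0.relIndex T := by
    refine Nat.eq_of_mul_eq_mul_right hT0 ?_
    rw [Subgroup.relIndex_mul_index hH0T, Finset.sum_mul]
    have h1 := congrFun hm 1
    simp only [Ψ, indFun_one, nu, map_one, Units.val_one, mul_one, Finset.sum_apply, Pi.smul_apply,
      smul_eq_mul, ← coe_charDegree_irr] at h1
    have h2 : H0.index = ∑ χ, m χ * charDegree (χ : G → ℂ) := by exact_mod_cast h1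
    rw [h2]
    refine Finset.sum_congr rfl fun χ _ => ?_
    by_cases h0 : m χ = 0
    · simp [f, h0]
    · simp only [f, mul_assoc, ← hdeg χ h0]
  have hoddi : Odd (H0.relIndex T) := by
    rw [Nat.odd_iff, ← Nat.two_dvd_ne_zero]
    intro h
    have h1 : H0.relIndex T * Nat.card H0 = Nat.card T := relIndex_mul_card hH0T
    have h2 : T.relIndex Ts * Nat.card T = Nat.card Ts := relIndex_mul_card hTTs
    have h3 : 2 ^ (a + 2) ∣ Nat.card Ts := by
      rw [← h2, ← h1, hidx, hcard, ha, pow_add, mul_comm (2 ^ a), show 2 ^ 2 = 2 * 2 from rfl, mul_assoc]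
      exact mul_dvd_mul_left 2 (mul_dvd_mul h (dvd_mul_left _ _))
    have h4 := (Nat.Prime.pow_dvd_iff_le_factorization Nat.prime_two Nat.card_pos.ne').1 h3
    omega
  by_contra hcon
  push Not at hcon
  have hz : ((∑ χ, f χ : ℕ) : ZMod 2) = 0 := by
    push_cast
    refine Finset.sum_involution (fun χ _ => irrConj χ) (fun χ _ => ?_) (fun χ _ hne0 => ?_)
      (fun _ _ => Finset.mem_univ _) (fun χ _ => irrConj_irrConj χ)
    · have : f (irrConj χ) = f χ := by
        simp only [f, hmconj, charDegree, irrConj_apply, Complex.conj_re]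
      rw [this]
      exact CharTwo.add_self_eq_zero _
    · intro e
      refine hne0 ?_
      have hreal := (irrConj_eq_self_iff χ).1 e
      by_cases h0 : m χ = 0
      · simp [f, h0]
      · exact absurd (hcon χ hreal) (hres χ h0)
  rw [hsum, ZMod.natCast_eq_zero_iff_even] at hz
  exact (Nat.not_even_iff_odd.2 hoddi) hz

end CfsgLib.CharBlocks.RealAbove
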