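import Cfsg.Agent.Lib.CharBlocks.ClassMul
import Cfsg.Agent.Lib.CharBlocks.Degree
import Cfsg.Agent.Lib.CharBlocks.InvolSylow

/-!
# A real element of odd centralizer order prime to `p` gives a character of `p`-defect zero

If the involution `v` inverts `g`, the centralizer of `g` has odd order, and neither centralizer has order
divisible by `p`, then the number of pairs of conjugates of `v` with product `g` is prime to `p`; by the class
multiplication formula some irreducible character then has `p`-defect zero.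
-/

set_option autoImplicit false

namespace CfsgLib.CharBlocks

open CfsgLib.Char Subgroup
open scoped ComplexConjugate

variable {G : Type*} [Group G]

/-- The pairs of conjugating elements with `(a v a⁻¹) (b v b⁻¹) = g`. -/
def ConjPair (v g : G) : Type _ :=
  {x : G × G // x.1 * v * x.1⁻¹ * (x.2 * v * x.2⁻¹) = g}

/-- Their number is the number from the class multiplication formula. -/
noncomputable def conjPairEquiv (v g : G) :
    ({h : G // IsConj (h * v * h⁻¹ * v) g} × (centralizer ({g} : Set G))) ≃ ConjPair v g := by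
  classical
  have hk : ∀ h : {h : G // IsConj (h * v * h⁻¹ * v) g}, ∃ k : G, k * g * k⁻¹ = h.1 * v * h.1⁻¹ * v :=
    fun h => isConj_iff.mp h.2.symm
  choose k hk using hk
  refine Equiv.ofBijective (fun x => ⟨((x.2 : G) * (k x.1)⁻¹ * x.1.1, (x.2 : G) * (k x.1)⁻¹), ?_⟩) ⟨?_, ?_⟩
  · have h2 := mem_centralizer_singleton_iff.mp x.2.2
    show (x.2 : G) * (k x.1)⁻¹ * x.1.1 * v * ((x.2 : G) * (k x.1)⁻¹ * x.1.1)⁻¹ *
      ((x.2 : G) * (k x.1)⁻¹ * v * ((x.2 : G) * (k x.1)⁻¹)⁻¹) = g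
    calc _ = (x.2 : G) * ((k x.1)⁻¹ * (x.1.1 * v * x.1.1⁻¹ * v) * k x.1) * (x.2 : G)⁻¹ := by group
      _ = (x.2 : G) * g * (x.2 : G)⁻¹ := by rw [← hk x.1]; group
      _ = g := by rw [h2, mul_inv_cancel_right]
  · intro x y hxy
    have h1 : (x.2 : G) * (k x.1)⁻¹ * x.1.1 = (y.2 : G) * (k y.1)⁻¹ * y.1.1 :=
      congrArg (fun z : ConjPair v g => z.1.1) hxy
    have h2 : (x.2 : G) * (k x.1)⁻¹ = (y.2 : G) * (k y.1)⁻¹ :=
      congrArg (fun z : ConjPair v g => z.1.2) hxy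
    rw [h2] at h1
    have e1 : x.1 = y.1 := Subtype.ext (mul_left_cancel h1)
    rw [e1] at h2
    exact Prod.ext e1 (Subtype.ext (mul_right_cancel h2))
  · rintro ⟨⟨a, b⟩, hab⟩
    have hab' : a * v * a⁻¹ * (b * v * b⁻¹) = g := hab
    have hh : IsConj (b⁻¹ * a * v * (b⁻¹ * a)⁻¹ * v) g := isConj_iff.mpr ⟨b, by
      rw [← hab']; group⟩
    have hc : b * k ⟨b⁻¹ * a, hh⟩ ∈ centralizer ({g} : Set G) := by
      rw [mem_centralizer_singleton_iff]
      have h1 : k ⟨b⁻¹ * a, hh⟩ * g * (k ⟨b⁻¹ * a, hh⟩)⁻¹ = b⁻¹ * g * b := by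
        rw [hk ⟨b⁻¹ * a, hh⟩]
        show b⁻¹ * a * v * (b⁻¹ * a)⁻¹ * v = b⁻¹ * g * b
        calc b⁻¹ * a * v * (b⁻¹ * a)⁻¹ * v = b⁻¹ * (a * v * a⁻¹ * (b * v * b⁻¹)) * b := by group
          _ = _ := by rw [hab']
      calc b * k ⟨b⁻¹ * a, hh⟩ * g
          = b * (k ⟨b⁻¹ * a, hh⟩ * g * (k ⟨b⁻¹ * a, hh⟩)⁻¹) * k ⟨b⁻¹ * a, hh⟩ := by group
        _ = _ := by rw [h1]; group
    refine ⟨(⟨b⁻¹ * a, hh⟩, ⟨_, hc⟩), Subtype.ext (Prod.ext ?_ ?_)⟩
    · show b * k ⟨b⁻¹ * a, hh⟩ * (k ⟨b⁻¹ * a, hh⟩)⁻¹ * (b⁻¹ * a) = a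
      group
    · show b * k ⟨b⁻¹ * a, hh⟩ * (k ⟨b⁻¹ * a, hh⟩)⁻¹ = b
      group

variable [Finite G]

/-- The pairs form one orbit of `C(g) × C(v) × C(v)`. -/
theorem card_conjPair_dvd {v g : G} (hv : orderOf v = 2) (hgv : v * g * v⁻¹ = g⁻¹)
    (hC : Odd (Nat.card (centralizer ({g} : Set G)))) :
    Nat.card (ConjPair v g) ∣ Nat.card (centralizer ({g} : Set G)) *
      (Nat.card (centralizer ({v} : Set G)) * Nat.card (centralizer ({v} : Set G))) := by
  classical
  set C := centralizer ({g} : Set G)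
  set V := centralizer ({v} : Set G)
  have hvv := InvolSylow.invol_mul_self hv
  have hvi : v⁻¹ = v := inv_eq_of_mul_eq_one_right hvv
  letI : MulAction (C × V × V) (G × G) :=
    { smul := fun s x => ((s.1 : G) * x.1 * (s.2.1 : G)⁻¹, (s.1 : G) * x.2 * (s.2.2 : G)⁻¹)
      one_smul := fun x => by
        show (((1 : C) : G) * x.1 * ((1 : V) : G)⁻¹, ((1 : C) : G) * x.2 * ((1 : V) : G)⁻¹) = x
        simp
      mul_smul := fun s t x => Prod.ext
        (by show ((s.1 * t.1 : C) : G) * x.1 * ((s.2.1 * t.2.1 : V) : G)⁻¹ = _ * (_ * x.1 * _) * _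
            push_cast; group)
        (by show ((s.1 * t.1 : C) : G) * x.2 * ((s.2.2 * t.2.2 : V) : G)⁻¹ = _ * (_ * x.2 * _) * _
            push_cast; group) }
  have hgodd : Odd (orderOf g) := hC.of_dvd_nat (by
    have := orderOf_dvd_natCard (⟨g, mem_centralizer_singleton_iff.mpr rfl⟩ : C)
    rwa [← Subgroup.orderOf_coe] at this)
  have hvgi : v * g⁻¹ * v⁻¹ = g := by rw [← conj_inv, hgv, inv_inv]
  have hcan : ∀ b : G, b * v * b⁻¹ * (b * v * b⁻¹) = 1 := fun b => by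
    rw [show b * v * b⁻¹ * (b * v * b⁻¹) = b * (v * v) * b⁻¹ by group, hvv]; group
  -- a base pair
  obtain ⟨a₀, -, ha₀⟩ := InvolSylow.exists_conj_eq_mul hvv (c := g) (by
    rw [show g * v * (g * v) = g * (v * g * v⁻¹) * (v * v) by group, hgv, hvv]; group) hgodd
  have hbase : a₀ * v * a₀⁻¹ * ((1 : G) * v * (1 : G)⁻¹) = g := by
    rw [ha₀, one_mul, inv_one, mul_one, mul_assoc, hvv, mul_one]
  have horb : ∀ x : G × G, x.1 * v * x.1⁻¹ * (x.2 * v * x.2⁻¹) = g ↔
      x ∈ MulAction.orbit (C × V × V) ((a₀, 1) : G × G) := by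
    rintro ⟨a, b⟩
    constructor
    · intro hab
      have hab' : a * v * a⁻¹ = g * (b * v * b⁻¹) := by
        calc a * v * a⁻¹ = a * v * a⁻¹ * (b * v * b⁻¹) * (b * v * b⁻¹) := by
              rw [mul_assoc (a * v * a⁻¹), hcan, mul_one]
          _ = _ := by rw [show a * v * a⁻¹ * (b * v * b⁻¹) = g from hab]
      -- `b v b⁻¹` inverts `g`
      have hbg : b * v * b⁻¹ * g * (b * v * b⁻¹) = g⁻¹ := by
        rw [eq_inv_iff_mul_eq_one]
        have h1 := hcan a
        rw [hab'] at h1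
        calc b * v * b⁻¹ * g * (b * v * b⁻¹) * g = g⁻¹ * (g * (b * v * b⁻¹) * (g * (b * v * b⁻¹))) * g := by group
          _ = 1 := by rw [h1]; group
      set e := b * v * b⁻¹ * v⁻¹ with he
      have heC : e ∈ C := by
        rw [mem_centralizer_singleton_iff]
        calc e * g = b * v * b⁻¹ * (v⁻¹ * g * v) * v⁻¹ := by rw [he]; group
          _ = b * v * b⁻¹ * g⁻¹ * v⁻¹ := by rw [show v⁻¹ * g * v = g⁻¹ by rw [← hgv, hvi]]
          _ = (b * v * b⁻¹ * g * (b * v * b⁻¹)⁻¹)⁻¹ * e := by rw [he]; group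
          _ = g * e := by rw [inv_eq_of_mul_eq_one_right (hcan b), hbg, inv_inv]
      obtain ⟨d, hd, hd'⟩ := InvolSylow.exists_conj_eq_mul hvv (c := e)
        (by rw [he, inv_mul_cancel_right]; exact hcan b)
        (hC.of_dvd_nat (by
          have := orderOf_dvd_natCard (⟨e, heC⟩ : C)
          rwa [← Subgroup.orderOf_coe] at this))
      have hdC : d ∈ C := (zpowers_le.mpr heC) hd
      rw [he, inv_mul_cancel_right] at hd'
      have hdg : d * g * d⁻¹ = g := by rw [mem_centralizer_singleton_iff.mp hdC, mul_inv_cancel_right]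
      have hs2 : b⁻¹ * d ∈ V := by
        rw [mem_centralizer_singleton_iff]
        calc b⁻¹ * d * v = b⁻¹ * (d * v * d⁻¹) * d := by group
          _ = v * (b⁻¹ * d) := by rw [hd']; group
      have hs1 : a⁻¹ * d * a₀ ∈ V := by
        rw [mem_centralizer_singleton_iff]
        calc a⁻¹ * d * a₀ * v = a⁻¹ * (d * (a₀ * v * a₀⁻¹) * d⁻¹) * d * a₀ := by group
          _ = a⁻¹ * ((d * g * d⁻¹) * (d * v * d⁻¹)) * d * a₀ := by rw [ha₀]; group
          _ = a⁻¹ * (a * v * a⁻¹) * d * a₀ := by rw [hdg, hd', hab']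
          _ = v * (a⁻¹ * d * a₀) := by group
      refine ⟨(⟨d, hdC⟩, ⟨_, hs1⟩, ⟨_, hs2⟩), Prod.ext ?_ ?_⟩
      · show d * a₀ * (a⁻¹ * d * a₀)⁻¹ = a
        group
      · show d * 1 * (b⁻¹ * d)⁻¹ = b
        group
    · rintro ⟨⟨⟨c, hc⟩, ⟨s, hs⟩, ⟨s', hs'⟩⟩, hx⟩
      have e1 : c * a₀ * s⁻¹ = a := congrArg Prod.fst hx
      have e2 : c * 1 * s'⁻¹ = b := congrArg Prod.snd hx
      have hsv : s⁻¹ * v * s = v := by
        rw [mul_assoc, ← mem_centralizer_singleton_iff.mp hs, inv_mul_cancel_left]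
      have hsv' : s'⁻¹ * v * s' = v := by
        rw [mul_assoc, ← mem_centralizer_singleton_iff.mp hs', inv_mul_cancel_left]
      show a * v * a⁻¹ * (b * v * b⁻¹) = g
      rw [← e1, ← e2]
      calc c * a₀ * s⁻¹ * v * (c * a₀ * s⁻¹)⁻¹ * (c * 1 * s'⁻¹ * v * (c * 1 * s'⁻¹)⁻¹)
          = c * (a₀ * (s⁻¹ * v * s) * a₀⁻¹ * (1 * (s'⁻¹ * v * s') * 1⁻¹)) * c⁻¹ := by group
        _ = c * g * c⁻¹ := by rw [hsv, hsv', hbase]
        _ = g := by rw [mem_centralizer_singleton_iff.mp hc, mul_inv_cancel_right]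
  have e : Nat.card (ConjPair v g) = Nat.card (MulAction.orbit (C × V × V) ((a₀, 1) : G × G)) :=
    Nat.card_congr (Equiv.subtypeEquivRight horb)
  rw [e, Nat.card_coe_set_eq, ← MulAction.index_stabilizer, ← Nat.card_prod, ← Nat.card_prod]
  exact index_dvd_card _

/-- An inverted element of odd centralizer order prime to `p` yields a character of `p`-defect zero. -/
theorem exists_defectZero_of_inverted {p : ℕ} [hp : Fact p.Prime] {v g : G} (hv : orderOf v = 2)
    (hgv : v * g * v⁻¹ = g⁻¹) (hC : Odd (Nat.card (centralizer ({g} : Set G))))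
    (hgp : ¬ p ∣ Nat.card (centralizer ({g} : Set G))) (hvp : ¬ p ∣ Nat.card (centralizer ({v} : Set G))) :
    ∃ χ : Cfsg.IrrCharacter G,
      (Cfsg.charDegree (χ : G → ℂ)).factorization p = (Nat.card G).factorization p := by
  classical
  have := Fintype.ofFinite G
  by_contra hno
  push Not at hno
  have hk : ∀ χ : Cfsg.IrrCharacter G, ∃ k : ℕ, Nat.card G = Cfsg.charDegree (χ : G → ℂ) * (p * k) := by
    intro χ
    have hd := charDegree_dvd_card χ.2
    have hd0 := (charDegree_pos χ.2).ne'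
    obtain ⟨j, hj⟩ := hd
    have hj0 : j ≠ 0 := fun e => Nat.card_pos.ne' (by rw [hj, e, mul_zero])
    obtain ⟨k, hk⟩ : p ∣ j := by
      by_contra hpj
      refine hno χ ?_
      rw [hj, Nat.factorization_mul hd0 hj0]
      simp [Nat.factorization_eq_zero_of_not_dvd hpj]
    exact ⟨k, by rw [hj, hk]⟩
  choose k hk using hk
  have hT : (Nat.card (ConjPair v g) : ℂ) =
      (p : ℂ) * ∑ χ : Cfsg.IrrCharacter G,
        (k χ : ℂ) * ((χ : G → ℂ) v * (χ : G → ℂ) v * conj ((χ : G → ℂ) g)) := by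
    rw [← Nat.card_congr (conjPairEquiv v g), Nat.card_prod, Nat.cast_mul, card_conj_mul_isConj,
      Finset.mul_sum, Finset.mul_sum]
    refine Finset.sum_congr rfl fun χ _ => ?_
    have hG : (Nat.card G : ℂ) = (χ : G → ℂ) 1 * ((p : ℂ) * (k χ : ℂ)) := by
      rw [hk χ, Nat.cast_mul, Nat.cast_mul, coe_charDegree_irr]
    rw [hG]
    field_simp [irr_one_ne_zero χ.2]
  have hint : IsIntegral ℤ ((Nat.card (ConjPair v g) : ℂ) / (p : ℂ) ^ 1) := by
    rw [hT, pow_one, mul_div_cancel_left₀ _ (by exact_mod_cast hp.out.ne_zero : (p : ℂ) ≠ 0)]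
    refine IsIntegral.sum _ fun χ _ => (isIntegral_natCast _).mul (((char_isIntegral
      (isCharacter_of_isIrr χ.2) v).mul (char_isIntegral (isCharacter_of_isIrr χ.2) v)).mul ?_)
    rw [← char_inv (isCharacter_of_isIrr χ.2)]
    exact char_isIntegral (isCharacter_of_isIrr χ.2) _
  refine not_prime_pow_denom hp.out one_ne_zero (fun h => ?_) hint
  have h1 := h.trans (card_conjPair_dvd hv hgv hC)
  rw [hp.out.dvd_mul, hp.out.dvd_mul] at h1
  exact h1.elim hgp fun h => h.elim hvp hvp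

end CfsgLib.CharBlocks
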