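import Cfsg.Agent.Lib.CharBlocks.Indicator
import Cfsg.Agent.Lib.CharNormal.Clifford
import Mathlib.GroupTheory.GroupAction.Quotient

/-!
# Real characters and real classes over a normal subgroup of odd index

* `card_real_orbits`: as many orbits on real characters as on real classes of the normal subgroup;
* `existsUnique_real_over`: a real character of the normal subgroup lies under exactly one real
  character, and with the same Frobenius–Schur indicator.
-/

set_option autoImplicit false

noncomputable section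

namespace CfsgLib.CharBlocks.RealOddIndex

open Cfsg CfsgLib.Char CfsgLib.CharNormal
open scoped ComplexConjugate

variable {G : Type*} [Group G] [Finite G] (N : Subgroup G) [hN : N.Normal]

theorem mem_of_sq_mem (hodd : Odd N.index) {s : G} (h : s * s ∈ N) : s ∈ N := by
  obtain ⟨k, hk⟩ := hodd
  have h1 : s ^ N.index ∈ N := Subgroup.pow_index_mem N s
  rw [hk, pow_succ, pow_mul] at h1
  exact (N.mul_mem_cancel_left (N.pow_mem (by rwa [pow_two]) k)).mp h1

/-- An element inverted in the group lies in the normal subgroup and is already inverted there. -/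
theorem real_mem (hodd : Odd N.index) {x : G} (hx : IsConj x x⁻¹) :
    x ∈ N ∧ ∃ n ∈ N, n * x * n⁻¹ = x⁻¹ := by
  have hq : IsConj (x : G ⧸ N) (x : G ⧸ N)⁻¹ := by
    obtain ⟨c, hc⟩ := isConj_iff.mp hx
    exact isConj_iff.mpr ⟨(c : G ⧸ N), by rw [← QuotientGroup.mk_inv N x, ← hc]; simp⟩
  have hxN : x ∈ N := (QuotientGroup.eq_one_iff x).mp
    (eq_one_of_isConj_inv (by rwa [← Subgroup.index_eq_card]) hq)
  refine ⟨hxN, ?_⟩
  obtain ⟨c, hc⟩ := isConj_iff.mp hx
  obtain ⟨k, hk⟩ := hodd
  have hc2 : c ^ 2 * x * (c ^ 2)⁻¹ = x := by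
    calc c ^ 2 * x * (c ^ 2)⁻¹ = c * (c * x * c⁻¹) * c⁻¹ := by rw [pow_two]; group
      _ = c * x⁻¹ * c⁻¹ := by rw [hc]
      _ = (c * x * c⁻¹)⁻¹ := by group
      _ = x := by rw [hc, inv_inv]
  have hk2 : ∀ j : ℕ, (c ^ 2) ^ j * x * ((c ^ 2) ^ j)⁻¹ = x := fun j => by
    induction j with
    | zero => simp
    | succ j ih =>
      calc (c ^ 2) ^ (j + 1) * x * ((c ^ 2) ^ (j + 1))⁻¹
          = (c ^ 2) ^ j * (c ^ 2 * x * (c ^ 2)⁻¹) * ((c ^ 2) ^ j)⁻¹ := by rw [pow_succ]; group
        _ = x := by rw [hc2, ih]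
  refine ⟨c ^ N.index, Subgroup.pow_index_mem N c, ?_⟩
  rw [hk, pow_succ', pow_mul]
  calc c * (c ^ 2) ^ k * x * (c * (c ^ 2) ^ k)⁻¹ = c * ((c ^ 2) ^ k * x * ((c ^ 2) ^ k)⁻¹) * c⁻¹ := by group
    _ = x⁻¹ := by rw [hk2, hc]

/-- Fixed by an involution and by an element of odd order modulo the kernel of the action. -/
theorem fix_both (hodd : Odd N.index) {α : Type*} [MulAction G α] (J : α → α) (hJ : ∀ a, J (J a) = a)
    (hcomm : ∀ (g : G) a, g • J a = J (g • a)) (htriv : ∀ n ∈ N, ∀ a : α, n • a = a) (g : G) (a : α) :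
    J a = a ∧ g • a = a ↔ J (g • a) = a := by
  refine ⟨fun ⟨h1, h2⟩ => by rw [h2, h1], fun h => ?_⟩
  have h1 : g • a = J a := by rw [← hJ (g • a), h]
  have h2 : g ^ 2 ∈ MulAction.stabilizer G a := by
    rw [MulAction.mem_stabilizer_iff, pow_two, mul_smul, h1, hcomm, h]
  have h3 : g ^ N.index ∈ MulAction.stabilizer G a :=
    htriv _ (Subgroup.pow_index_mem N g) a
  obtain ⟨k, hk⟩ := hodd
  rw [hk, pow_succ, pow_mul] at h3
  have h4 : g • a = a := ((MulAction.stabilizer G a).mul_mem_cancel_left (pow_mem h2 k)).mp h3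
  exact ⟨by rw [← h1, h4], h4⟩

/-- Conjugation action on the irreducible characters. -/
abbrev irrAction [Fintype N] : MulAction G (IrrCharacter N) where
  smul g θ := conjIrr N g⁻¹ θ
  one_smul θ := Subtype.ext (by show conjFun N (1 : G)⁻¹ θ = _; rw [inv_one, conjFun_one])
  mul_smul g h θ := Subtype.ext (by
    show conjFun N (g * h)⁻¹ θ = conjFun N g⁻¹ (conjFun N h⁻¹ θ)
    rw [conjFun_conjFun, mul_inv_rev])

/-- Conjugation action on the classes. -/
abbrev classAction : MulAction G (ConjClasses N) where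
  smul g C := ConjClasses.map (MulAut.conjNormal g : MulAut N).toMonoidHom C
  one_smul C := by
    obtain ⟨x, rfl⟩ := ConjClasses.mk_surjective C
    exact congrArg ConjClasses.mk (Subtype.ext (by simp [MulAut.conjNormal_apply]))
  mul_smul g h C := by
    obtain ⟨x, rfl⟩ := ConjClasses.mk_surjective C
    exact congrArg ConjClasses.mk (Subtype.ext (by simp [MulAut.conjNormal_apply]))

/-- The action on the fixed points of a commuting map. -/
abbrev subAction {α : Type*} [MulAction G α] (J : α → α) (hcomm : ∀ (g : G) a, g • J a = J (g • a)) :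
    MulAction G {a : α // J a = a} where
  smul g a := ⟨g • a.1, by rw [← hcomm, a.2]⟩
  one_smul a := Subtype.ext (one_smul G a.1)
  mul_smul g h a := Subtype.ext (mul_smul g h a.1)

theorem card_fixedBy_sub (hodd : Odd N.index) {α : Type*} [MulAction G α] (J : α → α)
    (hJ : ∀ a, J (J a) = a) (hcomm : ∀ (g : G) a, g • J a = J (g • a))
    (htriv : ∀ n ∈ N, ∀ a : α, n • a = a) (g : G) :
    (letI := subAction J hcomm; Nat.card (MulAction.fixedBy {a : α // J a = a} g)) =
      Nat.card {a : α // J (g • a) = a} :=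
  letI := subAction J hcomm
  Nat.card_congr
    { toFun := fun a => ⟨a.1.1, (fix_both N hodd J hJ hcomm htriv g a.1.1).mp ⟨a.1.2, congrArg Subtype.val a.2⟩⟩
      invFun := fun a => ⟨⟨a.1, ((fix_both N hodd J hJ hcomm htriv g a.1).mpr a.2).1⟩,
        Subtype.ext ((fix_both N hodd J hJ hcomm htriv g a.1).mpr a.2).2⟩
      left_inv := fun _ => rfl
      right_inv := fun _ => rfl }

omit [Finite G] in
theorem subOrbit_iff {α : Type*} [MulAction G α] (J : α → α) (hcomm : ∀ (g : G) a, g • J a = J (g • a))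
    (a b : {a : α // J a = a}) :
    (letI := subAction J hcomm; (MulAction.orbitRel G {a : α // J a = a}).r a b) ↔ ∃ g : G, g • b.1 = a.1 :=
  letI := subAction J hcomm
  ⟨fun ⟨g, hg⟩ => ⟨g, congrArg Subtype.val hg⟩, fun ⟨g, hg⟩ => ⟨g, Subtype.ext hg⟩⟩

theorem card_real_orbits (hodd : Odd N.index) :
    Nat.card (Quot (fun θ η : {θ : IrrCharacter N // ∀ k : N, ((θ : N → ℂ) k).im = 0} =>
        ∃ g : G, ∀ k k' : N, (k' : G) = g * (k : G) * g⁻¹ → (η.1 : N → ℂ) k' = (θ.1 : N → ℂ) k)) =
      Nat.card (Quot (fun x y : {x : N // IsConj x x⁻¹} => ∃ g : G, (y.1 : G) = g * x.1 * g⁻¹)) := by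
  classical
  have := Fintype.ofFinite G
  have := Fintype.ofFinite N
  letI := irrAction N
  letI := classAction N
  have hsI : ∀ (g : G) (θ : IrrCharacter N) (k : N), ((g • θ : IrrCharacter N) : N → ℂ) k =
      (θ : N → ℂ) ⟨g⁻¹ * k * (g⁻¹)⁻¹, hN.conj_mem k k.2 g⁻¹⟩ := fun _ _ _ => rfl
  have hsC : ∀ (g : G) (x : N), g • ConjClasses.mk x = ConjClasses.mk (MulAut.conjNormal g x) := fun _ _ => rfl
  have hcI : ∀ (g : G) θ, g • irrConj θ = irrConj (g • θ : IrrCharacter N) := fun g θ =>
    Subtype.ext (funext fun k => rfl)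
  have hcC : ∀ (g : G) C, g • classInv C = classInv (g • C : ConjClasses N) := fun g C => by
    obtain ⟨x, rfl⟩ := ConjClasses.mk_surjective C
    rw [classInv_mk, hsC, hsC, classInv_mk, map_inv]
  have htI : ∀ n ∈ N, ∀ θ : IrrCharacter N, n • θ = θ := fun n hn θ =>
    Subtype.ext (conjFun_of_mem N (isClassFunction_of_isIrr θ.2) (N.inv_mem hn))
  have htC : ∀ n ∈ N, ∀ C : ConjClasses N, n • C = C := fun n hn C => by
    obtain ⟨x, rfl⟩ := ConjClasses.mk_surjective C
    rw [hsC]
    exact ConjClasses.mk_eq_mk_iff_isConj.mpr (isConj_iff.mpr ⟨⟨n, hn⟩⁻¹, Subtype.ext (by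
      simp [MulAut.conjNormal_apply, mul_assoc])⟩)
  let iI : MulAction G {θ : IrrCharacter N // irrConj θ = θ} := subAction irrConj hcI
  let iC : MulAction G {C : ConjClasses N // classInv C = C} := subAction classInv hcC
  let _ := Fintype.ofFinite {θ : IrrCharacter N // irrConj θ = θ}
  let _ := Fintype.ofFinite {C : ConjClasses N // classInv C = C}
  -- every element has as many fixed points on both sides
  have hfix : ∀ g : G, Fintype.card (MulAction.fixedBy {θ : IrrCharacter N // irrConj θ = θ} g) = Fintype.card (MulAction.fixedBy {C : ConjClasses N // classInv C = C} g) := fun g => by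
    rw [← Nat.card_eq_fintype_card, ← Nat.card_eq_fintype_card]
    have hinvC : ∀ C : ConjClasses N, classInv (classInv C) = C := fun C => by
      obtain ⟨x, rfl⟩ := ConjClasses.mk_surjective C
      simp [classInv_mk]
    refine (card_fixedBy_sub N hodd irrConj irrConj_irrConj hcI htI g).trans
      (Eq.trans ?_ (card_fixedBy_sub N hodd classInv hinvC hcC htC g).symm)
    refine card_fixed_eq ((MulAction.toPerm g).trans (Function.Involutive.toPerm irrConj irrConj_irrConj))
      ((MulAction.toPerm g).trans (Function.Involutive.toPerm classInv hinvC)) fun θ k k' hk' => ?_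
    have hk : IsConj k' (MulAut.conjNormal g k)⁻¹ := by
      refine ConjClasses.mk_eq_mk_iff_isConj.mp (hk'.trans ?_)
      show classInv (g • ConjClasses.mk k) = _
      rw [hsC, classInv_mk]
    show conj (((g • θ : IrrCharacter N) : N → ℂ) k') = (θ : N → ℂ) k
    rw [isClassFunction_iff.mp (isClassFunction_of_isIrr (g • θ : IrrCharacter N).2) _ _ hk,
      char_inv (isCharacter_of_isIrr (g • θ : IrrCharacter N).2), Complex.conj_conj, hsI]
    exact congrArg _ (Subtype.ext (by simp [MulAut.conjNormal_apply, mul_assoc]))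
  let _ := Fintype.ofFinite (Quotient (MulAction.orbitRel G {θ : IrrCharacter N // irrConj θ = θ}))
  let _ := Fintype.ofFinite (Quotient (MulAction.orbitRel G {C : ConjClasses N // classInv C = C}))
  have horb : Fintype.card (Quotient (MulAction.orbitRel G {θ : IrrCharacter N // irrConj θ = θ})) * Fintype.card G =
      Fintype.card (Quotient (MulAction.orbitRel G {C : ConjClasses N // classInv C = C})) * Fintype.card G := by
    rw [← MulAction.sum_card_fixedBy_eq_card_orbits_mul_card_group,
      ← MulAction.sum_card_fixedBy_eq_card_orbits_mul_card_group]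
    exact Finset.sum_congr rfl fun g _ => hfix g
  have hmain : Nat.card (Quotient (MulAction.orbitRel G {θ : IrrCharacter N // irrConj θ = θ})) = Nat.card (Quotient (MulAction.orbitRel G {C : ConjClasses N // classInv C = C})) := by
    rw [Nat.card_eq_fintype_card, Nat.card_eq_fintype_card]
    exact Nat.eq_of_mul_eq_mul_right Fintype.card_pos horb
  refine Eq.trans ?_ (hmain.trans ?_)
  · -- characters
    refine Nat.card_congr
      { toFun := Quot.lift (fun θ => Quotient.mk'' (⟨θ.1, (irrConj_eq_self_iff θ.1).mpr θ.2⟩ : {θ : IrrCharacter N // irrConj θ = θ})) ?_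
        invFun := fun q => Quotient.liftOn' q (fun θ => Quot.mk _ ⟨θ.1, (irrConj_eq_self_iff θ.1).mp θ.2⟩) ?_
        left_inv := fun q => by induction q using Quot.ind; rfl
        right_inv := fun q => by induction q using Quotient.inductionOn'; rfl }
    · rintro θ η ⟨g, hg⟩
      refine Quotient.sound' ((subOrbit_iff irrConj hcI _ _).mpr ⟨g⁻¹, Subtype.ext (funext fun k => ?_)⟩)
      show ((g⁻¹ • η.1 : IrrCharacter N) : N → ℂ) k = (θ.1 : N → ℂ) k
      rw [hsI]
      exact hg k _ (by simp)
    · intro θ η hθη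
      obtain ⟨g, hg⟩ := (subOrbit_iff irrConj hcI θ η).mp hθη
      refine Quot.sound ⟨g⁻¹, fun k k' hk => ?_⟩
      have h1 := congrArg (fun z : IrrCharacter N => (z : N → ℂ) k) hg
      rw [hsI] at h1
      refine (congrArg _ (Subtype.ext ?_)).trans h1
      show (k' : G) = g⁻¹ * k * g⁻¹⁻¹
      exact hk
  · -- classes
    refine (Nat.card_congr
      { toFun := Quot.lift (fun x => Quotient.mk'' (⟨ConjClasses.mk x.1, by
            rw [classInv_mk, ConjClasses.mk_eq_mk_iff_isConj]; exact x.2.symm⟩ : {C : ConjClasses N // classInv C = C})) ?_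
        invFun := fun q => Quotient.liftOn' q (fun C => Quot.mk _ (⟨(ConjClasses.mk_surjective C.1).choose, by
            have h := C.2
            rw [← (ConjClasses.mk_surjective C.1).choose_spec, classInv_mk,
              ConjClasses.mk_eq_mk_iff_isConj] at h
            exact h.symm⟩ : {x : N // IsConj x x⁻¹})) ?_
        left_inv := fun q => by
          induction q using Quot.ind with
          | mk x =>
            refine Quot.sound ?_
            obtain ⟨c, hc⟩ := isConj_iff.mp (ConjClasses.mk_eq_mk_iff_isConj.mp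
              (ConjClasses.mk_surjective (ConjClasses.mk x.1)).choose_spec)
            exact ⟨(c : G), (congrArg Subtype.val hc).symm⟩
        right_inv := fun q => by
          induction q using Quotient.inductionOn' with
          | h C => exact congrArg Quotient.mk'' (Subtype.ext (ConjClasses.mk_surjective C.1).choose_spec) }).symm
    · rintro x y ⟨g, hg⟩
      refine (Quotient.sound' ((subOrbit_iff classInv hcC _ _).mpr ⟨g, ?_⟩)).symm
      show g • ConjClasses.mk x.1 = ConjClasses.mk y.1
      rw [hsC]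
      exact congrArg ConjClasses.mk (Subtype.ext (by rw [MulAut.conjNormal_apply, hg]))
    · intro C D hCD
      obtain ⟨g, hg⟩ := (subOrbit_iff classInv hcC C D).mp hCD
      refine (Quot.sound ?_).symm
      have h1 : g • D.1 = C.1 := hg
      rw [← (ConjClasses.mk_surjective D.1).choose_spec, ← (ConjClasses.mk_surjective C.1).choose_spec,
        hsC, ConjClasses.mk_eq_mk_iff_isConj] at h1
      obtain ⟨c, hc⟩ := isConj_iff.mp h1
      refine ⟨(c : G) * g, ?_⟩
      have := congrArg Subtype.val hc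
      simp only [Subgroup.coe_mul, Subgroup.coe_inv, MulAut.conjNormal_apply] at this
      rw [← this]; group

/-- As many real characters as orbits of real classes of the normal subgroup. -/
theorem card_real_irr_eq (hodd : Odd N.index) :
    Nat.card {χ : IrrCharacter G // irrConj χ = χ} =
      Nat.card (Quot (fun x y : {x : N // IsConj x x⁻¹} => ∃ g : G, (y.1 : G) = g * x.1 * g⁻¹)) := by
  classical
  have := Fintype.ofFinite G
  rw [card_real_irr]
  have hmk : ∀ x : {x : N // IsConj x x⁻¹}, classInv (ConjClasses.mk (x.1 : G)) = ConjClasses.mk (x.1 : G) :=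
    fun x => by
      rw [classInv_mk, ConjClasses.mk_eq_mk_iff_isConj, ← Subgroup.coe_inv]
      exact (N.subtype.map_isConj x.2).symm
  refine (Nat.card_congr (Equiv.ofBijective (Quot.lift (fun x => (⟨ConjClasses.mk (x.1 : G), hmk x⟩ :
    {C : ConjClasses G // classInv C = C})) ?_) ⟨?_, ?_⟩)).symm
  · rintro x y ⟨g, hg⟩
    exact Subtype.ext (ConjClasses.mk_eq_mk_iff_isConj.mpr (isConj_iff.mpr ⟨g, hg.symm⟩))
  · intro a b
    induction a using Quot.ind with
    | mk x =>
      induction b using Quot.ind with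
      | mk y =>
        intro h
        obtain ⟨c, hc⟩ := isConj_iff.mp (ConjClasses.mk_eq_mk_iff_isConj.mp (congrArg Subtype.val h))
        exact Quot.sound ⟨c, hc.symm⟩
  · rintro ⟨C, hC⟩
    obtain ⟨x, rfl⟩ := ConjClasses.mk_surjective C
    rw [classInv_mk, ConjClasses.mk_eq_mk_iff_isConj] at hC
    obtain ⟨hxN, n, hn, hnx⟩ := real_mem N hodd hC.symm
    exact ⟨Quot.mk _ ⟨⟨x, hxN⟩, isConj_iff.mpr ⟨⟨n, hn⟩, Subtype.ext hnx⟩⟩, rfl⟩

/-- The indicator sum over a character of the normal subgroup. -/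
theorem sum_fsInd_mul_classInner (hodd : Odd N.index) [Fintype G] [Fintype N] (φ : IrrCharacter N) :
    ∑ χ : IrrCharacter G, fsInd (χ : G → ℂ) * classInner (fun n : N => (χ : G → ℂ) n) (φ : N → ℂ) =
      fsInd (φ : N → ℂ) := by
  classical
  have hres : ∀ n : N, ∑ χ : IrrCharacter G, fsInd (χ : G → ℂ) * (χ : G → ℂ) n =
      ∑ ψ : IrrCharacter N, fsInd (ψ : N → ℂ) * (ψ : N → ℂ) n := fun n => by
    rw [sum_fsInd_mul, sum_fsInd_mul]
    refine congrArg (Nat.cast : ℕ → ℂ) (Finset.card_bij' (fun s hs => (⟨s, mem_of_sq_mem N hodd (by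
      rw [(Finset.mem_filter.mp hs).2]; exact n.2)⟩ : N)) (fun t _ => (t : G)) ?_ ?_ ?_ ?_)
    · intro s hs
      exact Finset.mem_filter.mpr ⟨Finset.mem_univ _, Subtype.ext (Finset.mem_filter.mp hs).2⟩
    · intro t ht
      exact Finset.mem_filter.mpr ⟨Finset.mem_univ _, congrArg Subtype.val (Finset.mem_filter.mp ht).2⟩
    · intros; rfl
    · intros; rfl
  have e1 : ∑ χ : IrrCharacter G, fsInd (χ : G → ℂ) * classInner (fun n : N => (χ : G → ℂ) n) (φ : N → ℂ) =
      classInner (fun n : N => ∑ χ : IrrCharacter G, fsInd (χ : G → ℂ) * (χ : G → ℂ) n) (φ : N → ℂ) := by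
    simp only [classInner_def, Finset.mul_sum, Finset.sum_mul]
    rw [Finset.sum_comm]
    exact Finset.sum_congr rfl fun n _ => Finset.sum_congr rfl fun χ _ => by ring
  have e2 : classInner (fun n : N => ∑ ψ : IrrCharacter N, fsInd (ψ : N → ℂ) * (ψ : N → ℂ) n) (φ : N → ℂ) =
      ∑ ψ : IrrCharacter N, fsInd (ψ : N → ℂ) * classInner (ψ : N → ℂ) (φ : N → ℂ) := by
    simp only [classInner_def, Finset.mul_sum, Finset.sum_mul]
    rw [Finset.sum_comm]
    exact Finset.sum_congr rfl fun ψ _ => Finset.sum_congr rfl fun n _ => by ring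
  rw [e1, funext hres, e2]
  simp [classInner_irrCharacter]

/-- A real character of the normal subgroup lies under exactly one real character. -/
theorem unique_real_over (hodd : Odd N.index) [Fintype N] (φ : IrrCharacter N)
    (hφ : irrConj φ = φ) {χ χ' : IrrCharacter G} (h : irrConj χ = χ) (h' : irrConj χ' = χ')
    (hm : classInner (fun n : N => (χ : G → ℂ) n) (φ : N → ℂ) ≠ 0)
    (hm' : classInner (fun n : N => (χ' : G → ℂ) n) (φ : N → ℂ) ≠ 0) : χ = χ' := by
  classical
  have := Fintype.ofFinite G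
  -- each real character has a real constituent
  have hexR : ∀ χ : {χ : IrrCharacter G // irrConj χ = χ}, ∃ θ : IrrCharacter N, irrConj θ = θ ∧
      classInner (fun n : N => (χ.1 : G → ℂ) n) (θ : N → ℂ) ≠ 0 := fun ⟨χ, hχ⟩ => by
    obtain ⟨θ, hθ⟩ : ∃ θ : IrrCharacter N, classInner (fun n : N => (χ : G → ℂ) n) (θ : N → ℂ) ≠ 0 := by
      by_contra hcon
      push Not at hcon
      have hres := classFun_eq_sum (f := fun n : N => (χ : G → ℂ) n)
        (isClassFunction_of_isCharacter (isCharacter_res N (isCharacter_of_isIrr χ.2)))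
      have h0 := congrFun hres (1 : N)
      simp only [hcon, zero_smul, Finset.sum_const_zero, Pi.zero_apply, Subgroup.coe_one] at h0
      exact irr_one_ne_zero χ.2 h0
    have hconjmem : ∀ η ∈ orbit N θ, irrConj η ∈ orbit N θ := fun η hη => by
      obtain ⟨g, hg⟩ := (mem_orbit N).mp hη
      have h1 : classInner (fun n : N => (χ : G → ℂ) n) (η : N → ℂ) ≠ 0 := by
        rw [← hg, classInner_res_conjFun N (isClassFunction_of_isIrr χ.2)]; exact hθ
      have h2 : classInner (fun n : N => (χ : G → ℂ) n) (irrConj η : N → ℂ) ≠ 0 := by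
        have hval : ∀ n : N, conj ((χ : G → ℂ) n) = (χ : G → ℂ) n := fun n =>
          congrFun (congrArg Subtype.val hχ) (n : G)
        have e : classInner (fun n : N => (χ : G → ℂ) n) (irrConj η : N → ℂ) =
            conj (classInner (fun n : N => (χ : G → ℂ) n) (η : N → ℂ)) := by
          rw [classInner_def, classInner_def, map_mul, map_inv₀, map_natCast, map_sum]
          exact congrArg _ (Finset.sum_congr rfl fun n _ => by
            rw [map_mul, hval, irrConj_apply])
        rw [e]
        exact (map_ne_zero _).mpr h1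
      obtain ⟨g', hg'⟩ := exists_conj_of_constituents N χ.2 θ.2 (irrConj η).2 hθ h2
      exact (mem_orbit N).mpr ⟨g', hg'⟩
    obtain ⟨η, hη, hfix⟩ : ∃ η ∈ orbit N θ, irrConj η = η := by
      by_contra hcon
      push Not at hcon
      have hev : Even (orbit N θ).card := by
        rw [← ZMod.natCast_eq_zero_iff_even, Finset.card_eq_sum_ones, Nat.cast_sum]
        exact Finset.sum_involution (fun η _ => irrConj η) (fun η _ => by decide) (fun η hη _ => hcon η hη)
          hconjmem (fun η _ => irrConj_irrConj η)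
      exact Nat.not_even_iff_odd.mpr (hodd.of_dvd_nat (card_orbit_dvd_index N θ)) hev
    obtain ⟨g, hg⟩ := (mem_orbit N).mp hη
    exact ⟨η, hfix, by rw [← hg, classInner_res_conjFun N (isClassFunction_of_isIrr χ.2)]; exact hθ⟩
  choose f hf hfm using hexR
  set r := fun θ η : {θ : IrrCharacter N // ∀ k : N, ((θ : N → ℂ) k).im = 0} =>
    ∃ g : G, ∀ k k' : N, (k' : G) = g * (k : G) * g⁻¹ → (η.1 : N → ℂ) k' = (θ.1 : N → ℂ) k with hr
  let F : {χ : IrrCharacter G // irrConj χ = χ} → Quot r := fun χ =>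
    Quot.mk r ⟨f χ, (irrConj_eq_self_iff _).mp (hf χ)⟩
  have hkey : ∀ (χ : {χ : IrrCharacter G // irrConj χ = χ}) (θ : IrrCharacter N) (hθ : irrConj θ = θ),
      classInner (fun n : N => (χ.1 : G → ℂ) n) (θ : N → ℂ) ≠ 0 →
      F χ = Quot.mk r ⟨θ, (irrConj_eq_self_iff _).mp hθ⟩ := fun χ θ hθ hne => by
    obtain ⟨g, hg⟩ := exists_conj_of_constituents N χ.1.2 (f χ).2 θ.2 (hfm χ) hne
    refine Quot.sound ⟨g⁻¹, fun k k' hk => ?_⟩
    show (θ : N → ℂ) k' = (f χ : N → ℂ) k
    rw [← hg, conjFun_apply]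
    exact congrArg _ (Subtype.ext (show g * (k' : G) * g⁻¹ = (k : G) by rw [hk]; group))
  have hsurj : Function.Surjective F := fun q => by
    induction q using Quot.ind with
    | mk θ =>
      have hθr : irrConj θ.1 = θ.1 := (irrConj_eq_self_iff _).mpr θ.2
      obtain ⟨χ₀, hne⟩ : ∃ χ₀ : IrrCharacter G, fsInd (χ₀ : G → ℂ) *
          classInner (fun n : N => (χ₀ : G → ℂ) n) (θ.1 : N → ℂ) ≠ 0 := by
        by_contra hcon
        push Not at hcon
        have := sum_fsInd_mul_classInner N hodd θ.1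
        rw [Finset.sum_eq_zero fun χ _ => hcon χ] at this
        exact (fsInd_ne_zero_iff θ.1.2).mpr (fun k => congrFun (congrArg Subtype.val hθr) k) this.symm
      have hre : irrConj χ₀ = χ₀ := Subtype.ext (funext
        ((fsInd_ne_zero_iff χ₀.2).mp (left_ne_zero_of_mul hne)))
      exact ⟨⟨χ₀, hre⟩, hkey ⟨χ₀, hre⟩ θ.1 hθr (right_ne_zero_of_mul hne)⟩
  have hbij := (Nat.bijective_iff_surjective_and_card F).mpr
    ⟨hsurj, (card_real_irr_eq N hodd).trans (card_real_orbits N hodd).symm⟩
  exact congrArg Subtype.val (hbij.1 ((hkey ⟨χ, h⟩ φ hφ hm).trans (hkey ⟨χ', h'⟩ φ hφ hm').symm))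

end CfsgLib.CharBlocks.RealOddIndex
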