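import Cfsg.Agent.Lib.CharBlocks.InertiaInduced
import Cfsg.Agent.Lib.CharNormal.Kernel
import Mathlib.GroupTheory.Sylow
import Mathlib.GroupTheory.GroupAction.ConjAct
import Mathlib.GroupTheory.Solvable
import Mathlib.GroupTheory.FiniteAbelian.Duality

/-!
Groups all of whose real irreducible characters have `p'`-degree: the Sylow `p`-subgroups of the
normal subgroups of `p`-power index over the subgroup generated by the `2`-elements are normal.
-/

namespace CfsgLib.CharBlocks.RealPrime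

open Cfsg CfsgLib.Char
open scoped ComplexConjugate IsMulCommutative

/-- The subgroup generated by the elements of `r`-power order. -/
def gen (r : ℕ) (G : Type*) [Group G] : Subgroup G :=
  Subgroup.closure {g : G | ∃ k : ℕ, orderOf g = r ^ k}

instance gen_normal (r : ℕ) (G : Type*) [Group G] : (gen r G).Normal := by
  refine ⟨fun x hx g => ?_⟩
  have hle : gen r G ≤ (gen r G).comap (MulAut.conj g).toMonoidHom := by
    refine (Subgroup.closure_le _).2 fun y hy => Subgroup.subset_closure ?_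
    obtain ⟨k, hk⟩ := hy
    exact ⟨k, by rw [← hk]; exact orderOf_injective _ (MulAut.conj g).injective y⟩
  exact hle hx

theorem mem_gen {r : ℕ} {G : Type*} [Group G] [Finite G] (hr : r.Prime) {g : G}
    (hg : ∃ k, g ^ r ^ k = 1) : g ∈ gen r G := by
  obtain ⟨k, hk⟩ := hg
  obtain ⟨i, -, hi⟩ := (Nat.dvd_prime_pow hr).1 (orderOf_dvd_of_pow_eq_one hk)
  exact Subgroup.subset_closure ⟨i, hi⟩

theorem pgroup_le_gen {r : ℕ} {G : Type*} [Group G] [Finite G] (hr : r.Prime) {P : Subgroup G}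
    (hP : IsPGroup r P) : P ≤ gen r G := fun x hx => by
  obtain ⟨k, hk⟩ := hP ⟨x, hx⟩
  exact mem_gen hr ⟨k, congrArg Subtype.val hk⟩

theorem not_dvd_index_gen {r : ℕ} [hr : Fact r.Prime] (G : Type*) [Group G] [Finite G] :
    ¬ r ∣ (gen r G).index := by
  obtain ⟨S⟩ : Nonempty (Sylow r G) := inferInstance
  exact fun h => S.not_dvd_index (h.trans (Subgroup.index_dvd_of_le (pgroup_le_gen hr.out S.2)))

theorem gen_map {r : ℕ} [hr : Fact r.Prime] {G H : Type*} [Group G] [Finite G] [Group H] [Finite H]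
    (f : G →* H) (hf : Function.Surjective f) : (gen r G).map f = gen r H := by
  refine le_antisymm ?_ ((Subgroup.closure_le _).2 ?_)
  · rw [Subgroup.map_le_iff_le_comap]
    refine (Subgroup.closure_le _).2 fun y hy => mem_gen hr.out ?_
    obtain ⟨k, hk⟩ := hy
    exact ⟨k, by rw [← map_pow, ← hk, pow_orderOf_eq_one, map_one]⟩
  · intro y hy
    have hn : ((gen r G).map f).Normal := Subgroup.Normal.map inferInstance f hf
    obtain ⟨k, hk⟩ := hy
    have hidx : ¬ r ∣ ((gen r G).map f).index := fun h =>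
      not_dvd_index_gen (r := r) G (h.trans (Subgroup.index_map_dvd _ hf))
    rw [SetLike.mem_coe, ← QuotientGroup.eq_one_iff (N := (gen r G).map f), ← orderOf_eq_one_iff]
    refine Nat.eq_one_of_dvd_coprimes (((hr.out.coprime_iff_not_dvd).2 hidx).pow_left k) ?_
      (Subgroup.index_eq_card ((gen r G).map f) ▸ orderOf_dvd_natCard _)
    rw [← hk]
    exact orderOf_map_dvd (QuotientGroup.mk' ((gen r G).map f)) y

theorem card_eq_relIndex_mul {G : Type*} [Group G] {H K : Subgroup G} (h : H ≤ K) :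
    H.relIndex K * Nat.card H = Nat.card K := by
  rw [← Subgroup.relIndex_bot_left H, ← Subgroup.relIndex_bot_left K, mul_comm]
  exact Subgroup.relIndex_mul_relIndex _ _ _ bot_le h

theorem relIndex_dvd_index {G : Type*} [Group G] [Finite G] (T W : Subgroup G) (hW : W.Normal) :
    T.relIndex W ∣ T.index := by
  have e1 := card_eq_relIndex_mul (le_sup_right : W ≤ T ⊔ W)
  have e2 := card_eq_relIndex_mul (le_sup_left : T ≤ T ⊔ W)
  have e3 := card_eq_relIndex_mul (inf_le_left : W ⊓ T ≤ W)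
  have e4 := card_eq_relIndex_mul (inf_le_right : W ⊓ T ≤ T)
  rw [Subgroup.inf_relIndex_left] at e3
  rw [Subgroup.inf_relIndex_right] at e4
  rw [Subgroup.relIndex_sup_right] at e1
  have e5 : T.relIndex (T ⊔ W) * (W.relIndex T * Nat.card (W ⊓ T : Subgroup G)) =
      T.relIndex W * (W.relIndex T * Nat.card (W ⊓ T : Subgroup G)) := by
    rw [e4, e2, ← e1, ← e3, ← e4]
    ring
  have hpos : 0 < W.relIndex T * Nat.card (W ⊓ T : Subgroup G) := e4 ▸ Nat.card_pos
  rw [← Nat.eq_of_mul_eq_mul_right hpos e5]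
  exact Subgroup.relIndex_dvd_index_of_le le_sup_left

/-- A `2`-element acting as an involution on an abelian group inverts a nontrivial linear character. -/
theorem exists_inverted {G : Type*} [Group G] (M : Subgroup G) [hM : M.Normal] [Finite M]
    (hMc : ∀ a ∈ M, ∀ b ∈ M, a * b = b * a) (g : G) {m₀ : G} (hm₀ : m₀ ∈ M)
    (hne : g * m₀ * g⁻¹ ≠ m₀) (hsq : ∀ m ∈ M, g * (g * m * g⁻¹) * g⁻¹ = m) :
    ∃ μ : M →* ℂˣ, μ ≠ 1 ∧ ∀ (x : G) (hx : x ∈ M),
      μ ⟨g * x * g⁻¹, hM.conj_mem x hx g⟩ = (μ ⟨x, hx⟩)⁻¹ := by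
  let _ : CommGroup M := { (inferInstance : Group M) with
    mul_comm := fun a b => Subtype.ext (hMc _ a.2 _ b.2) }
  let c : M →* M := MonoidHom.mk' (fun y => ⟨g * y * g⁻¹, hM.conj_mem y y.2 g⟩)
    (fun a b => Subtype.ext (show g * (a * b : G) * g⁻¹ = g * a * g⁻¹ * (g * b * g⁻¹) by group))
  have hc : c ⟨m₀, hm₀⟩ / ⟨m₀, hm₀⟩ ≠ 1 := fun e =>
    hne (congrArg Subtype.val (div_eq_one.1 e))
  obtain ⟨f, hf⟩ := CommGroup.exists_apply_ne_one_of_hasEnoughRootsOfUnity M ℂ hc
  refine ⟨f.comp c / f, fun e => hf ?_, fun x hx => ?_⟩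
  · rw [map_div]
    exact congrArg (fun h : M →* ℂˣ => h ⟨m₀, hm₀⟩) e
  · simp only [MonoidHom.div_apply, MonoidHom.comp_apply, inv_div]
    exact congrArg (fun z => f z / _) (Subtype.ext (hsq x hx) : c ⟨g * x * g⁻¹, hM.conj_mem x hx g⟩ = ⟨x, hx⟩)

/-- The complemented case: a nontrivial inverted character gives a bad real character. -/
theorem complement_case {G : Type*} [Group G] [Fintype G] {p : ℕ} [hp : Fact p.Prime]
    (hreal : ∀ χ : IrrCharacter G, (∀ g : G, ((χ : G → ℂ) g).im = 0) → ¬ p ∣ charDegree (χ : G → ℂ))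
    (M N Q : Subgroup G) [M.Normal] (hW : (M ⊔ Q).Normal)
    (hMc : ∀ a ∈ M, ∀ b ∈ M, a * b = b * a) (hMN : M ⊓ N = ⊥) (hsup : M ⊔ N = ⊤)
    (hQ : IsPGroup p Q) (hcop : ¬ p ∣ Nat.card M) (hQN : ∀ q ∈ Q, ∀ m ∈ M, q * m * q⁻¹ ∈ M)
    (hfix : ∀ m ∈ M, (∀ q ∈ Q, q * m = m * q) → m = 1)
    (μ : M →* ℂˣ) (hμ : μ ≠ 1) (u : G) (huN : u ∈ N)
    (hinv : ∀ (x : G) (hx : x ∈ M),
      μ ⟨u * x * u⁻¹, ‹M.Normal›.conj_mem x hx u⟩ = (μ ⟨x, hx⟩)⁻¹) : False := by
  classical
  have := Fintype.ofFinite M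
  have := Fintype.ofFinite Q
  let _ : CommGroup M := { (inferInstance : Group M) with
    mul_comm := fun a b => Subtype.ext (hMc _ a.2 _ b.2) }
  set l : M → ℂ := fun n => (μ n : ℂ) with hldef
  let T := CharNormal.inertia M l
  have := Fintype.ofFinite T
  have hMT : M ≤ T := CharNormal.le_inertia M (isClassFunction_of_isIrr (isIrrCharacter_units_hom μ))
  have hTfix : ∀ t ∈ T, ∀ (x : G) (hx : x ∈ M), μ ⟨t * x * t⁻¹, ‹M.Normal›.conj_mem x hx t⟩ = μ ⟨x, hx⟩ :=
    fun t ht x hx => Units.ext (congrFun ((CharNormal.mem_inertia M).1 ht) ⟨x, hx⟩)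
  have hdec : ∀ t : G, ∃ m : M, ∃ n ∈ N, t = (m : G) * n := fun t => by
    obtain ⟨m, hm, n, hn, e⟩ := Subgroup.mem_sup_of_normal_left.1 (hsup ▸ Subgroup.mem_top t : t ∈ M ⊔ N)
    exact ⟨⟨m, hm⟩, n, hn, e.symm⟩
  choose pr prN hprN hpr using hdec
  have huniq : ∀ (t : G) (m : M) (n : G), n ∈ N → t = (m : G) * n → pr t = m := by
    intro t m n hn e
    have h1 : (m : G) * n = (pr t : G) * prN t := e.symm.trans (hpr t)
    have h2 : (pr t : G)⁻¹ * m = prN t * n⁻¹ := by
      rw [← inv_mul_eq_iff_eq_mul.2 h1.symm]; group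
    have h3 : (pr t : G)⁻¹ * m ∈ M ⊓ N :=
      ⟨M.mul_mem (M.inv_mem (pr t).2) m.2, h2 ▸ N.mul_mem (hprN t) (N.inv_mem hn)⟩
    rw [hMN, Subgroup.mem_bot, inv_mul_eq_one] at h3
    exact Subtype.ext h3
  have hf0 : ∀ a ∈ T, ∀ b ∈ T, μ (pr (a * b)) = μ (pr a) * μ (pr b) := by
    intro a ha b _
    have e : pr (a * b) = pr a * ⟨prN a * pr b * (prN a)⁻¹, ‹M.Normal›.conj_mem _ (pr b).2 _⟩ := by
      refine huniq _ _ (prN a * prN b) (N.mul_mem (hprN a) (hprN b)) ?_
      conv_lhs => rw [hpr a, hpr b]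
      rw [Subgroup.coe_mul]
      group
    have hna : prN a ∈ T := by
      have : prN a = (pr a : G)⁻¹ * a := by rw [eq_inv_mul_iff_mul_eq, ← hpr]
      rw [this]
      exact T.mul_mem (T.inv_mem (hMT (pr a).2)) ha
    rw [e, map_mul, hTfix _ hna _ (pr b).2]
  let f : T →* ℂˣ := MonoidHom.mk' (fun t => μ (pr t)) (fun a b => hf0 _ a.2 _ b.2)
  have hfM : ∀ m : M, f ⟨m, hMT m.2⟩ = μ m := fun m =>
    congrArg μ (huniq _ m 1 N.one_mem (mul_one _).symm)
  obtain ⟨hirr, -⟩ := InertiaInd.isIrr_indFun M T hMT μ rfl f hfM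
  -- reality
  have hgT : ∀ t ∈ T, u * t * u⁻¹ ∈ T := by
    intro t ht
    refine (CharNormal.mem_inertia M).2 (funext fun x => ?_)
    have h1 : u⁻¹ * (x : G) * u ∈ M := by simpa using ‹M.Normal›.conj_mem _ x.2 u⁻¹
    have h2 : t * (u⁻¹ * x * u) * t⁻¹ ∈ M := ‹M.Normal›.conj_mem _ h1 t
    simp only [CharNormal.conjFun_apply, hldef]
    congr 1
    rw [show (⟨u * t * u⁻¹ * x * (u * t * u⁻¹)⁻¹, ‹M.Normal›.conj_mem x x.2 _⟩ : M) =
        ⟨u * (t * (u⁻¹ * x * u) * t⁻¹) * u⁻¹, ‹M.Normal›.conj_mem _ h2 u⟩ from Subtype.ext (by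
          show u * t * u⁻¹ * x * (u * t * u⁻¹)⁻¹ = u * (t * (u⁻¹ * x * u) * t⁻¹) * u⁻¹
          group), hinv _ h2, hTfix t ht _ h1, ← hinv _ h1]
    exact congrArg μ (Subtype.ext (show u * (u⁻¹ * (x : G) * u) * u⁻¹ = x by group))
  have hgf : ∀ t (ht : t ∈ T), f ⟨u * t * u⁻¹, hgT t ht⟩ = (f ⟨t, ht⟩)⁻¹ := by
    intro t ht
    show μ (pr (u * t * u⁻¹)) = (μ (pr t))⁻¹
    have e : pr (u * t * u⁻¹) = ⟨u * pr t * u⁻¹, ‹M.Normal›.conj_mem _ (pr t).2 u⟩ := by
      refine huniq _ _ (u * prN t * u⁻¹) (N.mul_mem (N.mul_mem huN (hprN t)) (N.inv_mem huN)) ?_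
      conv_lhs => rw [hpr t]
      show u * ((pr t : G) * prN t) * u⁻¹ = u * pr t * u⁻¹ * (u * prN t * u⁻¹)
      group
    rw [e, hinv _ (pr t).2]
  have hgT' : ∀ t, u * t * u⁻¹ ∈ T → t ∈ T := by
    intro t ht
    have hsurj := Finite.injective_iff_surjective.1
      (show Function.Injective (fun z : T => (⟨u * z * u⁻¹, hgT z z.2⟩ : T)) from fun a b e =>
        Subtype.ext (by simpa using congrArg Subtype.val e))
    obtain ⟨z, hz⟩ := hsurj ⟨_, ht⟩
    have : (z : G) = t := by simpa using congrArg Subtype.val hz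
    exact this ▸ z.2
  let nu : T → ℂ := fun t => (f t : ℂ)
  have hreal' : ∀ y, conj (Cfsg.indFun T nu y) = Cfsg.indFun T nu y := by
    intro y
    simp only [indFun_apply, map_mul, map_inv₀, map_natCast, map_sum]
    congr 1
    refine Fintype.sum_equiv (Equiv.mulRight u⁻¹) _ _ fun x => ?_
    rw [Equiv.coe_mulRight, show (x * u⁻¹)⁻¹ * y * (x * u⁻¹) = u * (x⁻¹ * y * x) * u⁻¹ by group]
    by_cases hx : x⁻¹ * y * x ∈ T
    · rw [extendByZero_of_mem nu hx, extendByZero_of_mem nu (hgT _ hx)]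
      simp only [nu, hgf _ hx, ← map_inv]
      exact (char_inv (isCharacter_of_isIrr (isIrrCharacter_units_hom f)) _).symm
    · rw [extendByZero_of_notMem nu hx, extendByZero_of_notMem nu (fun h => hx (hgT' _ h)), map_zero]
  have hd := hreal ⟨_, hirr⟩ (fun y => Complex.conj_eq_iff_im.1 (hreal' y))
  have hdeg : charDegree (Cfsg.indFun T nu) = T.index := charDegree_eq (by simp [indFun_one, nu])
  rw [show charDegree ((⟨_, hirr⟩ : IrrCharacter G) : G → ℂ) = T.index from hdeg] at hd
  -- the Sylow subgroup lies in the inertia group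
  have hQT : Q ≤ T := by
    have h1 : T.relIndex (M ⊔ Q) ∣ T.index := by
      exact relIndex_dvd_index T (M ⊔ Q) hW
    have h2 : T.relIndex (M ⊔ Q) ∣ M.relIndex (M ⊔ Q) := Subgroup.relIndex_dvd_of_le_left _ hMT
    rw [Subgroup.relIndex_sup_left] at h2
    obtain ⟨k, hk⟩ := IsPGroup.iff_card.1 hQ
    have h3 : M.relIndex Q ∣ p ^ k := hk ▸ Subgroup.relIndex_dvd_card _ _
    have h4 : T.relIndex (M ⊔ Q) = 1 := Nat.eq_one_of_dvd_coprimes
      ((hp.out.coprime_iff_not_dvd.2 hd).pow_left k) (h2.trans h3) h1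
    exact le_sup_right.trans (Subgroup.relIndex_eq_one.1 h4)
  apply hμ
  refine MonoidHom.ext fun m => ?_
  let c : Q → M := fun q => ⟨(q : G) * m * (q : G)⁻¹, hQN q q.2 m m.2⟩
  have hprod : (∏ q : Q, c q) = 1 := by
    refine Subtype.ext (hfix _ (Subtype.coe_prop _) fun q hq => ?_)
    let cq : M →* M := MonoidHom.mk' (fun y => ⟨q * y * q⁻¹, hQN q hq y y.2⟩)
      (fun a b => Subtype.ext (show q * (a * b : G) * q⁻¹ = q * a * q⁻¹ * (q * b * q⁻¹) by group))
    have e : cq (∏ r : Q, c r) = ∏ r : Q, c r := by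
      rw [map_prod]
      exact Fintype.prod_equiv (Equiv.mulLeft (⟨q, hq⟩ : Q)) _ _ fun r => Subtype.ext
        (show q * ((r : G) * m * (r : G)⁻¹) * q⁻¹ = (q * (r : G)) * m * (q * (r : G))⁻¹ by group)
    have e' := congrArg Subtype.val e
    exact mul_inv_eq_iff_eq_mul.1 e'
  have h1 := congrArg μ hprod
  rw [map_prod, map_one, Finset.prod_congr rfl fun (q : Q) _ => show μ (c q) = μ m from hTfix q (hQT q.2) m m.2, Finset.prod_const,
    Finset.card_univ, ← Nat.card_eq_fintype_card] at h1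
  obtain ⟨k, hk⟩ := IsPGroup.iff_card.1 hQ
  rw [hk] at h1
  have hc : Nat.Coprime (p ^ k) (Nat.card M) := (hp.out.coprime_iff_not_dvd.2 hcop).pow_left k
  have h2 : μ m ^ Nat.card M = 1 := by rw [← map_pow, pow_card_eq_one', map_one]
  have h3 := (pow_gcd_eq_one (a := μ m) (m := p ^ k) (n := Nat.card M)).2 ⟨h1, h2⟩
  rwa [hc, pow_one] at h3

universe v

/-- The main result. -/
theorem sylow_normal (p : ℕ) [hp : Fact p.Prime] (n : ℕ) :
    ∀ (G : Type v) [Group G] [Finite G], Nat.card G = n → Group.IsSolvable (gen p G) →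
      (∀ χ : IrrCharacter G, (∀ g : G, ((χ : G → ℂ) g).im = 0) → ¬ p ∣ charDegree (χ : G → ℂ)) →
      ∀ U : Subgroup G, U.Normal → gen 2 G ≤ U → (∃ a, (gen 2 G).relIndex U = p ^ a) →
      ∀ Q : Sylow p U, (Q : Subgroup U).Normal := by
  classical
  induction n using Nat.strong_induction_on with
  | _ n ih =>
    intro G _ _ hn hsolv hreal U hU hKU hUp Q
    have := Fintype.ofFinite G
    haveI : Fact (Nat.Prime 2) := ⟨Nat.prime_two⟩
    set K := gen 2 G with hKdef
    set L := gen p G with hLdef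
    set Qg : Subgroup G := (Q : Subgroup U).map U.subtype with hQgdef
    have hQgp : IsPGroup p Qg := Q.2.map _
    have hQgU : Qg ≤ U := Subgroup.map_subtype_le _
    have hQgL : Qg ≤ L := pgroup_le_gen hp.out hQgp
    have hQidx : ¬ p ∣ Qg.relIndex U := by
      have h : (Qg.subgroupOf U) = (Q : Subgroup U) := by
        rw [hQgdef, Subgroup.subgroupOf, Subgroup.comap_map_eq_self_of_injective U.subtype_injective]
      rw [Subgroup.relIndex, h]
      exact Q.not_dvd_index
    suffices hgoal : ∀ u ∈ U, ∀ q ∈ Qg, u * q * u⁻¹ ∈ Qg by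
      refine ⟨fun q hq u => ?_⟩
      obtain ⟨q', hq', e⟩ := hgoal u u.2 q ⟨q, hq, rfl⟩
      have : q' = u * q * u⁻¹ := Subtype.ext e
      exact this ▸ hq'
    by_cases hKL : K ⊓ L = ⊥
    · have hcomm : ∀ k ∈ K, ∀ l ∈ L, k * l = l * k := by
        intro k hk l hl
        exact Subgroup.commute_of_normal_of_disjoint _ _ inferInstance inferInstance (disjoint_iff.2 hKL) k l hk hl
      have hnorm : U ≤ Subgroup.normalizer (Qg : Set G) := by
        have h1 : K ⊔ Qg ≤ Subgroup.normalizer (Qg : Set G) := by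
          refine sup_le (fun k hk => ?_) Subgroup.le_normalizer
          rw [Subgroup.mem_normalizer_iff]
          intro q
          constructor
          · intro hq
            rwa [hcomm k hk q (hQgL hq), mul_inv_cancel_right]
          · intro hq
            have h3 := hcomm k hk _ (hQgL hq)
            have h4 : k * q * k⁻¹ = q := by
              calc k * q * k⁻¹ = k⁻¹ * (k * (k * q * k⁻¹)) := by group
                _ = k⁻¹ * ((k * q * k⁻¹) * k) := by rw [h3]
                _ = q := by group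
            rwa [h4] at hq
        refine le_trans ?_ h1
        obtain ⟨a, ha⟩ := hUp
        refine Subgroup.relIndex_eq_one.1 (Nat.eq_one_of_dvd_coprimes
          ((hp.out.coprime_iff_not_dvd.2 hQidx).pow_left a)
          (ha ▸ Subgroup.relIndex_dvd_of_le_left U le_sup_left) (Subgroup.relIndex_dvd_of_le_left U le_sup_right))
      exact fun u hu q hq => (Subgroup.mem_normalizer_iff.1 (hnorm hu) q).1 hq
    obtain ⟨M, ⟨hMn, hMne, hMKL⟩, hmin⟩ : ∃ M : Subgroup G, (M.Normal ∧ M ≠ ⊥ ∧ M ≤ K ⊓ L) ∧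
        ∀ M' : Subgroup G, M'.Normal → M' ≤ M → M' ≠ ⊥ → M' = M := by
      have hex : ∃ c : ℕ, ∃ M : Subgroup G, (M.Normal ∧ M ≠ ⊥ ∧ M ≤ K ⊓ L) ∧ Nat.card M = c :=
        ⟨_, K ⊓ L, ⟨inferInstance, hKL, le_rfl⟩, rfl⟩
      obtain ⟨M, hM, hc⟩ := Nat.find_spec hex
      refine ⟨M, hM, fun M' h1 h2 h3 => Subgroup.eq_of_le_of_card_ge h2 ?_⟩
      rw [hc]
      exact Nat.find_min' hex ⟨M', ⟨h1, h3, h2.trans hM.2.2⟩, rfl⟩
    have hMK : M ≤ K := hMKL.trans inf_le_left
    have hMU : M ≤ U := hMK.trans hKU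
    have hMc : ∀ a ∈ M, ∀ b ∈ M, a * b = b * a := by
      have hMs : Group.IsSolvable M :=
        solvable_of_solvable_injective (Subgroup.inclusion_injective (hMKL.trans inf_le_right))
      have hd : (⁅M, M⁆ : Subgroup G).Normal := Subgroup.commutator_normal M M
      by_cases hb : ⁅M, M⁆ = ⊥
      · intro a ha b hb'
        exact (commutatorElement_eq_one_iff_mul_comm).1
          (Subgroup.mem_bot.1 (hb ▸ Subgroup.commutator_mem_commutator ha hb'))
      · exfalso
        have : Nontrivial M := (Subgroup.nontrivial_iff_ne_bot M).2 hMne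
        have he := hmin _ hd (Subgroup.commutator_le_self M) hb
        have : commutator ↥M = ⊤ := by
          apply Subgroup.map_injective M.subtype_injective
          rw [map_commutator_eq, Subgroup.range_subtype, ← MonoidHom.range_eq_map, Subgroup.range_subtype]
          exact he
        exact (Group.IsSolvable.commutator_lt_top_of_nontrivial ↥M).ne this
    -- the quotient
    let π := QuotientGroup.mk' M
    have hπ : Function.Surjective π := QuotientGroup.mk'_surjective M
    have hlt : Nat.card (G ⧸ M) < n := by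
      rw [← hn, Subgroup.card_eq_card_quotient_mul_card_subgroup M]
      exact lt_mul_of_one_lt_right Nat.card_pos ((Subgroup.one_lt_card_iff_ne_bot M).2 hMne)
    have hU' : (U.map π).Normal := hU.map π hπ
    let e : U →* U.map π := π.subgroupMap U
    let Qb : Sylow p (U.map π) := Q.mapSurjective (π.subgroupMap_surjective U)
    have hih := ih _ hlt (G ⧸ M) rfl
      (by rw [← gen_map π hπ]; exact solvable_of_surjective (π.subgroupMap_surjective (gen p G)))
      (fun χ hχ => hreal (CharNormal.inflEquiv M χ).1 (fun g => hχ (g : G ⧸ M)))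
      (U.map π) hU' (by rw [← gen_map π hπ]; exact Subgroup.map_mono hKU)
      (by
        obtain ⟨a, ha⟩ := hUp
        have h1 : (gen 2 (G ⧸ M)).relIndex (U.map π) ∣ p ^ a := by
          rw [← gen_map π hπ, Subgroup.relIndex_map_map, ← ha, QuotientGroup.ker_mk',
            sup_of_le_left hMU, sup_of_le_left hMK]
        obtain ⟨i, -, hi⟩ := (Nat.dvd_prime_pow hp.out).1 h1
        exact ⟨i, hi⟩) Qb
    have hchar : (Qb : Subgroup (U.map π)).Characteristic := Qb.characteristic_of_normal hih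
    have hQbn : ((Qb : Subgroup (U.map π)).map (U.map π).subtype).Normal :=
      ConjAct.normal_of_characteristic_of_normal
    have hmapQ : (Qb : Subgroup (U.map π)).map (U.map π).subtype = Qg.map π := by
      rw [Sylow.coe_mapSurjective, hQgdef, Subgroup.map_map, Subgroup.map_map]
      rfl
    rw [hmapQ] at hQbn
    have hWn : (M ⊔ Qg).Normal := by
      have := hQbn.comap π
      rwa [Subgroup.comap_map_eq, QuotientGroup.ker_mk', sup_comm] at this
    by_cases hpM : p ∣ Nat.card M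
    · -- `M` is a `p`-group
      let O : Subgroup G := (Qg ⊓ M)
      have hnorm : Qg.Normal := by
        have hM' : IsPGroup p M := by
          let _ : CommGroup M := { (inferInstance : Group M) with
            mul_comm := fun a b => Subtype.ext (hMc _ a.2 _ b.2) }
          obtain ⟨R⟩ : Nonempty (Sylow p M) := inferInstance
          have hR : (R : Subgroup M).Normal := ⟨fun x hx g => by rwa [mul_comm g, mul_inv_cancel_right]⟩
          have hRc := R.characteristic_of_normal hR
          have h1 : ((R : Subgroup M).map M.subtype).Normal := ConjAct.normal_of_characteristic_of_normal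
          have h2 := hmin _ h1 (Subgroup.map_subtype_le _) (by
            rw [Ne, Subgroup.map_eq_bot_iff_of_injective _ M.subtype_injective]
            exact R.ne_bot_of_dvd_card hpM)
          exact h2 ▸ R.2.map _
        have hMU' : (M.subgroupOf U) ≤ (Q : Subgroup U) :=
          (hM'.of_injective (Subgroup.subgroupOfEquivOfLe hMU).toMonoidHom (MulEquiv.injective _)).le_sylow_of_normal Q
        have hMQ : M ≤ Qg := fun m hm => ⟨⟨m, hMU hm⟩, hMU' (Subgroup.mem_subgroupOf.2 hm), rfl⟩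
        rwa [sup_of_le_right hMQ] at hWn
      exact fun u _ q hq => hnorm.conj_mem q hq u
    -- coprime case
    set W := M ⊔ Qg with hWdef
    have := hWn
    have hQW : Qg ≤ W := le_sup_right
    have hWidx : ¬ p ∣ (Qg.subgroupOf W).index := by
      intro h
      apply hpM
      refine h.trans ?_
      have h1 : Qg.relIndex W * Nat.card Qg = Nat.card W := by
        rw [← Subgroup.relIndex_bot_left Qg, ← Subgroup.relIndex_bot_left W, mul_comm]
        exact Subgroup.relIndex_mul_relIndex _ _ _ bot_le hQW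
      have h2 : M.relIndex W * Nat.card M = Nat.card W := by
        rw [← Subgroup.relIndex_bot_left M, ← Subgroup.relIndex_bot_left W, mul_comm]
        exact Subgroup.relIndex_mul_relIndex _ _ _ bot_le le_sup_left
      have h3 : M.relIndex W ∣ Nat.card Qg := by
        rw [hWdef, Subgroup.relIndex_sup_left]; exact Subgroup.relIndex_dvd_card _ _
      rw [← h1] at h2
      obtain ⟨c, hc⟩ := h3
      rw [hc] at h2
      refine ⟨c, Nat.eq_of_mul_eq_mul_left (Nat.pos_of_ne_zero fun e => ?_)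
        (show M.relIndex W * Nat.card M = M.relIndex W * (Qg.relIndex W * c) by rw [h2]; ring)⟩
      rw [e, zero_mul] at hc
      exact Nat.card_pos.ne' hc
    let QW : Sylow p W :=
      (hQgp.of_injective (Subgroup.subgroupOfEquivOfLe hQW).toMonoidHom (MulEquiv.injective _)).toSylow hWidx
    set N : Subgroup G := Subgroup.normalizer (Qg : Set G) with hNdef
    have hfrat : N ⊔ W = ⊤ := by
      have h := Sylow.normalizer_sup_eq_top QW
      rwa [show ((QW : Subgroup W).map W.subtype) = Qg by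
        rw [IsPGroup.toSylow_coe, Subgroup.subgroupOf_map_subtype, inf_of_le_left hQW]] at h
    have hsup : M ⊔ N = ⊤ := by
      refine top_le_iff.1 (hfrat.symm.le.trans (sup_le le_sup_right (sup_le le_sup_left ?_)))
      exact Subgroup.le_normalizer.trans le_sup_right
    have hQN : ∀ q ∈ Qg, ∀ m ∈ M, q * m * q⁻¹ ∈ M := fun q _ m hm => hMn.conj_mem m hm q
    by_cases hfix : ∀ m ∈ M, (∀ q ∈ Qg, q * m = m * q) → m = 1
    swap
    · -- `Qg` centralises `M`
      have hC : (M ⊓ Subgroup.centralizer (Qg : Set G)).Normal := by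
        refine ⟨fun c hc g => ?_⟩
        obtain ⟨m, hm, v, hv, rfl⟩ := Subgroup.mem_sup_of_normal_left.1 (hsup ▸ Subgroup.mem_top g : g ∈ M ⊔ N)
        have h1 : v * c * v⁻¹ ∈ M := hMn.conj_mem c hc.1 v
        have h2 : v * c * v⁻¹ ∈ Subgroup.centralizer (Qg : Set G) := Subgroup.mem_centralizer_iff.2 fun q hq => by
          have h3 : v⁻¹ * q * v ∈ Qg := by
            have := (Subgroup.mem_normalizer_iff.1 (N.inv_mem hv) q).1 hq
            simpa using this
          have h4 := Subgroup.mem_centralizer_iff.1 hc.2 _ h3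
          calc q * (v * c * v⁻¹) = v * ((v⁻¹ * q * v) * c) * v⁻¹ := by group
            _ = v * (c * (v⁻¹ * q * v)) * v⁻¹ := by rw [h4]
            _ = v * c * v⁻¹ * q := by group
        rw [show m * v * c * (m * v)⁻¹ = m * (v * c * v⁻¹) * m⁻¹ by group, hMc m hm _ h1, mul_inv_cancel_right]
        exact ⟨h1, h2⟩
      push Not at hfix
      obtain ⟨m, hm, hmc, hm1⟩ := hfix
      have hall := hmin _ hC inf_le_left (fun e => hm1 (Subgroup.mem_bot.1
        (e ▸ (⟨hm, Subgroup.mem_centralizer_iff.2 hmc⟩ : m ∈ M ⊓ Subgroup.centralizer (Qg : Set G)))))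
      have hMN : M ≤ N := fun m' hm' => by
        rw [← hall] at hm'
        rw [hNdef, Subgroup.mem_normalizer_iff]
        intro q
        constructor
        · intro hq
          rwa [← Subgroup.mem_centralizer_iff.1 hm'.2 q hq, mul_inv_cancel_right]
        · intro hq
          have h3 := Subgroup.mem_centralizer_iff.1 hm'.2 _ hq
          have h4 : m' * q * m'⁻¹ = q := by
            calc m' * q * m'⁻¹ = m'⁻¹ * (m' * (m' * q * m'⁻¹)) := by group
              _ = m'⁻¹ * ((m' * q * m'⁻¹) * m') := by rw [h3]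
              _ = q := by group
          rwa [h4] at hq
      rw [sup_of_le_right hMN] at hsup
      intro u _ q hq
      exact (Subgroup.mem_normalizer_iff.1 (show u ∈ N from hsup ▸ Subgroup.mem_top u) q).1 hq
    exfalso
    have hMN : M ⊓ N = ⊥ := by
      rw [eq_bot_iff]
      rintro m ⟨hm, hmN⟩
      refine Subgroup.mem_bot.2 (hfix m hm fun q hq => ?_)
      have h1 : q⁻¹ * (m * q * m⁻¹) ∈ M ⊓ Qg := ⟨by
          rw [show q⁻¹ * (m * q * m⁻¹) = q⁻¹ * m * q * m⁻¹ by group]
          exact M.mul_mem (by simpa using hMn.conj_mem m hm q⁻¹) (M.inv_mem hm),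
        Qg.mul_mem (Qg.inv_mem hq) ((Subgroup.mem_normalizer_iff.1 hmN q).1 hq)⟩
      obtain ⟨k, hk⟩ := IsPGroup.iff_card.1 hQgp
      rw [disjoint_iff.1 (Subgroup.disjoint_of_coprime_natCard (H := M) (K := Qg)
        (hk ▸ ((hp.out.coprime_iff_not_dvd.2 hpM).pow_left k).symm)), Subgroup.mem_bot, inv_mul_eq_one] at h1
      exact (eq_mul_inv_iff_mul_eq.1 h1).trans rfl
    obtain ⟨μ, hμ, u, huN, hinv⟩ : ∃ μ : M →* ℂˣ, μ ≠ 1 ∧ ∃ u ∈ N, ∀ (x : G) (hx : x ∈ M),
        μ ⟨u * x * u⁻¹, hMn.conj_mem x hx u⟩ = (μ ⟨x, hx⟩)⁻¹ := by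
      let _ : CommGroup M := { (inferInstance : Group M) with
        mul_comm := fun a b => Subtype.ext (hMc _ a.2 _ b.2) }
      by_cases h2 : 2 ∣ Nat.card M
      · obtain ⟨φ⟩ := CommGroup.monoidHom_mulEquiv_of_hasEnoughRootsOfUnity M ℂ
        obtain ⟨z, hz⟩ := exists_prime_orderOf_dvd_card' (G := M) 2 h2
        refine ⟨φ.symm z, fun e => ?_, 1, N.one_mem, fun x hx => ?_⟩
        · have := φ.symm.injective (e.trans (map_one φ.symm).symm)
          simp [this] at hz
        · have h3 := congrArg (fun h : M →* ℂˣ => h ⟨x, hx⟩)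
            ((map_pow φ.symm z 2).symm.trans (by rw [← hz, pow_orderOf_eq_one, map_one]))
          simp only [MonoidHom.pow_apply, MonoidHom.one_apply, pow_two] at h3
          rw [eq_inv_iff_mul_eq_one]
          simpa using h3
      have hmove : ∃ v ∈ N, (∃ k, v ^ 2 ^ k = 1) ∧ ∃ m ∈ M, v * m * v⁻¹ ≠ m := by
        by_contra hc
        push Not at hc
        apply hMne
        rw [eq_bot_iff, ← hMN]
        refine le_inf le_rfl (hMK.trans ((Subgroup.closure_le _).2 ?_))
        intro t ht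
        obtain ⟨k, hk⟩ := ht
        obtain ⟨m, hm, v, hv, e⟩ := Subgroup.mem_sup_of_normal_left.1 (hsup ▸ Subgroup.mem_top t : t ∈ M ⊔ N)
        have ht1 : t ^ 2 ^ k = 1 := by rw [← hk, pow_orderOf_eq_one]
        have hv1 : v ^ 2 ^ k = 1 := by
          have h3 : π v ^ 2 ^ k = 1 := by
            have h4 : π t = π v := by
              rw [← e, map_mul, show π m = 1 from (QuotientGroup.eq_one_iff m).2 hm, one_mul]
            rw [← h4, ← map_pow, ht1, map_one]
          rw [← map_pow] at h3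
          exact Subgroup.mem_bot.1 (hMN ▸ (⟨(QuotientGroup.eq_one_iff _).1 h3, N.pow_mem hv _⟩ : v ^ 2 ^ k ∈ M ⊓ N))
        have hcm : Commute m v := (mul_inv_eq_iff_eq_mul.1 (hc v hv ⟨k, hv1⟩ m hm)).symm
        rw [← e, hcm.mul_pow, hv1, mul_one] at ht1
        have hm1 : m = 1 := orderOf_eq_one_iff.1 (Nat.eq_one_of_dvd_coprimes
          (((Nat.prime_two.coprime_iff_not_dvd).2 h2).pow_left k) (orderOf_dvd_of_pow_eq_one ht1)
          (Subgroup.orderOf_dvd_natCard M hm))
        rw [SetLike.mem_coe, ← e, hm1, one_mul]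
        exact hv
      obtain ⟨v, hv, ⟨k, hvk⟩, hvm⟩ := hmove
      have hex : ∃ i, ∀ m ∈ M, v ^ 2 ^ i * m * (v ^ 2 ^ i)⁻¹ = m := ⟨k, fun m _ => by simp [hvk]⟩
      rcases hi : Nat.find hex with _ | j
      · exfalso
        obtain ⟨m, hm, hne⟩ := hvm
        have := Nat.find_spec hex m hm
        rw [hi, pow_zero, pow_one] at this
        exact hne this
      have hspec := Nat.find_spec hex
      rw [hi, pow_succ, pow_mul, pow_two] at hspec
      have hnot := Nat.find_min hex (m := j) (by omega)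
      push Not at hnot
      obtain ⟨m₀, hm₀, hne⟩ := hnot
      obtain ⟨μ, hμ, hinv⟩ := exists_inverted M hMc (v ^ 2 ^ j) hm₀ hne (fun m hm => by
        have := hspec m hm
        rw [mul_inv_rev] at this
        simpa [mul_assoc] using this)
      exact ⟨μ, hμ, _, N.pow_mem hv _, hinv⟩
    exact complement_case hreal M N Qg hWn hMc hMN hsup hQgp hpM hQN hfix μ hμ u huN hinv

end CfsgLib.CharBlocks.RealPrime
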