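import Cfsg.Agent.Lib.CharBlocks.RelGlaubermanCore
import Cfsg.Agent.Lib.Char.EqualCentralizers
import Cfsg.Agent.Lib.OddChar.Inertia

/-!
# The Glauberman correspondence relative to a normal Sylow subgroup

* `exists_inv_constituent`: an invariant character of a group has an invariant constituent on a normal
  invariant subgroup of index prime to `p`;
* `exists_clifford_down`, `exists_clifford_up`: the Clifford correspondence with the characterisation
  of the inertial constituent;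
* `correspondence`: the bijection between invariant characters of `K` and of `C`;
* `degree_congr`.
-/

set_option autoImplicit false

noncomputable section

namespace CfsgLib.CharBlocks.RelGlauberman

open Cfsg CfsgLib.Char CfsgLib.CharNormal

universe u v

section Generic

variable {H : Type*} [Group H] [Fintype H] {S : Type*} [Group S] {p : ℕ} [hp : Fact p.Prime]

/-- An invariant character has an invariant constituent. -/
theorem exists_inv_constituent (hS : IsPGroup p S) (ψ : S →* MulAut H) (N : Subgroup H) [N.Normal]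
    [Fintype N] (hstab : ∀ s, ∀ n ∈ N, ψ s n ∈ N) (hidx : ¬ p ∣ N.index) {χ : Cfsg.IrrCharacter H}
    (hχ : IsInvariant ψ χ) :
    ∃ θ : Cfsg.IrrCharacter N, classInner (fun n : N => (χ : H → ℂ) n) (θ : N → ℂ) ≠ 0 ∧
      ∀ (s : S) (n n' : N), (n' : H) = ψ s n → (θ : N → ℂ) n' = (θ : N → ℂ) n := by
  classical
  let φN := restrAut ψ N hstab
  let _ : MulAction S (Cfsg.IrrCharacter N) := irrAction φN
  have hval : ∀ (s : S) (θ : Cfsg.IrrCharacter N),
      ((s • θ : Cfsg.IrrCharacter N) : N → ℂ) = (θ : N → ℂ) ∘ (φN s⁻¹ : N ≃* N) := fun _ _ => rfl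
  have hkeep : ∀ (s : S) (θ : Cfsg.IrrCharacter N),
      classInner (fun n : N => (χ : H → ℂ) n) ((s • θ : Cfsg.IrrCharacter N) : N → ℂ) =
        classInner (fun n : N => (χ : H → ℂ) n) (θ : N → ℂ) := by
    intro s θ
    rw [hval]
    conv_lhs => rw [show (fun n : N => (χ : H → ℂ) n) =
      (fun n : N => (χ : H → ℂ) n) ∘ (φN s⁻¹ : N ≃* N) from funext fun n => (hχ s⁻¹ n).symm]
    exact classInner_comp_mulEquiv (φN s⁻¹ : N ≃* N) _ _
  obtain ⟨θ₀, hθ₀, h0⟩ := exists_constituent (isCharacter_res N (isCharacter_of_isIrr χ.2))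
    (fun h => irr_one_ne_zero χ.2 (congrFun h 1))
  let X := {θ : Cfsg.IrrCharacter N // classInner (fun n : N => (χ : H → ℂ) n) (θ : N → ℂ) ≠ 0}
  let _ : MulAction S X :=
    { smul := fun s θ => ⟨s • θ.1, by rw [hkeep]; exact θ.2⟩
      one_smul := fun θ => Subtype.ext (one_smul S θ.1)
      mul_smul := fun s t θ => Subtype.ext (mul_smul s t θ.1) }
  have hcard : Nat.card X = (orbit N ⟨θ₀, hθ₀⟩).card := by
    rw [← Nat.card_eq_finsetCard]
    refine Nat.card_congr (Equiv.subtypeEquivRight fun θ => ⟨fun hθ => (mem_orbit N).mpr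
      (exists_conj_of_constituents N χ.2 hθ₀ θ.2 h0 hθ), fun hθ => ?_⟩)
    obtain ⟨g, hg⟩ := (mem_orbit N).mp hθ
    rw [← hg, classInner_res_conjFun N (isClassFunction_of_isIrr χ.2)]
    exact h0
  have hnd : ¬ p ∣ Nat.card X := fun hd =>
    hidx (hd.trans (hcard ▸ card_orbit_dvd_index N ⟨θ₀, hθ₀⟩))
  obtain ⟨θ, hθ⟩ := hS.nonempty_fixed_point_of_prime_not_dvd_card X hnd
  refine ⟨θ.1, θ.2, fun s n n' hn => ?_⟩
  have h1 : s⁻¹ • θ.1 = θ.1 := congrArg Subtype.val (MulAction.mem_fixedPoints.mp hθ s⁻¹)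
  have h2 := congrFun ((hval s⁻¹ θ.1).symm.trans (congrArg Subtype.val h1)) n
  rw [← h2]
  show _ = (θ.1 : N → ℂ) (φN s⁻¹⁻¹ n)
  rw [inv_inv]
  exact congrArg (θ.1 : N → ℂ) (Subtype.ext hn)

variable (N T : Subgroup H) [N.Normal] [Fintype N] [Fintype T] {θ : N → ℂ}
  (hθ : Cfsg.IsIrrCharacter N θ) (hT : ∀ g : H, g ∈ T ↔ conjFun N g θ = θ) (hNT : N ≤ T)

include hθ hT hNT

omit hp in
/-- The inertial constituent of a character over `θ`. -/
theorem exists_clifford_down {χ : H → ℂ} (hχ : Cfsg.IsIrrCharacter H χ)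
    (h0 : classInner (fun n : N => χ n) θ ≠ 0) :
    ∃ η : Cfsg.IrrCharacter T, classInner (fun n : N => (η : T → ℂ) ⟨n, hNT n.2⟩) θ ≠ 0 ∧
      Cfsg.indFun T (η : T → ℂ) = χ ∧ classInner (fun t : T => χ t) (η : T → ℂ) = 1 ∧
      ∀ μ : Cfsg.IrrCharacter T, classInner (fun t : T => χ t) (μ : T → ℂ) ≠ 0 →
        classInner (fun n : N => (μ : T → ℂ) ⟨n, hNT n.2⟩) θ ≠ 0 → μ = η := by
  obtain ⟨η, hη, he, hmul⟩ := clifford_correspondence N hθ T hT hNT hχ h0
  refine ⟨⟨η, hη⟩, hmul ▸ h0, he, ?_, fun μ h1 h2 => Subtype.ext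
    (CfsgLib.OddChar.eq_of_over N T hθ hT hNT hχ hη he hmul μ.2 h1 h2)⟩
  rw [← frobenius_reciprocity' T η (isClassFunction_of_isIrr hχ), he, classInner_irr_self hχ]

omit hp in
/-- Induction from the inertia group. -/
theorem exists_clifford_up (η : Cfsg.IrrCharacter T)
    (h0 : classInner (fun n : N => (η : T → ℂ) ⟨n, hNT n.2⟩) θ ≠ 0) :
    ∃ χ : Cfsg.IrrCharacter H, classInner (fun n : N => (χ : H → ℂ) n) θ ≠ 0 ∧
      Cfsg.indFun T (η : T → ℂ) = χ ∧ classInner (fun t : T => (χ : H → ℂ) t) (η : T → ℂ) = 1 := by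
  have hχ := (CfsgLib.OddChar.indFun_irr_of_inertia N T hθ hT hNT η.2 h0).1
  have h1 : classInner (fun t : T => Cfsg.indFun T (η : T → ℂ) t) (η : T → ℂ) = 1 := by
    rw [← frobenius_reciprocity' T _ (isClassFunction_of_isIrr hχ), classInner_irr_self hχ]
  refine ⟨⟨_, hχ⟩, ?_, rfl, h1⟩
  exact classInner_ne_zero_trans (isCharacter_res T (isCharacter_of_isIrr hχ)) η.2
    (Subgroup.inclusion hNT) hθ (h1.symm ▸ one_ne_zero) h0

end Generic

variable {K : Type u} {S : Type v} [Group K] [Group S] [Fintype K] {p : ℕ} [hp : Fact p.Prime]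
  {φ : S →* MulAut K} {Q C : Subgroup K} [Q.Normal]

theorem over_trans {f : K → ℂ} (hf : Cfsg.IsCharacter K f) (hQC : Q ≤ C) [Fintype C] [Fintype Q]
    {β : C → ℂ} (hβ : Cfsg.IsIrrCharacter C β) {θ : Q → ℂ} (hθ : Cfsg.IsIrrCharacter Q θ)
    (h1 : classInner (f ∘ C.subtype) β ≠ 0)
    (h2 : classInner (fun q : Q => β ⟨q, hQC q.2⟩) θ ≠ 0) :
    classInner (fun q : Q => f q) θ ≠ 0 :=
  classInner_ne_zero_trans (isCharacter_comp hf C.subtype) hβ (Subgroup.inclusion hQC) hθ h1 h2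

theorem classInner_ne_zero_of_mult [Fintype C] {χ : Cfsg.IrrCharacter K} {β : Cfsg.IrrCharacter C}
    (h : ¬ p ∣ mult C.subtype χ β) : classInner ((χ : K → ℂ) ∘ C.subtype) (β : C → ℂ) ≠ 0 := by
  rw [classInner_eq_mult]
  exact Nat.cast_ne_zero.mpr fun h0 => h (h0 ▸ dvd_zero p)

/-- An invariant character of `C` has an invariant constituent on `Q`. -/
theorem exists_inv_constituent_C [Fintype C] [Fintype Q] (h : RelFix p φ Q C)
    {β : Cfsg.IrrCharacter C} (hβ : InvOn φ C (β : C → ℂ)) :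
    ∃ θ : Cfsg.IrrCharacter Q, InvOn φ Q (θ : Q → ℂ) ∧
      classInner (fun q : Q => (β : C → ℂ) ⟨q, le_C h q.2⟩) (θ : Q → ℂ) ≠ 0 := by
  have := Fintype.ofFinite (Q.subgroupOf C)
  have hidx : ¬ p ∣ (Q.subgroupOf C).index := fun hd =>
    h.index (hd.trans ⟨C.index, (Subgroup.relIndex_mul_index (le_C h)).symm⟩)
  obtain ⟨θ, hθ, hθS⟩ := exists_inv_constituent h.pgroup
    (restrAut φ C fun s k hk => apply_mem_C h s hk) (Q.subgroupOf C)
    (fun s n hn => h.stable s _ hn) hidx (χ := β) (fun s c => hβ s c _ rfl)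
  let e : Q ≃* Q.subgroupOf C := (Subgroup.subgroupOfEquivOfLe (le_C h)).symm
  refine ⟨⟨(θ : Q.subgroupOf C → ℂ) ∘ e, isIrr_comp_mulEquiv θ.2 e⟩, fun s q q' hq => ?_, ?_⟩
  · exact hθS s (e q) (e q') (Subtype.ext hq)
  · intro h0
    refine hθ ?_
    rw [← classInner_comp_mulEquiv e, ← h0]
    rfl

/-- Two invariant constituents on `Q` are conjugate in `C`. -/
theorem exists_conj_C [Fintype Q] (h : RelFix p φ Q C) {χ : Cfsg.IrrCharacter K}
    {θ θ' : Cfsg.IrrCharacter Q} (hθ : InvOn φ Q (θ : Q → ℂ)) (hθ' : InvOn φ Q (θ' : Q → ℂ))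
    (h1 : classInner (fun q : Q => (χ : K → ℂ) q) (θ : Q → ℂ) ≠ 0)
    (h2 : classInner (fun q : Q => (χ : K → ℂ) q) (θ' : Q → ℂ) ≠ 0) :
    ∃ c ∈ C, conjFun Q c (θ : Q → ℂ) = θ' := by
  classical
  obtain ⟨g, hg⟩ := exists_conj_of_constituents Q χ.2 θ.2 θ'.2 h1 h2
  set T := inertia Q (θ : Q → ℂ) with hTdef
  have hQT : Q ≤ T := le_inertia Q (isClassFunction_of_isIrr θ.2)
  let X := {a : K ⧸ Q // ∃ k : K, (k : K ⧸ Q) = a ∧ conjFun Q k (θ : Q → ℂ) = θ'}
  have hX : Nat.card X = Nat.card (T.map (QuotientGroup.mk' Q)) := by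
    refine Nat.card_congr ((Equiv.mulRight (g : K ⧸ Q)⁻¹).subtypeEquiv fun a => ?_)
    constructor
    · rintro ⟨k, rfl, hk⟩
      refine ⟨k * g⁻¹, ?_, rfl⟩
      show conjFun Q (k * g⁻¹) (θ : Q → ℂ) = θ
      rw [← conjFun_conjFun, hk, ← hg, conjFun_inv_conjFun]
    · rintro ⟨t, ht, hta⟩
      refine ⟨t * g, ?_, ?_⟩
      · rw [QuotientGroup.mk_mul]
        change (t : K ⧸ Q) = a * (g : K ⧸ Q)⁻¹ at hta
        rw [hta, inv_mul_cancel_right]
      · rw [← conjFun_conjFun, (mem_inertia Q).mp ht, hg]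
  have hnd : ¬ p ∣ Nat.card X := fun hd => not_dvd_card_quot h
    (hX ▸ hd |>.trans (Subgroup.card_subgroup_dvd_card _))
  let _ : MulAction S X :=
    { smul := fun s a => ⟨quotAut h s a.1, by
        obtain ⟨k, hk, hkθ⟩ := a.2
        refine ⟨φ s k, by rw [← hk, quotAut_mk], funext fun q => ?_⟩
        have hq' : φ s⁻¹ (q : K) ∈ Q := h.stable s⁻¹ q q.2
        have hss : φ s (φ s⁻¹ (q : K)) = q := by
          rw [← MulAut.mul_apply, ← map_mul, mul_inv_cancel, map_one]; rfl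
        rw [hθ' s ⟨_, hq'⟩ q hss.symm, ← hkθ, conjFun_apply, conjFun_apply]
        refine hθ s ⟨_, (inferInstance : Q.Normal).conj_mem _ hq' k⟩ _ ?_
        show φ s k * (q : K) * (φ s k)⁻¹ = φ s (k * φ s⁻¹ (q : K) * k⁻¹)
        rw [map_mul, map_mul, hss, map_inv]⟩
      one_smul := fun a => Subtype.ext (by
        show quotAut h 1 a.1 = a.1
        rw [map_one]; rfl)
      mul_smul := fun s t a => Subtype.ext (by
        show quotAut h (s * t) a.1 = quotAut h s (quotAut h t a.1)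
        rw [map_mul]; rfl) }
  obtain ⟨a, ha⟩ := h.pgroup.nonempty_fixed_point_of_prime_not_dvd_card X hnd
  obtain ⟨k, hk, hkθ⟩ := a.2
  refine ⟨k, (fixed_quot_iff h k).mp fun s => ?_, hkθ⟩
  rw [hk]
  exact congrArg Subtype.val (MulAction.mem_fixedPoints.mp ha s)

/-- Being over `θ` is invariant under conjugation in `C`. -/
theorem over_conj_C [Fintype Q] (hQC : Q ≤ C) [Fintype C] (β : Cfsg.IrrCharacter C)
    (θ : Q → ℂ) {c : K} (hc : c ∈ C) :
    classInner (fun q : Q => (β : C → ℂ) ⟨q, hQC q.2⟩) (conjFun Q c θ) =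
      classInner (fun q : Q => (β : C → ℂ) ⟨q, hQC q.2⟩) θ := by
  rw [conjFun_eq_comp]
  conv_lhs => rw [show (fun q : Q => (β : C → ℂ) ⟨q, hQC q.2⟩) =
    (fun q : Q => (β : C → ℂ) ⟨q, hQC q.2⟩) ∘ (MulAut.conjNormal c : MulAut Q) from funext fun q => by
      refine ((isClassFunction_of_isIrr β.2) ⟨q, hQC q.2⟩ ⟨c, hc⟩).symm.trans ?_
      exact congrArg (β : C → ℂ) (Subtype.ext (MulAut.conjNormal_apply c q).symm)]
  exact classInner_comp_mulEquiv _ _ _

/-- Everything over one invariant character of `Q`. -/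
theorem over_theta [Fintype C] [Fintype Q] (h : RelFix p φ Q C) (θ : Cfsg.IrrCharacter Q)
    (hθS : InvOn φ Q (θ : Q → ℂ))
    (OverK : Cfsg.IrrCharacter K → Prop) (OverC : Cfsg.IrrCharacter C → Prop)
    (hOK : ∀ χ, OverK χ ↔ classInner (fun q : Q => (χ : K → ℂ) q) (θ : Q → ℂ) ≠ 0)
    (hOC : ∀ β, OverC β ↔
      classInner (fun q : Q => (β : C → ℂ) ⟨q, le_C h q.2⟩) (θ : Q → ℂ) ≠ 0) :
    (∀ β : Cfsg.IrrCharacter C, OverC β → InvOn φ C (β : C → ℂ) →
      ∃ χ, IsInvariant φ χ ∧ ¬ p ∣ mult C.subtype χ β) ∧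
    (∀ χ, OverK χ → IsInvariant φ χ →
      ∃ β : Cfsg.IrrCharacter C, InvOn φ C (β : C → ℂ) ∧ ¬ p ∣ mult C.subtype χ β) ∧
    (∀ χ χ' β, OverK χ → IsInvariant φ χ → OverK χ' → IsInvariant φ χ' → OverC β →
      ¬ p ∣ mult C.subtype χ β → ¬ p ∣ mult C.subtype χ' β → χ = χ') ∧
    (∀ χ β β', OverK χ → IsInvariant φ χ → OverC β → OverC β' →
      ¬ p ∣ mult C.subtype χ β → ¬ p ∣ mult C.subtype χ β' → β = β') ∧
    (∀ χ β, OverK χ → IsInvariant φ χ → OverC β → ¬ p ∣ mult C.subtype χ β →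
      ((mult C.subtype χ β : ℤ) ≡ 1 [ZMOD p] ∨ (mult C.subtype χ β : ℤ) ≡ -1 [ZMOD p])) := by
  classical
  have hQC := le_C h
  let T := inertia Q (θ : Q → ℂ)
  have hT : ∀ g : K, g ∈ T ↔ conjFun Q g (θ : Q → ℂ) = θ := fun g => mem_inertia Q
  have hQT : Q ≤ T := le_inertia Q (isClassFunction_of_isIrr θ.2)
  have hTst : ∀ s, ∀ t ∈ T, φ s t ∈ T := fun s t ht => (hT _).mpr (funext fun q => by
    have hq' : φ s⁻¹ (q : K) ∈ Q := h.stable s⁻¹ q q.2
    have hss : φ s (φ s⁻¹ (q : K)) = q := by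
      rw [← MulAut.mul_apply, ← map_mul, mul_inv_cancel, map_one]; rfl
    rw [hθS s ⟨_, hq'⟩ q hss.symm, conjFun_apply,
      ← congrFun ((hT t).mp ht) ⟨φ s⁻¹ (q : K), hq'⟩, conjFun_apply]
    refine hθS s ⟨_, (inferInstance : Q.Normal).conj_mem _ hq' t⟩ _ ?_
    show φ s t * (q : K) * (φ s t)⁻¹ = φ s (t * φ s⁻¹ (q : K) * t⁻¹)
    rw [map_mul, map_mul, hss, map_inv])
  have := Fintype.ofFinite T
  have := Fintype.ofFinite (Q.subgroupOf T)
  have := Fintype.ofFinite (C.subgroupOf T)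
  have := Fintype.ofFinite (Q.subgroupOf C)
  have := Fintype.ofFinite (T.subgroupOf C)
  let φT := restrAut φ T hTst
  have hrel : RelFix p φT (Q.subgroupOf T) (C.subgroupOf T) :=
    { pgroup := h.pgroup
      pQ := h.pQ.comap_subtype
      index := fun hd => h.index (hd.trans ⟨T.index, (Subgroup.relIndex_mul_index hQT).symm⟩)
      stable := fun s q hq => h.stable s _ hq
      mem_iff := fun t => h.mem_iff (t : K) }
  let eQ : Q.subgroupOf T ≃* Q := Subgroup.subgroupOfEquivOfLe hQT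
  let θT : Cfsg.IrrCharacter (Q.subgroupOf T) :=
    ⟨(θ : Q → ℂ) ∘ eQ, isIrr_comp_mulEquiv θ.2 eQ⟩
  let OT : Cfsg.IrrCharacter T → Prop := fun η =>
    classInner (fun q : Q => (η : T → ℂ) ⟨q, hQT q.2⟩) (θ : Q → ℂ) ≠ 0
  let OU : Cfsg.IrrCharacter (C.subgroupOf T) → Prop := fun ν =>
    classInner (fun q : Q => (ν : C.subgroupOf T → ℂ) ⟨⟨q, hQT q.2⟩, hQC q.2⟩) (θ : Q → ℂ) ≠ 0
  obtain ⟨cinv, cexK, cexC, cuK, cuC, cmod⟩ := core hrel θT
    (fun g => funext fun q => congrFun ((hT g).mp g.2) (eQ q))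
    (fun s c c' hc => hθS s (eQ c) (eQ c') (congrArg Subtype.val hc)) OT OU
    (fun η => by
      show _ ↔ classInner (fun q : Q.subgroupOf T => (η : T → ℂ) q) ((θ : Q → ℂ) ∘ eQ) ≠ 0
      rw [show (fun q : Q.subgroupOf T => (η : T → ℂ) q) =
        (fun q : Q => (η : T → ℂ) ⟨q, hQT q.2⟩) ∘ eQ from rfl, classInner_comp_mulEquiv])
    (fun ν => by
      show _ ↔ classInner (fun q : Q.subgroupOf T =>
        (ν : C.subgroupOf T → ℂ) ⟨q, le_C hrel q.2⟩) ((θ : Q → ℂ) ∘ eQ) ≠ 0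
      rw [show (fun q : Q.subgroupOf T => (ν : C.subgroupOf T → ℂ) ⟨q, le_C hrel q.2⟩) =
        (fun q : Q => (ν : C.subgroupOf T → ℂ) ⟨⟨q, hQT q.2⟩, hQC q.2⟩) ∘ eQ from rfl,
        classInner_comp_mulEquiv])
  -- the inertia group inside `C`
  let eC : Q.subgroupOf C ≃* Q := Subgroup.subgroupOfEquivOfLe hQC
  have hθC : Cfsg.IsIrrCharacter (Q.subgroupOf C) ((θ : Q → ℂ) ∘ eC) := isIrr_comp_mulEquiv θ.2 eC
  have hTC : ∀ c : C, c ∈ T.subgroupOf C ↔
      conjFun (Q.subgroupOf C) c ((θ : Q → ℂ) ∘ eC) = (θ : Q → ℂ) ∘ eC := by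
    intro c
    rw [Subgroup.mem_subgroupOf, hT]
    constructor
    · exact fun hc => funext fun q => congrFun hc (eC q)
    · intro hc
      refine funext fun q => ?_
      obtain ⟨q', rfl⟩ := eC.surjective q
      exact congrFun hc q'
  have hQTC : Q.subgroupOf C ≤ T.subgroupOf C := fun q hq => hQT hq
  let E : T.subgroupOf C ≃* C.subgroupOf T :=
    { toFun := fun x => ⟨⟨((x : C) : K), x.2⟩, (x : C).2⟩
      invFun := fun x => ⟨⟨((x : T) : K), x.2⟩, (x : T).2⟩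
      left_inv := fun _ => rfl
      right_inv := fun _ => rfl
      map_mul' := fun _ _ => rfl }
  let j : C.subgroupOf T →* C :=
    { toFun := fun x => ⟨((x : T) : K), x.2⟩
      map_one' := rfl
      map_mul' := fun _ _ => rfl }
  have downC : ∀ β, OverC β → ∃ ν, OU ν ∧ ∀ f : C → ℂ, Cfsg.IsClassFunction C f →
      classInner f (β : C → ℂ) = classInner (f ∘ j) (ν : C.subgroupOf T → ℂ) := by
    intro β hβ
    obtain ⟨η, hη, he, -, -⟩ := exists_clifford_down (Q.subgroupOf C) (T.subgroupOf C) hθC hTC hQTC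
      β.2 (by
        intro h0
        refine (hOC β).mp hβ ?_
        rw [← classInner_comp_mulEquiv eC, ← h0]
        rfl)
    refine ⟨⟨(η : T.subgroupOf C → ℂ) ∘ E.symm, isIrr_comp_mulEquiv η.2 E.symm⟩, ?_, fun f hf => ?_⟩
    · intro h0
      refine hη ?_
      rw [← h0, ← classInner_comp_mulEquiv eC]
      rfl
    · rw [← he, frobenius_reciprocity' _ _ hf, ← classInner_comp_mulEquiv E]
      refine congrArg₂ classInner rfl (funext fun x => ?_)
      simp only [Function.comp_apply, E.symm_apply_apply]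
  have upC : ∀ ν, OU ν → ∃ β, OverC β ∧ InvOn φ C (β : C → ℂ) ∧
      ∀ f : C → ℂ, Cfsg.IsClassFunction C f →
      classInner f (β : C → ℂ) = classInner (f ∘ j) (ν : C.subgroupOf T → ℂ) := by
    intro ν hν
    obtain ⟨β, hβ, he, -⟩ := exists_clifford_up (Q.subgroupOf C) (T.subgroupOf C) hθC hTC hQTC
      ⟨(ν : C.subgroupOf T → ℂ) ∘ E, isIrr_comp_mulEquiv ν.2 E⟩ (by
        intro h0
        refine hν ?_
        rw [← classInner_comp_mulEquiv eC, ← h0]
        rfl)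
    have key : ∀ f : C → ℂ, Cfsg.IsClassFunction C f →
        classInner f (β : C → ℂ) = classInner (f ∘ j) (ν : C.subgroupOf T → ℂ) := fun f hf => by
      rw [← he, frobenius_reciprocity' _ _ hf, ← classInner_comp_mulEquiv E (f ∘ j)]
      rfl
    refine ⟨β, (hOC β).mpr ?_, ?_, key⟩
    · intro h0
      refine hβ ?_
      rw [← h0, ← classInner_comp_mulEquiv eC]
      rfl
    · intro s c c' hc
      let a := restrAut φ C (fun s k hk => apply_mem_C h s hk) s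
      have hirr : Cfsg.IsIrrCharacter C ((β : C → ℂ) ∘ (a : C ≃* C)) := isIrr_comp_mulEquiv β.2 _
      have h1 := key _ (isClassFunction_of_isIrr β.2)
      rw [classInner_irr_self β.2] at h1
      have h2 := key _ (isClassFunction_of_isIrr hirr)
      let b := restrAut φT (C.subgroupOf T) (fun s k hk => apply_mem_C hrel s hk) s
      rw [show ((β : C → ℂ) ∘ (a : C ≃* C)) ∘ j = ((β : C → ℂ) ∘ j) ∘ (b : C.subgroupOf T ≃* C.subgroupOf T)
          from rfl,
        show (ν : C.subgroupOf T → ℂ) = (ν : C.subgroupOf T → ℂ) ∘ (b : C.subgroupOf T ≃* C.subgroupOf T)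
          from funext fun x => (cinv ν hν s x (b x) rfl).symm,
        classInner_comp_mulEquiv, ← h1] at h2
      have h3 : (β : C → ℂ) ∘ (a : C ≃* C) = β := by
        by_contra hne
        rw [classInner_irr_ne hirr β.2 hne] at h2
        exact zero_ne_one h2
      rw [show c' = a c from Subtype.ext hc]
      exact congrFun h3 c
  -- the inertia group in `K`
  have downK : ∀ χ, OverK χ → IsInvariant φ χ → ∃ η, OT η ∧ IsInvariant φT η ∧
      Cfsg.indFun T (η : T → ℂ) = χ ∧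
      classInner (fun t : T => (χ : K → ℂ) t) (η : T → ℂ) = 1 ∧
      ∀ μ : Cfsg.IrrCharacter T, classInner (fun t : T => (χ : K → ℂ) t) (μ : T → ℂ) ≠ 0 →
        OT μ → μ = η := by
    intro χ hχ hinv
    obtain ⟨η, hη, he, h1, hu⟩ := exists_clifford_down Q T θ.2 hT hQT χ.2 ((hOK χ).mp hχ)
    refine ⟨η, hη, fun s g => ?_, he, h1, hu⟩
    have h2 := hu ⟨(η : T → ℂ) ∘ (φT s : T ≃* T), isIrr_comp_mulEquiv η.2 _⟩ ?_ ?_
    · exact congrFun (congrArg Subtype.val h2) g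
    · show classInner (fun t : T => (χ : K → ℂ) t) ((η : T → ℂ) ∘ (φT s : T ≃* T)) ≠ 0
      rw [show (fun t : T => (χ : K → ℂ) t) =
          (fun t : T => (χ : K → ℂ) t) ∘ (φT s : T ≃* T) from funext fun t => (hinv s t).symm,
        classInner_comp_mulEquiv, h1]
      exact one_ne_zero
    · show classInner (fun q : Q => (η : T → ℂ) (φT s ⟨q, hQT q.2⟩)) (θ : Q → ℂ) ≠ 0
      let c := restrAut φ Q h.stable s
      rw [show (fun q : Q => (η : T → ℂ) (φT s ⟨q, hQT q.2⟩)) =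
          (fun q : Q => (η : T → ℂ) ⟨q, hQT q.2⟩) ∘ (c : Q ≃* Q) from rfl,
        show (θ : Q → ℂ) = (θ : Q → ℂ) ∘ (c : Q ≃* Q) from
          funext fun q => (hθS s q (c q) rfl).symm,
        classInner_comp_mulEquiv]
      exact hη
  have hsame : ∀ (χ : Cfsg.IrrCharacter K) (η : Cfsg.IrrCharacter T) (β : Cfsg.IrrCharacter C)
      (ν : Cfsg.IrrCharacter (C.subgroupOf T)), OU ν →
      classInner (fun t : T => (χ : K → ℂ) t) (η : T → ℂ) = 1 →
      (∀ μ : Cfsg.IrrCharacter T, classInner (fun t : T => (χ : K → ℂ) t) (μ : T → ℂ) ≠ 0 →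
        OT μ → μ = η) →
      (∀ f : C → ℂ, Cfsg.IsClassFunction C f →
        classInner f (β : C → ℂ) = classInner (f ∘ j) (ν : C.subgroupOf T → ℂ)) →
      mult C.subtype χ β = mult (C.subgroupOf T).subtype η ν := by
    intro χ η β ν hν h1 hu hf
    have h2 := hf _ (isClassFunction_of_isCharacter
      (isCharacter_comp (isCharacter_of_isIrr χ.2) C.subtype))
    obtain ⟨m, hm, hmi⟩ := char_decomp (isCharacter_res T (isCharacter_of_isIrr χ.2))
    have he : ((χ : K → ℂ) ∘ C.subtype) ∘ j = ∑ μ : Cfsg.IrrCharacter T,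
        (m μ : ℂ) • ((μ : T → ℂ) ∘ (C.subgroupOf T).subtype) := funext fun x => by
      show (χ : K → ℂ) ((x : T) : K) = _
      simpa [Finset.sum_apply] using congrFun hm (x : T)
    rw [classInner_eq_mult, he, classInner_sum_left, Finset.sum_eq_single η (fun μ _ hne => ?_)
      (by simp), classInner_smul_left, ← hmi η, h1, one_mul, classInner_eq_mult] at h2
    · exact_mod_cast h2
    · rw [classInner_smul_left, mul_eq_zero]
      by_contra hc
      push Not at hc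
      refine hne (hu μ (by rw [hmi μ]; exact hc.1) ?_)
      let i : Q →* C.subgroupOf T :=
        { toFun := fun q => ⟨⟨q, hQT q.2⟩, hQC q.2⟩
          map_one' := rfl
          map_mul' := fun _ _ => rfl }
      exact classInner_ne_zero_trans (isCharacter_comp (isCharacter_of_isIrr μ.2) _) ν.2 i θ.2
        hc.2 hν
  refine ⟨?_, ?_, ?_, ?_, ?_⟩
  · intro β hβ _
    obtain ⟨ν, hν, hf⟩ := downC β hβ
    obtain ⟨η, hη, hinv, hR⟩ := cexK ν hν
    obtain ⟨χ, hχ, he, h1⟩ := exists_clifford_up Q T θ.2 hT hQT η hη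
    have hχinv : IsInvariant φ χ := by
      intro s g
      have hirr : Cfsg.IsIrrCharacter K ((χ : K → ℂ) ∘ (φ s : K ≃* K)) := isIrr_comp_mulEquiv χ.2 _
      have h2 : classInner ((χ : K → ℂ) ∘ (φ s : K ≃* K)) (χ : K → ℂ) = 1 := by
        conv_lhs => arg 2; rw [← he]
        rw [frobenius_reciprocity' _ _ (isClassFunction_of_isIrr hirr),
          show (fun t : T => ((χ : K → ℂ) ∘ (φ s : K ≃* K)) t) =
            (fun t : T => (χ : K → ℂ) t) ∘ (φT s : T ≃* T) from rfl,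
          show (η : T → ℂ) = (η : T → ℂ) ∘ (φT s : T ≃* T) from funext fun t => (hinv s t).symm,
          classInner_comp_mulEquiv, h1]
      by_contra hne
      rw [classInner_irr_ne hirr χ.2 fun e => hne (congrFun e g)] at h2
      exact zero_ne_one h2
    refine ⟨χ, hχinv, ?_⟩
    obtain ⟨η', hη', -, -, h1', hu⟩ := downK χ ((hOK χ).mpr hχ) hχinv
    have heq := hu η (by rw [h1]; exact one_ne_zero) hη
    subst heq
    rwa [hsame χ η β ν hν h1 hu hf]
  · intro χ hχ hinv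
    obtain ⟨η, hη, hηi, -, h1, hu⟩ := downK χ hχ hinv
    obtain ⟨ν, hν, hR⟩ := cexC η hη hηi
    obtain ⟨β, -, hβi, hf⟩ := upC ν hν
    exact ⟨β, hβi, by rwa [hsame χ η β ν hν h1 hu hf]⟩
  · intro χ χ' β hχ hi hχ' hi' hβ h2 h2'
    obtain ⟨η, hη, hηi, he, h1, hu⟩ := downK χ hχ hi
    obtain ⟨η', hη', hηi', he', h1', hu'⟩ := downK χ' hχ' hi'
    obtain ⟨ν, hν, hf⟩ := downC β hβ
    rw [hsame χ η β ν hν h1 hu hf] at h2
    rw [hsame χ' η' β ν hν h1' hu' hf] at h2'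
    obtain rfl := cuK η η' ν hη hηi hη' hηi' hν h2 h2'
    exact Subtype.ext (he.symm.trans he')
  · intro χ β β' hχ hi hβ hβ' h2 h2'
    obtain ⟨η, hη, hηi, -, h1, hu⟩ := downK χ hχ hi
    obtain ⟨ν, hν, hf⟩ := downC β hβ
    obtain ⟨ν', hν', hf'⟩ := downC β' hβ'
    rw [hsame χ η β ν hν h1 hu hf] at h2
    rw [hsame χ η β' ν' hν' h1 hu hf'] at h2'
    obtain rfl := cuC η ν ν' hη hηi hν hν' h2 h2'
    have h3 := (hf _ (isClassFunction_of_isIrr β.2)).trans (hf' _ (isClassFunction_of_isIrr β.2)).symm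
    rw [classInner_irr_self β.2] at h3
    by_contra hne
    rw [classInner_irr_ne β.2 β'.2 fun e => hne (Subtype.ext e)] at h3
    exact one_ne_zero h3
  · intro χ β hχ hi hβ h2
    obtain ⟨η, hη, hηi, -, h1, hu⟩ := downK χ hχ hi
    obtain ⟨ν, hν, hf⟩ := downC β hβ
    rw [hsame χ η β ν hν h1 hu hf] at h2 ⊢
    exact cmod η ν hη hηi hν h2

/-- The correspondence. -/
theorem correspondence [Fintype C] (h : RelFix p φ Q C) :
    (∀ χ, IsInvariant φ χ → ∃! β : Cfsg.IrrCharacter C,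
      InvOn φ C (β : C → ℂ) ∧ ¬ p ∣ mult C.subtype χ β) ∧
    (∀ β : Cfsg.IrrCharacter C, InvOn φ C (β : C → ℂ) → ∃! χ,
      IsInvariant φ χ ∧ ¬ p ∣ mult C.subtype χ β) ∧
    (∀ χ (β : Cfsg.IrrCharacter C), IsInvariant φ χ → InvOn φ C (β : C → ℂ) →
      ¬ p ∣ mult C.subtype χ β →
      ((mult C.subtype χ β : ℤ) ≡ 1 [ZMOD p] ∨ (mult C.subtype χ β : ℤ) ≡ -1 [ZMOD p])) := by
  have := Fintype.ofFinite Q
  have hQC := le_C h
  have overK : ∀ (χ : Cfsg.IrrCharacter K) (β : Cfsg.IrrCharacter C) (θ : Cfsg.IrrCharacter Q),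
      ¬ p ∣ mult C.subtype χ β →
      classInner (fun q : Q => (β : C → ℂ) ⟨q, hQC q.2⟩) (θ : Q → ℂ) ≠ 0 →
      classInner (fun q : Q => (χ : K → ℂ) q) (θ : Q → ℂ) ≠ 0 := fun χ β θ h1 h2 =>
    over_trans (isCharacter_of_isIrr χ.2) hQC β.2 θ.2 (classInner_ne_zero_of_mult h1) h2
  refine ⟨fun χ hinv => ?_, fun β hβ => ?_, fun χ β hinv hβ hR => ?_⟩
  · obtain ⟨θ, hθ, hθS⟩ := exists_inv_constituent h.pgroup φ Q h.stable h.index hinv
    obtain ⟨-, hex, -, huC, -⟩ := over_theta h θ hθS _ _ (fun _ => Iff.rfl) (fun _ => Iff.rfl)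
    obtain ⟨β, hβ, hR⟩ := hex χ hθ hinv
    have key : ∀ γ : Cfsg.IrrCharacter C, InvOn φ C (γ : C → ℂ) → ¬ p ∣ mult C.subtype χ γ →
        classInner (fun q : Q => (γ : C → ℂ) ⟨q, hQC q.2⟩) (θ : Q → ℂ) ≠ 0 := by
      intro γ hγ hRγ
      obtain ⟨θ', hθ'S, hθ'⟩ := exists_inv_constituent_C h hγ
      obtain ⟨c, hc, hcθ⟩ := exists_conj_C h hθS hθ'S hθ (overK χ γ θ' hRγ hθ')
      rwa [← hcθ, over_conj_C hQC γ _ hc] at hθ'
    refine ⟨β, ⟨hβ, hR⟩, fun γ ⟨hγ, hRγ⟩ => ?_⟩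
    exact huC χ γ β hθ hinv (key γ hγ hRγ) (key β hβ hR) hRγ hR
  · obtain ⟨θ, hθS, hθ⟩ := exists_inv_constituent_C h hβ
    obtain ⟨hex, -, huK, -, -⟩ := over_theta h θ hθS _ _ (fun _ => Iff.rfl) (fun _ => Iff.rfl)
    obtain ⟨χ, hinv, hR⟩ := hex β hθ hβ
    exact ⟨χ, ⟨hinv, hR⟩, fun χ' ⟨hi', hR'⟩ =>
      huK χ' χ β (overK χ' β θ hR' hθ) hi' (overK χ β θ hR hθ) hinv hθ hR' hR⟩
  · obtain ⟨θ, hθS, hθ⟩ := exists_inv_constituent_C h hβ
    obtain ⟨-, -, -, -, hmod⟩ := over_theta h θ hθS _ _ (fun _ => Iff.rfl) (fun _ => Iff.rfl)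
    exact hmod χ β (overK χ β θ hR hθ) hinv hθ hR

/-- Degrees are congruent up to the sign. -/
theorem degree_congr [Fintype C] (h : RelFix p φ Q C) {χ : Cfsg.IrrCharacter K}
    {β : Cfsg.IrrCharacter C} (hχ : IsInvariant φ χ) (hβ : InvOn φ C (β : C → ℂ))
    (hR : ¬ p ∣ mult C.subtype χ β) {d e : ℕ} (hd : (χ : K → ℂ) 1 = d) (he : (β : C → ℂ) 1 = e) :
    (p : ℤ) ∣ (d : ℤ) - (mult C.subtype χ β : ℤ) * e := by
  classical
  choose D hD0 hD using fun γ : Cfsg.IrrCharacter C => exists_degree_pos γ.2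
  let ψ := restrAut φ C fun s k hk => apply_mem_C h s hk
  let _ : MulAction S (Cfsg.IrrCharacter C) := irrAction ψ
  have hsm : ∀ (s : S) (γ : Cfsg.IrrCharacter C),
      ((s • γ : Cfsg.IrrCharacter C) : C → ℂ) = (γ : C → ℂ) ∘ (ψ s⁻¹ : C ≃* C) := fun _ _ => rfl
  have hf : ∀ (s : S) (γ : Cfsg.IrrCharacter C),
      (mult C.subtype χ (s • γ) : ℤ) * D (s • γ) = (mult C.subtype χ γ : ℤ) * D γ := by
    intro s γ
    have h1 : D (s • γ) = D γ := by
      have h2 := hD (s • γ)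
      rw [hsm, Function.comp_apply, map_one, hD γ] at h2
      exact_mod_cast h2.symm
    have h3 : (mult C.subtype χ (s • γ) : ℂ) = (mult C.subtype χ γ : ℂ) := by
      rw [← classInner_eq_mult, ← classInner_eq_mult, hsm]
      conv_lhs => rw [show (χ : K → ℂ) ∘ C.subtype = ((χ : K → ℂ) ∘ C.subtype) ∘ (ψ s⁻¹ : C ≃* C) from
          funext fun c => (hχ s⁻¹ c).symm]
      exact classInner_comp_mulEquiv (ψ s⁻¹ : C ≃* C) _ _
    rw [h1, Nat.cast_inj.mp h3]
  have h1 := dvd_sum_sub_fixed h.pgroup (fun γ => (mult C.subtype χ γ : ℤ) * D γ) hf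
  have hsum : ((d : ℤ)) = ∑ γ, (mult C.subtype χ γ : ℤ) * D γ := by
    have h2 := comp_eq_sum_mult C.subtype χ 1
    rw [map_one, hd] at h2
    simp only [hD] at h2
    exact_mod_cast h2
  have heD : (e : ℤ) = D β := by
    rw [hD β] at he
    exact_mod_cast he.symm
  have hfix : ∀ γ : Cfsg.IrrCharacter C,
      γ ∈ MulAction.fixedPoints S (Cfsg.IrrCharacter C) ↔ InvOn φ C (γ : C → ℂ) := by
    intro γ
    refine ⟨fun hγ s c c' hc => ?_, fun hγ s => Subtype.ext (funext fun c => ?_)⟩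
    · have h2 := congrFun (congrArg Subtype.val (hγ s⁻¹)) c
      rw [hsm, Function.comp_apply, inv_inv] at h2
      rw [show c' = ψ s c from Subtype.ext hc]
      exact h2
    · rw [hsm]
      exact hγ s⁻¹ c _ rfl
  have h2 : (p : ℤ) ∣ (∑ γ with γ ∈ MulAction.fixedPoints S (Cfsg.IrrCharacter C),
      (mult C.subtype χ γ : ℤ) * D γ) - (mult C.subtype χ β : ℤ) * D β := by
    rw [← Finset.add_sum_erase _ _ (Finset.mem_filter.mpr ⟨Finset.mem_univ β, (hfix β).mpr hβ⟩),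
      add_sub_cancel_left]
    refine Finset.dvd_sum fun γ hγ => Dvd.dvd.mul_right (Int.natCast_dvd_natCast.mpr ?_) _
    obtain ⟨hne, hγ⟩ := Finset.mem_erase.mp hγ
    by_contra hd
    exact hne (((correspondence h).1 χ hχ).unique ⟨(hfix γ).mp (Finset.mem_filter.mp hγ).2, hd⟩
      ⟨hβ, hR⟩)
  have h3 := dvd_add h1 h2
  rwa [sub_add_sub_cancel, ← hsum, ← heD] at h3

end CfsgLib.CharBlocks.RelGlauberman
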