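import Cfsg.Agent.Lib.CharBlocks.RealPrime
import Cfsg.Agent.Lib.CharBlocks.RealOddIndex
import Cfsg.Agent.S4914

/-!
Groups all of whose real irreducible characters have `p'`-degree: the real characters correspond to
the real `p'`-degree characters of the normaliser of a Sylow `p`-subgroup.
-/

namespace CfsgLib.CharBlocks.RealPrimeCorr

open Cfsg CfsgLib.Char CfsgLib.CharNormal
open scoped ComplexConjugate

section Odd
variable {G : Type*} [Group G] [Fintype G] (N : Subgroup G) [N.Normal] [Fintype N]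

/-- A real character has a real constituent on a normal subgroup of odd index. -/
theorem exists_real_constituent (hodd : Odd N.index) (χ : IrrCharacter G) (hχ : irrConj χ = χ) :
    ∃ θ : IrrCharacter N, irrConj θ = θ ∧
      classInner (fun n : N => (χ : G → ℂ) n) (θ : N → ℂ) ≠ 0 := by
  classical
  obtain ⟨θ, hθ⟩ : ∃ θ : IrrCharacter N, classInner (fun n : N => (χ : G → ℂ) n) (θ : N → ℂ) ≠ 0 := by
    by_contra hcon
    push Not at hcon
    have h0 := congrFun (classFun_eq_sum (f := fun n : N => (χ : G → ℂ) n)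
      (isClassFunction_of_isCharacter (isCharacter_res N (isCharacter_of_isIrr χ.2)))) (1 : N)
    simp only [hcon, zero_smul, Finset.sum_const_zero, Pi.zero_apply, Subgroup.coe_one] at h0
    exact irr_one_ne_zero χ.2 h0
  have hval : ∀ n : N, conj ((χ : G → ℂ) n) = (χ : G → ℂ) n := fun n =>
    congrFun (congrArg Subtype.val hχ) (n : G)
  have hmem : ∀ η ∈ orbit N θ, irrConj η ∈ orbit N θ := fun η hη => by
    obtain ⟨g, hg⟩ := (mem_orbit N).mp hη
    have h1 : classInner (fun n : N => (χ : G → ℂ) n) (η : N → ℂ) ≠ 0 := by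
      rw [← hg, classInner_res_conjFun N (isClassFunction_of_isIrr χ.2)]; exact hθ
    have h2 : classInner (fun n : N => (χ : G → ℂ) n) (irrConj η : N → ℂ) =
        conj (classInner (fun n : N => (χ : G → ℂ) n) (η : N → ℂ)) := by
      rw [classInner_def, classInner_def, map_mul, map_inv₀, map_natCast, map_sum]
      exact congrArg _ (Finset.sum_congr rfl fun n _ => by rw [map_mul, hval, irrConj_apply])
    obtain ⟨g', hg'⟩ := exists_conj_of_constituents N χ.2 θ.2 (irrConj η).2 hθ
      (h2 ▸ (map_ne_zero _).mpr h1)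
    exact (mem_orbit N).mpr ⟨g', hg'⟩
  obtain ⟨η, hη, hfix⟩ : ∃ η ∈ orbit N θ, irrConj η = η := by
    by_contra hcon
    push Not at hcon
    have hev : Even (orbit N θ).card := by
      rw [← ZMod.natCast_eq_zero_iff_even, Finset.card_eq_sum_ones, Nat.cast_sum]
      exact Finset.sum_involution (fun η _ => irrConj η) (fun η _ => by decide) (fun η hη _ => hcon η hη)
        hmem (fun η _ => irrConj_irrConj η)
    exact Nat.not_even_iff_odd.mpr (hodd.of_dvd_nat (card_orbit_dvd_index N θ)) hev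
  obtain ⟨g, hg⟩ := (mem_orbit N).mp hη
  exact ⟨η, hfix, by rw [← hg, classInner_res_conjFun N (isClassFunction_of_isIrr χ.2)]; exact hθ⟩

/-- A real character of a normal subgroup of odd index has exactly one real character above it, of
multiplicity one. -/
theorem exists_real_above (hodd : Odd N.index) (θ : IrrCharacter N) (hθ : irrConj θ = θ) :
    ∃ χ : IrrCharacter G, irrConj χ = χ ∧
      classInner (fun n : N => (χ : G → ℂ) n) (θ : N → ℂ) = 1 ∧
      charDegree (χ : G → ℂ) = (inertia N (θ : N → ℂ)).index * charDegree (θ : N → ℂ) ∧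
      ∀ χ' : IrrCharacter G, irrConj χ' = χ' →
        classInner (fun n : N => (χ' : G → ℂ) n) (θ : N → ℂ) ≠ 0 → χ' = χ := by
  classical
  have hs := RealOddIndex.sum_fsInd_mul_classInner N hodd θ
  have hθv : fsInd (θ : N → ℂ) ≠ 0 :=
    (fsInd_ne_zero_iff θ.2).mpr fun k => congrFun (congrArg Subtype.val hθ) k
  obtain ⟨χ, hne⟩ : ∃ χ : IrrCharacter G, fsInd (χ : G → ℂ) *
      classInner (fun n : N => (χ : G → ℂ) n) (θ : N → ℂ) ≠ 0 := by
    by_contra hcon
    push Not at hcon
    rw [Finset.sum_eq_zero fun χ _ => hcon χ] at hs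
    exact hθv hs.symm
  have hχ : irrConj χ = χ :=
    Subtype.ext (funext ((fsInd_ne_zero_iff χ.2).mp (left_ne_zero_of_mul hne)))
  have huniq : ∀ χ' : IrrCharacter G, irrConj χ' = χ' →
      classInner (fun n : N => (χ' : G → ℂ) n) (θ : N → ℂ) ≠ 0 → χ' = χ :=
    fun χ' h' hm => RealOddIndex.unique_real_over N hodd θ hθ h' hχ hm (right_ne_zero_of_mul hne)
  rw [Finset.sum_eq_single χ (fun χ' _ hne' => by
    by_contra h0
    exact hne' (huniq χ' (Subtype.ext (funext ((fsInd_ne_zero_iff χ'.2).mp (left_ne_zero_of_mul h0))))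
      (right_ne_zero_of_mul h0))) (fun h => absurd (Finset.mem_univ _) h)] at hs
  obtain ⟨e, he⟩ := classInner_char_nat (isCharacter_res N (isCharacter_of_isIrr χ.2))
    (isCharacter_of_isIrr θ.2)
  have he1 : classInner (fun n : N => (χ : G → ℂ) n) (θ : N → ℂ) = 1 := by
    rw [he] at hs ⊢
    rcases fsInd_cases χ.2 with ⟨-, h1 | h1⟩ | ⟨-, h1⟩ <;>
      rcases fsInd_cases θ.2 with ⟨-, h2 | h2⟩ | ⟨-, h2⟩ <;> rw [h1, h2] at hs
    all_goals first
      | exact (hθv h2).elim
      | exact absurd h1 (left_ne_zero_of_mul hne)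
      | linear_combination hs
      | linear_combination -hs
      | (exfalso; have := congrArg Complex.re hs; simp at this; have := e.cast_nonneg (α := ℝ); linarith)
  refine ⟨χ, hχ, he1, ?_, huniq⟩
  have hd := degree_eq_mul_card_orbit N χ.2 θ (right_ne_zero_of_mul hne)
  rw [he1, one_mul, card_orbit_eq_index, ← coe_charDegree_irr, ← coe_charDegree_irr, ← Nat.cast_mul] at hd
  exact_mod_cast hd

end Odd

variable {G : Type*} [Group G] [Finite G] (p : ℕ) [hp : Fact p.Prime]

theorem card_ne : ∀ {H : Subgroup G}, Nat.card H ≠ 0 := Nat.card_pos.ne'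

/-- The index of the inertia group is congruent to the local one. -/
theorem index_modEq (P : Sylow p G) (T : Subgroup G) (hPT : (P : Subgroup G) ≤ T) :
    T.index ≡ T.relIndex (Subgroup.normalizer ((P : Subgroup G) : Set G)) [MOD p] := by
  classical
  set N := Subgroup.normalizer ((P : Subgroup G) : Set G)
  have h := P.2.card_modEq_card_fixedPoints (G ⧸ T)
  rw [← Subgroup.index_eq_card] at h
  suffices heq : Nat.card (MulAction.fixedPoints (P : Subgroup G) (G ⧸ T)) = T.relIndex N by rwa [heq] at h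
  let f : N ⧸ T.subgroupOf N → G ⧸ T := fun w => Quotient.liftOn' w (fun s => ((s : G) : G ⧸ T))
    (fun a b hab => by
      rw [QuotientGroup.leftRel_apply, Subgroup.mem_subgroupOf] at hab
      exact QuotientGroup.eq.2 (by simpa using hab))
  have hf : ∀ w, f w ∈ MulAction.fixedPoints (P : Subgroup G) (G ⧸ T) := by
    intro w
    induction w using QuotientGroup.induction_on with
    | _ s =>
      intro x
      refine QuotientGroup.eq.2 ?_
      show ((x : G) * s)⁻¹ * (s : G) ∈ T
      have h1 : (s : G)⁻¹ * (x : G)⁻¹ * s ∈ (P : Subgroup G) := by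
        have := (Subgroup.mem_normalizer_iff.1 (N.inv_mem s.2) (x : G)⁻¹).1 (inv_mem x.2)
        simpa using this
      simpa [mul_assoc] using hPT h1
  rw [Subgroup.relIndex, Subgroup.index_eq_card]
  refine (Nat.card_eq_of_bijective (fun w => (⟨f w, hf w⟩ : MulAction.fixedPoints (P : Subgroup G) (G ⧸ T))) ⟨?_, ?_⟩).symm
  · intro a b
    induction a using QuotientGroup.induction_on with
    | _ a =>
      induction b using QuotientGroup.induction_on with
      | _ b =>
        intro e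
        exact QuotientGroup.eq.2 (Subgroup.mem_subgroupOf.2 (by
          simpa using QuotientGroup.eq.1 (congrArg Subtype.val e)))
  · rintro ⟨w, hw⟩
    induction w using QuotientGroup.induction_on with
    | _ g =>
      let Q : Sylow p G := P.mapSurjective (f := (MulAut.conj g⁻¹).toMonoidHom) (MulAut.conj g⁻¹).surjective
      have hQT : (Q : Subgroup G) ≤ T := by
        rintro _ ⟨x, hx, rfl⟩
        have h1 := QuotientGroup.eq.1 (hw ⟨x⁻¹, inv_mem hx⟩)
        change ((x⁻¹ : G) * g)⁻¹ * g ∈ T at h1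
        simpa [mul_assoc] using h1
      obtain ⟨t, ht⟩ := MulAction.exists_smul_eq T (P.subtype hPT) (Q.subtype hQT)
      have hgt : g * (t : G) ∈ N := by
        refine Subgroup.mem_normalizer_iff.2 fun x => ?_
        have key : ∀ y : G, y ∈ (P : Subgroup G) ↔ (t : G) * y * (t : G)⁻¹ ∈ (Q : Subgroup G) := by
          intro y
          have hmem : ∀ z : T, z ∈ ((t • P.subtype hPT : Sylow p T) : Subgroup T) ↔
              t⁻¹ * z * t ∈ ((P.subtype hPT : Sylow p T) : Subgroup T) := fun z => by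
            rw [Sylow.smul_def, Sylow.pointwise_smul_def, Subgroup.mem_pointwise_smul_iff_inv_smul_mem,
              ← map_inv, MulAut.smul_def, MulAut.conj_apply, inv_inv]
          constructor
          · intro hy
            have h1 : t * ⟨y, hPT hy⟩ * t⁻¹ ∈ ((Q.subtype hQT : Sylow p T) : Subgroup T) := by
              rw [← ht, hmem]
              simpa [mul_assoc, Sylow.coe_subtype, Subgroup.mem_subgroupOf] using hy
            simpa [Sylow.coe_subtype, Subgroup.mem_subgroupOf] using h1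
          · intro hy
            have hyT : y ∈ T := by
              have := T.mul_mem (T.mul_mem (T.inv_mem t.2) (hQT hy)) t.2
              simpa [mul_assoc] using this
            have h1 : t * ⟨y, hyT⟩ * t⁻¹ ∈ ((Q.subtype hQT : Sylow p T) : Subgroup T) := by
              simpa [Sylow.coe_subtype, Subgroup.mem_subgroupOf] using hy
            rw [← ht, hmem] at h1
            simpa [mul_assoc, Sylow.coe_subtype, Subgroup.mem_subgroupOf] using h1
        have hQmem : ∀ z : G, z ∈ (Q : Subgroup G) ↔ g * z * g⁻¹ ∈ (P : Subgroup G) := fun z => by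
          constructor
          · rintro ⟨x, hx, rfl⟩
            change g * (g⁻¹ * x * g⁻¹⁻¹) * g⁻¹ ∈ (P : Subgroup G)
            rwa [show g * (g⁻¹ * x * g⁻¹⁻¹) * g⁻¹ = x by group]
          · intro hz
            exact ⟨_, hz, by simp [mul_assoc]⟩
        rw [key, hQmem]
        simp [mul_assoc]
      refine ⟨((⟨g * t, hgt⟩ : N) : N ⧸ T.subgroupOf N), Subtype.ext ?_⟩
      exact QuotientGroup.eq.2 (by simp)

/-- The correspondence. -/
theorem main (hsolv : Group.IsSolvable (RealPrime.gen p G))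
    (hreal : ∀ χ : IrrCharacter G, (∀ g : G, ((χ : G → ℂ) g).im = 0) → ¬ p ∣ charDegree (χ : G → ℂ))
    (P : Sylow p G) :
    ∃ f : {χ : IrrCharacter G // ∀ g : G, ((χ : G → ℂ) g).im = 0} →
        {ξ : IrrCharacter ↥(Subgroup.normalizer ((P : Subgroup G) : Set G)) //
          (∀ n, ((ξ : ↥(Subgroup.normalizer ((P : Subgroup G) : Set G)) → ℂ) n).im = 0) ∧
          ¬ p ∣ charDegree (ξ : ↥(Subgroup.normalizer ((P : Subgroup G) : Set G)) → ℂ)},
      Function.Bijective f ∧ ∀ χ,
        ((charDegree ((f χ).1 : ↥(Subgroup.normalizer ((P : Subgroup G) : Set G)) → ℂ) : ZMod p) =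
            (charDegree (χ.1 : G → ℂ) : ZMod p) ∨
          (charDegree ((f χ).1 : ↥(Subgroup.normalizer ((P : Subgroup G) : Set G)) → ℂ) : ZMod p) =
            -(charDegree (χ.1 : G → ℂ) : ZMod p)) := by
  classical
  have := Fintype.ofFinite G
  haveI : Fact (Nat.Prime 2) := ⟨Nat.prime_two⟩
  set K := RealPrime.gen 2 G with hKdef
  set N := Subgroup.normalizer ((P : Subgroup G) : Set G) with hNdef
  have hKodd : Odd K.index := by
    rw [Nat.odd_iff, ← Nat.two_dvd_ne_zero]
    exact RealPrime.not_dvd_index_gen (r := 2) G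
  let Q : Subgroup G := (P : Subgroup G) ⊓ K
  let C : Subgroup G := K ⊓ N
  have := Fintype.ofFinite K
  have := Fintype.ofFinite N
  have := Fintype.ofFinite C
  have hCK : C ≤ K := inf_le_left
  have hCN : C ≤ N := inf_le_right
  have hQsyl : ¬ p ∣ Q.relIndex K := by
    rw [Subgroup.inf_relIndex_right]
    exact fun h => P.not_dvd_index (h.trans (RealPrime.relIndex_dvd_index _ _ inferInstance))
  have hQp : IsPGroup p Q := P.2.to_le inf_le_left
  have hQn : ∀ k ∈ K, ∀ q ∈ Q, k * q * k⁻¹ ∈ Q := by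
    let QK : Sylow p K := (hQp.of_injective
      (Subgroup.subgroupOfEquivOfLe (inf_le_right : Q ≤ K)).toMonoidHom (MulEquiv.injective _)).toSylow hQsyl
    have h := RealPrime.sylow_normal p _ G rfl hsolv hreal K inferInstance le_rfl
      ⟨0, by rw [pow_zero]; exact Subgroup.relIndex_self _⟩ QK
    intro k hk q hq
    exact h.conj_mem ⟨q, hq.2⟩ hq ⟨k, hk⟩
  have hKn : ∀ (g : G), ∀ k ∈ K, g * k * g⁻¹ ∈ K := fun g k hk => Subgroup.Normal.conj_mem inferInstance k hk g
  have hC : ∀ k : G, k ∈ C ↔ (k ∈ K ∧ ∀ x ∈ (P : Subgroup G), x * k * x⁻¹ * k⁻¹ ∈ Q) := by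
    intro k
    constructor
    · rintro ⟨hk, hn⟩
      refine ⟨hk, fun x hx => ⟨?_, K.mul_mem (hKn x k hk) (K.inv_mem hk)⟩⟩
      have := (Subgroup.mem_normalizer_iff.1 hn x⁻¹).1 (inv_mem hx)
      have h1 := (P : Subgroup G).mul_mem hx this
      rwa [show x * (k * x⁻¹ * k⁻¹) = x * k * x⁻¹ * k⁻¹ by group] at h1
    · rintro ⟨hk, h⟩
      have hle : ∀ x ∈ (P : Subgroup G), k * x * k⁻¹ ∈ (P : Subgroup G) := fun x hx => by
        have h1 := (h x⁻¹ (inv_mem hx)).1
        simpa [mul_assoc] using (P : Subgroup G).mul_mem hx h1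
      refine ⟨hk, Subgroup.mem_normalizer_iff.2 fun x => ⟨hle x, fun hx => ?_⟩⟩
      have hsurj := Finite.injective_iff_surjective.1
        (show Function.Injective (fun z : (P : Subgroup G) =>
          (⟨k * z * k⁻¹, hle z z.2⟩ : (P : Subgroup G))) from fun a b e =>
            Subtype.ext (by simpa using congrArg Subtype.val e))
      obtain ⟨z, hz⟩ := hsurj ⟨_, hx⟩
      have : (z : G) = x := by simpa using congrArg Subtype.val hz
      exact this ▸ z.2
  have hPK : (P : Subgroup G) ≤ Subgroup.normalizer (K : Set G) := by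
    rw [Subgroup.normalizer_eq_top (H := K)]; exact le_top
  obtain ⟨Φ, hΦb, hΦ⟩ := Cfsg.Agent.S4914.result p (P : Subgroup G) K Q C P.2 hPK inf_le_right hQn
    (IsPGroup.iff_card.1 hQp) hQsyl hCK hC
  -- invariance
  let invK : IrrCharacter K → Prop := fun θ => ∀ x ∈ (P : Subgroup G), ∀ k k' : K,
    (k' : G) = x * (k : G) * x⁻¹ → (θ : K → ℂ) k' = (θ : K → ℂ) k
  let invC : IrrCharacter C → Prop := fun ξ => ∀ x ∈ (P : Subgroup G), ∀ k k' : C,
    (k' : G) = x * (k : G) * x⁻¹ → (ξ : C → ℂ) k' = (ξ : C → ℂ) k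
  let R : IrrCharacter K → IrrCharacter C → Prop := fun θ ξ =>
    ∀ m : ℕ, classInner ((θ : K → ℂ) ∘ Subgroup.inclusion hCK) (ξ : C → ℂ) = m → ¬ p ∣ m
  have hR : ∀ (θ : {θ // invK θ}) (ξ : {ξ // invC ξ}), R θ.1 ξ.1 ↔ ξ = Φ θ := by
    intro θ ξ
    obtain ⟨m, hm, h1, h2⟩ := (hΦ θ).1 ξ
    rw [finsum_eq_sum_of_fintype] at hm
    have hm' : classInner ((θ.1 : K → ℂ) ∘ Subgroup.inclusion hCK) (ξ.1 : C → ℂ) = m := hm
    constructor
    · intro hR
      by_contra hne
      exact hR m hm' (h2 hne)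
    · intro he k hk hdvd
      have hkm : k = m := by exact_mod_cast hk.symm.trans hm'
      subst hkm
      have h0 : (k : ZMod p) = 0 := (ZMod.natCast_eq_zero_iff k p).2 hdvd
      rcases h1 he with h | h <;> rw [h0] at h
      · exact one_ne_zero h.symm
      · exact one_ne_zero (neg_eq_zero.1 h.symm)
  have hRconj : ∀ (θ : IrrCharacter K) (ξ : IrrCharacter C), R θ ξ → R (irrConj θ) (irrConj ξ) := by
    intro θ ξ h m hm
    refine h m ?_
    have e : classInner ((irrConj θ : K → ℂ) ∘ Subgroup.inclusion hCK) (irrConj ξ : C → ℂ) =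
        conj (classInner ((θ : K → ℂ) ∘ Subgroup.inclusion hCK) (ξ : C → ℂ)) := by
      simp only [classInner_def, map_mul, map_inv₀, map_natCast, map_sum, Function.comp_apply, irrConj_apply]
    rw [e] at hm
    simpa using congrArg conj hm
  let cN : N → C ≃* C := fun n =>
    { toFun := fun c => ⟨(n : G) * c * (n : G)⁻¹, hKn n c c.2.1, N.mul_mem (N.mul_mem n.2 c.2.2) (N.inv_mem n.2)⟩
      invFun := fun c => ⟨(n : G)⁻¹ * c * (n : G), by simpa using hKn (n : G)⁻¹ c c.2.1,
        N.mul_mem (N.mul_mem (N.inv_mem n.2) c.2.2) n.2⟩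
      left_inv := fun c => Subtype.ext (by simp [mul_assoc])
      right_inv := fun c => Subtype.ext (by simp [mul_assoc])
      map_mul' := fun a b => Subtype.ext (by simp [mul_assoc]) }
  let conjC : N → IrrCharacter C → IrrCharacter C := fun n ξ =>
    ⟨(ξ : C → ℂ) ∘ cN n, isIrr_comp_mulEquiv ξ.2 (cN n)⟩
  have hPn : ∀ (n : N) (x : G), x ∈ (P : Subgroup G) → (n : G) * x * (n : G)⁻¹ ∈ (P : Subgroup G) :=
    fun n x hx => (Subgroup.mem_normalizer_iff.1 n.2 x).1 hx
  have hinvKn : ∀ (n : N) θ, invK θ → invK (conjIrr K (n : G) θ) := by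
    intro n θ h x hx k k' e
    refine h _ (hPn n x hx) ⟨(n : G) * k * (n : G)⁻¹, hKn _ _ k.2⟩ ⟨(n : G) * k' * (n : G)⁻¹, hKn _ _ k'.2⟩ ?_
    show (n : G) * k' * (n : G)⁻¹ = _
    rw [e]; group
  have hinvCn : ∀ (n : N) ξ, invC ξ → invC (conjC n ξ) := by
    intro n ξ h x hx k k' e
    refine h _ (hPn n x hx) (cN n k) (cN n k') ?_
    show (n : G) * k' * (n : G)⁻¹ = (n : G) * x * (n : G)⁻¹ * ((n : G) * k * (n : G)⁻¹) * ((n : G) * x * (n : G)⁻¹)⁻¹
    rw [e]; group
  have hRn : ∀ (n : N) θ ξ, R θ ξ → R (conjIrr K (n : G) θ) (conjC n ξ) := by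
    intro n θ ξ h m hm
    refine h m ?_
    rw [← hm, classInner_def, classInner_def]
    congr 1
    exact (Fintype.sum_equiv (cN n).toEquiv _ _ fun c => rfl).symm
  -- the normal subgroup of the normaliser
  let C' : Subgroup N := C.subgroupOf N
  have hC'n : C'.Normal := ⟨fun c hc n =>
    ⟨hKn (n : G) (c : G) hc.1, N.mul_mem (N.mul_mem n.2 c.2) (N.inv_mem n.2)⟩⟩
  have := Fintype.ofFinite C'
  let eC : C' ≃* C := Subgroup.subgroupOfEquivOfLe hCN
  let toC' : IrrCharacter C → IrrCharacter C' := fun ξ => ⟨(ξ : C → ℂ) ∘ eC, isIrr_comp_mulEquiv ξ.2 eC⟩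
  have htoinj : Function.Injective toC' := fun a b e => Subtype.ext (funext fun c => by
    simpa [toC'] using congrFun (congrArg Subtype.val e) (eC.symm c))
  have htoc : ∀ (n : N) ξ, conjFun C' n (toC' ξ : C' → ℂ) = (toC' (conjC n ξ) : C' → ℂ) := fun _ _ => rfl
  have hC'odd : Odd C'.index := by
    have e : C' = K.subgroupOf N := Subgroup.ext fun x =>
      ⟨fun h => h.1, fun h => ⟨h, x.2⟩⟩
    rw [e]
    exact hKodd.of_dvd_nat (Subgroup.relIndex_dvd_index_of_normal K N)
  have htoreal : ∀ ξ, irrConj (toC' ξ) = toC' (irrConj ξ) := fun _ => rfl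
  have hinvI : ∀ θ : IrrCharacter K, invK θ ↔ (P : Subgroup G) ≤ inertia K (θ : K → ℂ) := by
    intro θ
    constructor
    · intro h x hx
      exact (mem_inertia K).2 (funext fun k => h x hx k _ rfl)
    · intro h x hx k k' e
      have := congrFun ((mem_inertia K).1 (h hx)) k
      rw [conjFun_apply] at this
      rw [← this]
      exact congrArg _ (Subtype.ext e)
  -- degrees
  have hdeg : ∀ (θ : {θ // invK θ}) (χ : IrrCharacter G) (η : IrrCharacter N),
      charDegree (χ : G → ℂ) = (inertia K (θ.1 : K → ℂ)).index * charDegree (θ.1 : K → ℂ) →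
      charDegree (η : N → ℂ) = (inertia C' (toC' (Φ θ).1 : C' → ℂ)).index * charDegree ((Φ θ).1 : C → ℂ) →
      ((charDegree (η : N → ℂ) : ZMod p) = (charDegree (χ : G → ℂ) : ZMod p) ∨
        (charDegree (η : N → ℂ) : ZMod p) = -(charDegree (χ : G → ℂ) : ZMod p)) := by
    intro θ χ η h1 h2
    have hI : inertia C' (toC' (Φ θ).1 : C' → ℂ) = (inertia K (θ.1 : K → ℂ)).subgroupOf N := by
      ext n
      rw [mem_inertia, Subgroup.mem_subgroupOf, mem_inertia, htoc]
      constructor
      · intro h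
        have h3 : conjC n (Φ θ).1 = (Φ θ).1 := htoinj (Subtype.ext h)
        have h4 : R (conjIrr K (n : G) θ.1) (Φ θ).1 := h3 ▸ hRn n _ _ ((hR θ (Φ θ)).2 rfl)
        have h5 := (hR ⟨_, hinvKn n _ θ.2⟩ (Φ θ)).1 h4
        exact congrArg Subtype.val (congrArg Subtype.val (hΦb.1 h5).symm)
      · intro h
        have h3 : conjIrr K (n : G) θ.1 = θ.1 := Subtype.ext h
        have h4 : R θ.1 (conjC n (Φ θ).1) := h3 ▸ hRn n _ _ ((hR θ (Φ θ)).2 rfl)
        have h5 := (hR θ ⟨_, hinvCn n _ (Φ θ).2⟩).1 h4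
        rw [show conjC n (Φ θ).1 = (Φ θ).1 from congrArg Subtype.val h5]
    have hmod := index_modEq p P (inertia K (θ.1 : K → ℂ)) ((hinvI _).1 θ.2)
    have hmod' : (((inertia C' (toC' (Φ θ).1 : C' → ℂ)).index : ℕ) : ZMod p) =
        ((inertia K (θ.1 : K → ℂ)).index : ZMod p) := by
      rw [hI]
      exact ((ZMod.natCast_eq_natCast_iff _ _ _).2 hmod).symm
    rw [h1, h2, Nat.cast_mul, Nat.cast_mul, hmod']
    rcases (hΦ θ).2 with h | h
    · exact Or.inl (by rw [h])
    · exact Or.inr (by rw [h]; ring)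
  have hΦreal : ∀ θ : {θ // invK θ}, irrConj θ.1 = θ.1 ↔ irrConj (Φ θ).1 = (Φ θ).1 := by
    intro θ
    have hci : invC (irrConj (Φ θ).1) := fun x hx k k' e => by
      rw [irrConj_apply, irrConj_apply, (Φ θ).2 x hx k k' e]
    have hki : invK (irrConj θ.1) := fun x hx k k' e => by
      rw [irrConj_apply, irrConj_apply, θ.2 x hx k k' e]
    have h := hRconj _ _ ((hR θ (Φ θ)).2 rfl)
    have h5 := (hR ⟨_, hki⟩ ⟨_, hci⟩).1 h
    constructor
    · intro e
      exact congrArg Subtype.val (h5.trans (congrArg Φ (Subtype.ext e)))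
    · intro e
      exact congrArg Subtype.val (hΦb.1 (h5.symm.trans (Subtype.ext e)))
  -- an invariant real constituent
  have hgood : ∀ χ : {χ : IrrCharacter G // ∀ g : G, ((χ : G → ℂ) g).im = 0},
      ∃ θ : {θ // invK θ}, irrConj θ.1 = θ.1 ∧
        classInner (fun n : K => (χ.1 : G → ℂ) n) (θ.1 : K → ℂ) ≠ 0 := by
    intro χ
    have hc := (irrConj_eq_self_iff χ.1).2 χ.2
    obtain ⟨θ, hθ, hne⟩ := exists_real_constituent K hKodd χ.1 hc
    obtain ⟨χ', -, -, hd, hu⟩ := exists_real_above K hKodd θ hθ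
    rw [← hu χ.1 hc hne] at hd
    have hpi : ¬ p ∣ (inertia K (θ : K → ℂ)).index := fun h =>
      hreal χ.1 χ.2 (hd ▸ h.mul_right _)
    obtain ⟨S⟩ : Nonempty (Sylow p (inertia K (θ : K → ℂ))) := inferInstance
    have hS' : ¬ p ∣ ((S : Subgroup _).map (inertia K (θ : K → ℂ)).subtype).index := by
      rw [Subgroup.index_map_subtype]
      exact fun h => ((hp.out.dvd_mul).1 h).elim S.not_dvd_index hpi
    let S' : Sylow p G := (S.2.map (inertia K (θ : K → ℂ)).subtype).toSylow hS'
    obtain ⟨g, hg⟩ := MulAction.exists_smul_eq G S' P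
    refine ⟨⟨conjIrr K g⁻¹ θ, ?_⟩, ?_, ?_⟩
    · rw [hinvI]
      intro x hx
      have hx' : g⁻¹ * x * g ∈ inertia K (θ : K → ℂ) := by
        have h1 : x ∈ ((g • S' : Sylow p G) : Subgroup G) := hg.symm ▸ hx
        rw [Sylow.smul_def, Sylow.pointwise_smul_def, Subgroup.mem_pointwise_smul_iff_inv_smul_mem,
          ← map_inv, MulAut.smul_def, MulAut.conj_apply, inv_inv] at h1
        exact Subgroup.map_subtype_le _ h1
      rw [mem_inertia, conjIrr_coe, conjFun_conjFun]
      have h2 := congrArg (conjFun K g⁻¹) ((mem_inertia K).1 hx')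
      rw [conjFun_conjFun] at h2
      simpa [mul_assoc] using h2
    · apply Subtype.ext
      funext k
      rw [irrConj_apply, conjIrr_coe, conjFun_apply]
      exact congrFun (congrArg Subtype.val hθ) _
    · rw [conjIrr_coe, classInner_res_conjFun K (isClassFunction_of_isIrr χ.1.2)]
      exact hne
  choose th hth hthne using hgood
  have hchar : ∀ χ, ∃ η : IrrCharacter N, irrConj η = η ∧
      classInner (fun n : C' => (η : N → ℂ) n) (toC' (Φ (th χ)).1 : C' → ℂ) ≠ 0 ∧
      ((charDegree (η : N → ℂ) : ZMod p) = (charDegree (χ.1 : G → ℂ) : ZMod p) ∨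
        (charDegree (η : N → ℂ) : ZMod p) = -(charDegree (χ.1 : G → ℂ) : ZMod p)) := by
    intro χ
    have hc := (irrConj_eq_self_iff χ.1).2 χ.2
    obtain ⟨χ', -, -, hd, hu⟩ := exists_real_above K hKodd (th χ).1 (hth χ)
    rw [← hu χ.1 hc (hthne χ)] at hd
    have hξ : irrConj (toC' (Φ (th χ)).1) = toC' (Φ (th χ)).1 := by
      rw [htoreal, (hΦreal _).1 (hth χ)]
    obtain ⟨η, hη, he, hde, -⟩ := exists_real_above C' hC'odd _ hξ
    refine ⟨η, hη, by rw [he]; exact one_ne_zero, hdeg _ _ _ hd ?_⟩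
    rw [hde]
    congr 1
  choose et het hetne hetd using hchar
  have hetp : ∀ χ, ¬ p ∣ charDegree (et χ : N → ℂ) := fun χ h => by
    have h0 : (charDegree (et χ : N → ℂ) : ZMod p) = 0 := (ZMod.natCast_eq_zero_iff _ p).2 h
    refine hreal χ.1 χ.2 ((ZMod.natCast_eq_zero_iff _ p).1 ?_)
    rcases hetd χ with e | e <;> rw [h0] at e
    · exact e.symm
    · exact neg_eq_zero.1 e.symm
  refine ⟨fun χ => ⟨et χ, (irrConj_eq_self_iff _).1 (het χ), hetp χ⟩, ⟨?_, ?_⟩, hetd⟩
  · intro χ χ' e
    have e' : et χ = et χ' := congrArg Subtype.val e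
    obtain ⟨n, hn⟩ := exists_conj_of_constituents C' (et χ).2 (toC' (Φ (th χ)).1).2
      (toC' (Φ (th χ')).1).2 (hetne χ) (e' ▸ hetne χ')
    rw [htoc] at hn
    have h3 : conjC n (Φ (th χ)).1 = (Φ (th χ')).1 := htoinj (Subtype.ext hn)
    have h4 : R (conjIrr K (n : G) (th χ).1) (Φ (th χ')).1 := h3 ▸ hRn n _ _ ((hR _ (Φ (th χ))).2 rfl)
    have h5 := (hR ⟨_, hinvKn n _ (th χ).2⟩ (Φ (th χ'))).1 h4
    have h6 : conjIrr K (n : G) (th χ).1 = (th χ').1 := congrArg Subtype.val (hΦb.1 h5).symm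
    have h7 : classInner (fun k : K => (χ.1 : G → ℂ) k) ((th χ').1 : K → ℂ) ≠ 0 := by
      rw [← h6, conjIrr_coe, classInner_res_conjFun K (isClassFunction_of_isIrr χ.1.2)]
      exact hthne χ
    obtain ⟨χ'', -, -, -, hu⟩ := exists_real_above K hKodd (th χ').1 (hth χ')
    exact Subtype.ext ((hu χ.1 ((irrConj_eq_self_iff _).2 χ.2) h7).trans
      (hu χ'.1 ((irrConj_eq_self_iff _).2 χ'.2) (hthne χ')).symm)
  · rintro ⟨η, hηr, hηp⟩
    have hη := (irrConj_eq_self_iff η).2 hηr
    obtain ⟨ξ', hξ', hne⟩ := exists_real_constituent C' hC'odd η hη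
    obtain ⟨η', -, -, hd, hu⟩ := exists_real_above C' hC'odd ξ' hξ'
    rw [← hu η hη hne] at hd
    let ξ : IrrCharacter C := ⟨(ξ' : C' → ℂ) ∘ eC.symm, isIrr_comp_mulEquiv ξ'.2 eC.symm⟩
    have hξto : toC' ξ = ξ' := Subtype.ext (funext fun c => by simp [toC', ξ])
    have hξi : invC ξ := by
      -- the normal Sylow subgroup of the normaliser lies in the inertia group
      let PN : Subgroup N := (P : Subgroup G).subgroupOf N
      have hPNle : (P : Subgroup G) ≤ N := Subgroup.le_normalizer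
      have hPNp : IsPGroup p PN :=
        P.2.of_equiv (Subgroup.subgroupOfEquivOfLe hPNle).symm
      have hPNn : PN.Normal := ⟨fun x hx n => hPn n x hx⟩
      have hpi : ¬ p ∣ (inertia C' (ξ' : C' → ℂ)).index := fun h => hηp (hd ▸ h.mul_right _)
      obtain ⟨S⟩ : Nonempty (Sylow p (inertia C' (ξ' : C' → ℂ))) := inferInstance
      have hS' : ¬ p ∣ ((S : Subgroup _).map (inertia C' (ξ' : C' → ℂ)).subtype).index := by
        rw [Subgroup.index_map_subtype]
        exact fun h => ((hp.out.dvd_mul).1 h).elim S.not_dvd_index hpi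
      let S' : Sylow p N := (S.2.map (inertia C' (ξ' : C' → ℂ)).subtype).toSylow hS'
      have hle : PN ≤ inertia C' (ξ' : C' → ℂ) :=
        le_trans (hPNp.le_sylow_of_normal S') (Subgroup.map_subtype_le _)
      intro x hx k k' e
      have h1 := congrFun ((mem_inertia C').1 (hle (x := ⟨x, hPNle hx⟩) hx)) (eC.symm k)
      rw [conjFun_apply] at h1
      show (ξ' : C' → ℂ) (eC.symm k') = (ξ' : C' → ℂ) (eC.symm k)
      rw [← h1]
      exact congrArg _ (Subtype.ext (Subtype.ext e))
    obtain ⟨θ, hθ⟩ := hΦb.2 ⟨ξ, hξi⟩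
    have hξreal : irrConj ξ = ξ := Subtype.ext (funext fun c => congrFun (congrArg Subtype.val hξ') (eC.symm c))
    have hθreal : irrConj θ.1 = θ.1 := (hΦreal θ).2 (by rw [hθ]; exact hξreal)
    obtain ⟨χ, hχ, hχ1, -, -⟩ := exists_real_above K hKodd θ.1 hθreal
    let χs : {χ : IrrCharacter G // ∀ g : G, ((χ : G → ℂ) g).im = 0} := ⟨χ, (irrConj_eq_self_iff _).1 hχ⟩
    refine ⟨χs, Subtype.ext ?_⟩
    -- conjugate invariant constituents are conjugate in the normaliser
    obtain ⟨g, hg⟩ := exists_conj_of_constituents K χ.2 θ.1.2 (th χs).1.2 (by rw [hχ1]; exact one_ne_zero) (hthne χs)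
    set T := inertia K ((th χs).1 : K → ℂ)
    let P' : Sylow p G := P.mapSurjective (f := (MulAut.conj g⁻¹).toMonoidHom) (MulAut.conj g⁻¹).surjective
    have hP'T : (P' : Subgroup G) ≤ T := by
      rintro _ ⟨x, hx, rfl⟩
      refine (mem_inertia K).2 ?_
      show conjFun K (g⁻¹ * x * g⁻¹⁻¹) _ = _
      rw [← hg, conjFun_conjFun, show g * (g⁻¹ * x * g⁻¹⁻¹) = x * g by group, ← conjFun_conjFun,
        (mem_inertia K).1 ((hinvI _).1 θ.2 hx)]
    have hPT : (P : Subgroup G) ≤ T := (hinvI _).1 (th χs).2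
    obtain ⟨t, ht⟩ := MulAction.exists_smul_eq T (P'.subtype hP'T) (P.subtype hPT)
    have hn : g * (t : G)⁻¹ ∈ N := by
      refine Subgroup.mem_normalizer_iff.2 fun x => ?_
      have hmem : ∀ z : T, z ∈ ((t • P'.subtype hP'T : Sylow p T) : Subgroup T) ↔
          t⁻¹ * z * t ∈ ((P'.subtype hP'T : Sylow p T) : Subgroup T) := fun z => by
        rw [Sylow.smul_def, Sylow.pointwise_smul_def, Subgroup.mem_pointwise_smul_iff_inv_smul_mem,
          ← map_inv, MulAut.smul_def, MulAut.conj_apply, inv_inv]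
      have hP' : ∀ z : G, z ∈ (P' : Subgroup G) ↔ g * z * g⁻¹ ∈ (P : Subgroup G) := fun z => by
        constructor
        · rintro ⟨y, hy, rfl⟩
          change g * (g⁻¹ * y * g⁻¹⁻¹) * g⁻¹ ∈ (P : Subgroup G)
          rwa [show g * (g⁻¹ * y * g⁻¹⁻¹) * g⁻¹ = y by group]
        · intro hz
          exact ⟨_, hz, by simp [mul_assoc]⟩
      constructor
      · intro hx
        have h1 : (⟨x, hPT hx⟩ : T) ∈ ((P.subtype hPT : Sylow p T) : Subgroup T) := hx
        rw [← ht, hmem] at h1
        have h2 := (hP' _).1 h1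
        simpa [mul_assoc] using h2
      · intro hx
        have h1 : (t : G)⁻¹ * x * (t : G) ∈ (P' : Subgroup G) := (hP' _).2 (by simpa [mul_assoc] using hx)
        have hxT : x ∈ T := by
          have := T.mul_mem (T.mul_mem t.2 (hP'T h1)) (T.inv_mem t.2)
          simpa [mul_assoc] using this
        have h2 : (⟨x, hxT⟩ : T) ∈ ((t • P'.subtype hP'T : Sylow p T) : Subgroup T) := (hmem _).2 h1
        rw [ht] at h2
        exact h2
    set n : N := ⟨g * (t : G)⁻¹, hn⟩
    have h6 : conjIrr K (n : G) θ.1 = (th χs).1 := Subtype.ext (by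
      rw [conjIrr_coe, show ((n : G)) = g * (t : G)⁻¹ from rfl, ← conjFun_conjFun, hg]
      exact (mem_inertia K).1 (T.inv_mem t.2))
    have h4 : R (th χs).1 (conjC n ξ) := by
      rw [← h6]
      refine hRn n _ _ ?_
      have := (hR θ (Φ θ)).2 rfl
      rwa [hθ] at this
    have h5 := (hR (th χs) ⟨_, hinvCn n _ hξi⟩).1 h4
    obtain ⟨η₀, -, -, -, hu0⟩ := exists_real_above C' hC'odd (toC' (Φ (th χs)).1) (by
      rw [htoreal, (hΦreal _).1 (hth χs)])
    refine (hu0 _ (het χs) (hetne χs)).trans (hu0 η hη ?_).symm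
    rw [show (Φ (th χs)).1 = conjC n ξ from (congrArg Subtype.val h5).symm, ← htoc, hξto,
      classInner_res_conjFun C' (isClassFunction_of_isIrr η.2)]
    exact hne

end CfsgLib.CharBlocks.RealPrimeCorr
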