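import Cfsg.Agent.S0867
import Cfsg.Agent.Lib.CharNormal.InvariantAbove
import Cfsg.Agent.Lib.Char.Ito

/-!
# The Glauberman correspondence relative to a normal Sylow subgroup: the invariant case

* `RelFix`: a `p`-group of operators on `K`, a normal Sylow `p`-subgroup `Q`, and the subgroup `C` of
  the elements fixed modulo `Q`;
* `exists_invariant_extension`: the canonical extension of an invariant character of `Q`;
* `core`: the correspondence for the characters over a `K`-invariant character of `Q`.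
-/

set_option autoImplicit false

noncomputable section

namespace CfsgLib.CharBlocks.RelGlauberman

open Cfsg CfsgLib.Char CfsgLib.CharNormal

universe u v

/-- `S` acts on `K` as a `p`-group, `Q` is a normal Sylow subgroup, `C` the fixed points modulo `Q`. -/
structure RelFix {K S : Type*} [Group K] [Group S] (p : ℕ) (φ : S →* MulAut K) (Q C : Subgroup K) :
    Prop where
  pgroup : IsPGroup p S
  pQ : IsPGroup p Q
  index : ¬ p ∣ Q.index
  stable : ∀ s, ∀ q ∈ Q, φ s q ∈ Q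
  mem_iff : ∀ k, k ∈ C ↔ ∀ s, φ s k * k⁻¹ ∈ Q

variable {K : Type u} {S : Type v} [Group K] [Group S]

/-- Invariance of a character of a subgroup. -/
def InvOn (φ : S →* MulAut K) (H : Subgroup K) (β : H → ℂ) : Prop :=
  ∀ (s : S) (c c' : H), (c' : K) = φ s c → β c' = β c

theorem le_C {p : ℕ} {φ : S →* MulAut K} {Q C : Subgroup K} (h : RelFix p φ Q C) : Q ≤ C :=
  fun q hq => (h.mem_iff q).mpr fun s => Q.mul_mem (h.stable s q hq) (Q.inv_mem hq)

theorem apply_mem_C {p : ℕ} {φ : S →* MulAut K} {Q C : Subgroup K} (h : RelFix p φ Q C) (s : S)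
    {k : K} (hk : k ∈ C) : φ s k ∈ C := (h.mem_iff _).mpr fun t => by
  have h1 := (h.mem_iff k).mp hk (t * s)
  have h2 := (h.mem_iff k).mp hk s
  have h3 := Q.mul_mem h1 (Q.inv_mem h2)
  simpa [map_mul, MulAut.mul_apply, mul_assoc] using h3

theorem classInner_ne_zero_trans {U B : Type*} [Group U] [Group B] [Fintype U] [Fintype B]
    {f : U → ℂ} (hf : Cfsg.IsCharacter U f) {ν : U → ℂ} (hν : Cfsg.IsIrrCharacter U ν) (j : B →* U)
    {θ : B → ℂ} (hθ : Cfsg.IsIrrCharacter B θ) (h1 : Cfsg.classInner f ν ≠ 0)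
    (h2 : Cfsg.classInner (ν ∘ j) θ ≠ 0) : Cfsg.classInner (f ∘ j) θ ≠ 0 := by
  obtain ⟨m, hm, hmi⟩ := char_decomp hf
  choose k hk using fun μ : Cfsg.IrrCharacter U => classInner_char_nat
    (isCharacter_comp (isCharacter_of_isIrr μ.2) j) (isCharacter_of_isIrr hθ)
  have he : f ∘ j = ∑ μ : Cfsg.IrrCharacter U, (m μ : ℂ) • ((μ : U → ℂ) ∘ j) := funext fun b => by
    simpa [Finset.sum_apply] using congrFun hm (j b)
  rw [he, classInner_sum_left]
  simp only [classInner_smul_left, hk]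
  intro h0
  have h0' : ∑ μ, m μ * k μ = 0 := by exact_mod_cast h0
  rcases Nat.mul_eq_zero.mp (Finset.sum_eq_zero_iff.mp h0' ⟨ν, hν⟩ (Finset.mem_univ _)) with h3 | h3
  · exact h1 (by rw [hmi ⟨ν, hν⟩, h3, Nat.cast_zero])
  · exact h2 (by rw [hk ⟨ν, hν⟩, h3, Nat.cast_zero])

variable [Fintype K] {p : ℕ} [hp : Fact p.Prime] {φ : S →* MulAut K} {Q C : Subgroup K} [Q.Normal]

theorem not_dvd_card_quot (h : RelFix p φ Q C) : ¬ p ∣ Nat.card (K ⧸ Q) := h.index

/-- An invariant `K`-invariant character of `Q` has an invariant extension to `K`. -/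
theorem exists_invariant_extension (h : RelFix p φ Q C) (θ : Cfsg.IrrCharacter Q)
    (hK : ∀ g : K, conjFun Q g (θ : Q → ℂ) = θ) (hS : InvOn φ Q (θ : Q → ℂ)) :
    ∃ χ : Cfsg.IrrCharacter K, (∀ q : Q, (χ : K → ℂ) q = (θ : Q → ℂ) q) ∧
      IsInvariant φ χ := by
  have := Fintype.ofFinite Q
  obtain ⟨a, ha⟩ := IsPGroup.iff_card.mp h.pQ
  obtain ⟨d, hd0, hd⟩ := exists_degree_pos θ.2
  have hd' : d ∣ Nat.card Q := degree_dvd_card θ.2 hd
  have hdetdvd : Cfsg.detOrder (θ : Q → ℂ) ∣ Nat.card Q := by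
    obtain ⟨k, ρ, -, hρ⟩ := id θ.2
    rw [Cfsg.detOrder, ← hρ, detChar_eq_detHom]
    show orderOf (linFun (detHom ρ)) ∣ _
    rw [orderOf_linFun]
    refine orderOf_dvd_of_pow_eq_one (MonoidHom.ext fun n => ?_)
    rw [MonoidHom.pow_apply, ← map_pow, pow_card_eq_one', map_one]
    rfl
  have hcp : Nat.Coprime Q.index (Nat.card Q) := by
    rw [ha]
    exact (Nat.Coprime.pow_right a (hp.out.coprime_iff_not_dvd.mpr h.index).symm)
  have hcop : Nat.Coprime Q.index (Cfsg.detOrder (θ : Q → ℂ) * d) :=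
    (hcp.coprime_dvd_right hdetdvd).mul_right (hcp.coprime_dvd_right hd')
  obtain ⟨χ, ⟨hχ, hχN, hχd⟩, huniq⟩ := Cfsg.Agent.S0867.result Q (θ : Q → ℂ) θ.2
    (fun g n => congrFun (hK g) n) d hd hcop
  refine ⟨⟨χ, hχ⟩, hχN, fun s g => ?_⟩
  have heq : χ ∘ (φ s : K ≃* K) = χ := by
    refine huniq _ (isIrr_comp_mulEquiv hχ _) (fun n => ?_) ?_
    · show χ (φ s (n : K)) = _
      rw [show φ s (n : K) = ((⟨φ s n, h.stable s n n.2⟩ : Q) : K) from rfl, hχN]
      exact hS s n ⟨φ s n, h.stable s n n.2⟩ rfl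
    · refine Nat.Coprime.coprime_dvd_right ?_ (hχd ▸ hcop.coprime_dvd_right (Dvd.intro d rfl))
      obtain ⟨k, σ, -, rfl⟩ := id hχ
      let σ' : Representation ℂ K (Fin k → ℂ) := σ.comp (φ s : K ≃* K).toMonoidHom
      have h2 : σ.character ∘ (φ s : K ≃* K) = σ'.character := rfl
      rw [h2, Cfsg.detOrder, Cfsg.detOrder, detChar_eq_detHom, detChar_eq_detHom]
      show orderOf (linFun (detHom σ')) ∣ orderOf (linFun (detHom σ))
      rw [orderOf_linFun, orderOf_linFun]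
      have h3 : detHom σ' = MonoidHom.compHom' (φ s : K ≃* K).toMonoidHom (detHom σ) := by
        ext g
        rfl
      rw [h3]
      exact orderOf_map_dvd (MonoidHom.compHom' (φ s : K ≃* K).toMonoidHom) (detHom σ)
  exact congrFun heq g

/-- The operators on the quotient. -/
def quotAut (h : RelFix p φ Q C) : S →* MulAut (K ⧸ Q) where
  toFun s := QuotientGroup.congr Q Q (φ s) (by
    ext x
    constructor
    · rintro ⟨y, hy, rfl⟩
      exact h.stable s y hy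
    · intro hx
      refine ⟨φ s⁻¹ x, h.stable s⁻¹ x hx, ?_⟩
      show φ s (φ s⁻¹ x) = x
      rw [← MulAut.mul_apply, ← map_mul, mul_inv_cancel, map_one]
      rfl)
  map_one' := MulEquiv.ext fun x => by
    induction x using QuotientGroup.induction_on with
    | _ k => simp
  map_mul' s t := MulEquiv.ext fun x => by
    induction x using QuotientGroup.induction_on with
    | _ k => simp [MulAut.mul_apply]

theorem quotAut_mk (h : RelFix p φ Q C) (s : S) (k : K) :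
    quotAut h s (k : K ⧸ Q) = ((φ s k : K) : K ⧸ Q) := rfl

theorem fixed_quot_iff (h : RelFix p φ Q C) (k : K) :
    (∀ s, quotAut h s (k : K ⧸ Q) = (k : K ⧸ Q)) ↔ k ∈ C := by
  rw [h.mem_iff]
  refine forall_congr' fun s => ?_
  rw [quotAut_mk, QuotientGroup.eq_iff_div_mem, div_eq_mul_inv]

/-- The correspondence over a `K`-invariant character of `Q`. -/
theorem core [Fintype C] [Fintype Q] (h : RelFix p φ Q C) (θ : Cfsg.IrrCharacter Q)
    (hK : ∀ g : K, conjFun Q g (θ : Q → ℂ) = θ) (hS : InvOn φ Q (θ : Q → ℂ))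
    (OverK : Cfsg.IrrCharacter K → Prop) (OverC : Cfsg.IrrCharacter C → Prop)
    (hOK : ∀ χ, OverK χ ↔ classInner (fun q : Q => (χ : K → ℂ) q) (θ : Q → ℂ) ≠ 0)
    (hOC : ∀ ν, OverC ν ↔
      classInner (fun q : Q => (ν : C → ℂ) ⟨q, le_C h q.2⟩) (θ : Q → ℂ) ≠ 0) :
    (∀ ν, OverC ν → InvOn φ C (ν : C → ℂ)) ∧
    (∀ ν, OverC ν → ∃ η, OverK η ∧ IsInvariant φ η ∧ ¬ p ∣ mult C.subtype η ν) ∧
    (∀ η, OverK η → IsInvariant φ η → ∃ ν, OverC ν ∧ ¬ p ∣ mult C.subtype η ν) ∧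
    (∀ η η' ν, OverK η → IsInvariant φ η → OverK η' → IsInvariant φ η' → OverC ν →
      ¬ p ∣ mult C.subtype η ν → ¬ p ∣ mult C.subtype η' ν → η = η') ∧
    (∀ η ν ν', OverK η → IsInvariant φ η → OverC ν → OverC ν' →
      ¬ p ∣ mult C.subtype η ν → ¬ p ∣ mult C.subtype η ν' → ν = ν') ∧
    (∀ η ν, OverK η → IsInvariant φ η → OverC ν → ¬ p ∣ mult C.subtype η ν →
      ((mult C.subtype η ν : ℤ) ≡ 1 [ZMOD p] ∨ (mult C.subtype η ν : ℤ) ≡ -1 [ZMOD p])) := by
  classical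
  have := Fintype.ofFinite (K ⧸ Q)
  have hQC := le_C h
  have := Fintype.ofFinite (Q.subgroupOf C)
  have := Fintype.ofFinite (C ⧸ Q.subgroupOf C)
  obtain ⟨X, hX, hXS⟩ := exists_invariant_extension h θ hK hS
  have hXc : Cfsg.IsCharacter K (X : K → ℂ) := isCharacter_of_isIrr X.2
  have hXres : Cfsg.IsIrrCharacter Q (fun q : Q => (X : K → ℂ) q) := by
    rw [show (fun q : Q => (X : K → ℂ) q) = (θ : Q → ℂ) from funext hX]; exact θ.2
  let XC : C → ℂ := fun c => (X : K → ℂ) c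
  have hXCc : Cfsg.IsCharacter C XC := isCharacter_res C hXc
  let eQ : Q.subgroupOf C ≃* Q := Subgroup.subgroupOfEquivOfLe hQC
  have hXCres : Cfsg.IsIrrCharacter (Q.subgroupOf C) (fun q : Q.subgroupOf C => XC q) :=
    isIrr_comp_mulEquiv hXres eQ
  let ι : C ⧸ Q.subgroupOf C →* K ⧸ Q :=
    QuotientGroup.map (Q.subgroupOf C) Q C.subtype (fun _ hx => hx)
  have hιmk : ∀ c : C, ι (c : C ⧸ Q.subgroupOf C) = ((c : K) : K ⧸ Q) := fun _ => rfl
  have hι : Function.Injective ι := by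
    refine (injective_iff_map_eq_one ι).mpr fun a ha => ?_
    obtain ⟨c, rfl⟩ := QuotientGroup.mk_surjective a
    rw [hιmk, QuotientGroup.eq_one_iff] at ha
    exact (QuotientGroup.eq_one_iff _).mpr ha
  have hfix : ∀ g, (∀ s, quotAut h s g = g) ↔ g ∈ ι.range := by
    intro g
    obtain ⟨k, rfl⟩ := QuotientGroup.mk_surjective g
    rw [fixed_quot_iff]
    constructor
    · exact fun hk => ⟨((⟨k, hk⟩ : C) : C ⧸ Q.subgroupOf C), rfl⟩
    · rintro ⟨a, ha⟩
      obtain ⟨c, rfl⟩ := QuotientGroup.mk_surjective a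
      rw [hιmk, QuotientGroup.eq] at ha
      simpa [mul_assoc] using C.mul_mem c.2 (hQC ha)
  have hG : ¬ p ∣ Nat.card (K ⧸ Q) := h.index
  -- the characters over `θ`
  have hK' : ∀ η, OverK η → ∃ l : Cfsg.IrrCharacter (K ⧸ Q),
      (η : K → ℂ) = (X : K → ℂ) * ((l : K ⧸ Q → ℂ) ∘ QuotientGroup.mk) := by
    intro η hη
    obtain ⟨l, hl, he⟩ := exists_eq_mul_comp_mk' Q hXc hXres η.2 (by
      rw [show (fun q : Q => (X : K → ℂ) q) = (θ : Q → ℂ) from funext hX]; exact (hOK η).mp hη)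
    exact ⟨⟨l, hl⟩, he⟩
  have hC' : ∀ ν, OverC ν → ∃ m : Cfsg.IrrCharacter (C ⧸ Q.subgroupOf C),
      (ν : C → ℂ) = XC * ((m : C ⧸ Q.subgroupOf C → ℂ) ∘ QuotientGroup.mk) := by
    intro ν hν
    obtain ⟨m, hm, he⟩ := exists_eq_mul_comp_mk' (Q.subgroupOf C) hXCc hXCres ν.2 (by
      have h1 := classInner_comp_mulEquiv eQ (fun q : Q => (ν : C → ℂ) ⟨q, hQC q.2⟩) (θ : Q → ℂ)
      intro h0
      refine (hOC ν).mp hν ?_
      rw [← h1, ← h0]
      congr 1
      exact funext fun q => (hX (eQ q)).symm)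
    exact ⟨⟨m, hm⟩, he⟩
  have hsplit : ∀ (η : Cfsg.IrrCharacter K) (ν : Cfsg.IrrCharacter C)
      (l : Cfsg.IrrCharacter (K ⧸ Q)) (m : Cfsg.IrrCharacter (C ⧸ Q.subgroupOf C)),
      (η : K → ℂ) = (X : K → ℂ) * ((l : K ⧸ Q → ℂ) ∘ QuotientGroup.mk) →
      (ν : C → ℂ) = XC * ((m : C ⧸ Q.subgroupOf C → ℂ) ∘ QuotientGroup.mk) →
      mult C.subtype η ν = mult ι l m := by
    intro η ν l m hη hν
    have h1 : (η : K → ℂ) ∘ C.subtype =
        XC * (((l : K ⧸ Q → ℂ) ∘ ι) ∘ QuotientGroup.mk) := by rw [hη]; rfl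
    have h2 := classInner_eq_mult C.subtype η ν
    rw [h1, hν, classInner_mul_mul_comp_mk' (Q.subgroupOf C) hXCc hXCres,
      classInner_eq_mult ι l m] at h2
    exact_mod_cast h2.symm
  have hlinv : ∀ (η : Cfsg.IrrCharacter K) (l : Cfsg.IrrCharacter (K ⧸ Q)),
      (η : K → ℂ) = (X : K → ℂ) * ((l : K ⧸ Q → ℂ) ∘ QuotientGroup.mk) →
      (IsInvariant φ η ↔ IsInvariant (quotAut h) l) := by
    intro η l he
    constructor
    · intro hη s g
      have h1 : (l : K ⧸ Q → ℂ) ∘ (quotAut h s : K ⧸ Q ≃* K ⧸ Q) = (l : K ⧸ Q → ℂ) := by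
        refine mul_comp_mk'_injective Q hXc hXres (isIrr_comp_mulEquiv l.2 _) l.2 (funext fun k => ?_)
        have h2 := hη s k
        simp only [he, Pi.mul_apply, Function.comp_apply, hXS s k] at h2
        simpa [quotAut_mk] using h2
      exact congrFun h1 g
    · intro hl s k
      simp only [he, Pi.mul_apply, Function.comp_apply, hXS s k]
      rw [← quotAut_mk h, hl s]
  have hμuniq : ∀ (ν ν' : Cfsg.IrrCharacter C) (m : Cfsg.IrrCharacter (C ⧸ Q.subgroupOf C)),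
      (ν : C → ℂ) = XC * ((m : C ⧸ Q.subgroupOf C → ℂ) ∘ QuotientGroup.mk) →
      (ν' : C → ℂ) = XC * ((m : C ⧸ Q.subgroupOf C → ℂ) ∘ QuotientGroup.mk) → ν = ν' :=
    fun ν ν' m h1 h2 => Subtype.ext (h1.trans h2.symm)
  refine ⟨?_, ?_, ?_, ?_, ?_, ?_⟩
  · intro ν hν s c c' hc
    obtain ⟨m, hm⟩ := hC' ν hν
    have h1 : (c' : C ⧸ Q.subgroupOf C) = (c : C ⧸ Q.subgroupOf C) := by
      rw [QuotientGroup.eq_iff_div_mem, Subgroup.mem_subgroupOf, Subgroup.coe_div, hc,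
        div_eq_mul_inv]
      exact (h.mem_iff _).mp c.2 s
    simp only [hm, Pi.mul_apply, Function.comp_apply, h1]
    congr 1
    show (X : K → ℂ) c' = (X : K → ℂ) c
    rw [hc, hXS]
  · intro ν hν
    obtain ⟨m, hm⟩ := hC' ν hν
    obtain ⟨l, hl, hlm⟩ := exists_invariant_mult h.pgroup hι hfix hG m
    let η : Cfsg.IrrCharacter K :=
      ⟨(X : K → ℂ) * ((l : K ⧸ Q → ℂ) ∘ QuotientGroup.mk), isIrr_mul_comp_mk' Q hXc hXres l.2⟩
    refine ⟨η, (hOK η).mpr ?_, (hlinv η l rfl).mpr hl, by rwa [hsplit η ν l m rfl hm]⟩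
    have h1 : (fun q : Q => (η : K → ℂ) q) = (l : K ⧸ Q → ℂ) 1 • (θ : Q → ℂ) := funext fun q => by
      show (X : K → ℂ) q * (l : K ⧸ Q → ℂ) ((q : K) : K ⧸ Q) = _
      rw [(QuotientGroup.eq_one_iff (q : K)).mpr q.2, hX, Pi.smul_apply, smul_eq_mul, mul_comm]
    rw [h1, classInner_smul_left, classInner_irr_self θ.2, mul_one]
    exact irr_one_ne_zero l.2
  · intro η hη hinv
    obtain ⟨l, hl⟩ := hK' η hη
    obtain ⟨m, hm⟩ := exists_mult_of_invariant h.pgroup hι hfix hG ((hlinv η l hl).mp hinv)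
    let ν : Cfsg.IrrCharacter C := ⟨XC * ((m : C ⧸ Q.subgroupOf C → ℂ) ∘ QuotientGroup.mk),
      isIrr_mul_comp_mk' (Q.subgroupOf C) hXCc hXCres m.2⟩
    refine ⟨ν, (hOC ν).mpr ?_, by rwa [hsplit η ν l m hl rfl]⟩
    have h1 : (fun q : Q => (ν : C → ℂ) ⟨q, hQC q.2⟩) =
        (m : C ⧸ Q.subgroupOf C → ℂ) 1 • (θ : Q → ℂ) := funext fun q => by
      show (X : K → ℂ) q * (m : C ⧸ Q.subgroupOf C → ℂ) ((⟨q, hQC q.2⟩ : C) : C ⧸ Q.subgroupOf C) = _
      rw [(QuotientGroup.eq_one_iff _).mpr (show (⟨(q : K), hQC q.2⟩ : C) ∈ Q.subgroupOf C from q.2),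
        hX, Pi.smul_apply, smul_eq_mul, mul_comm]
    rw [h1, classInner_smul_left, classInner_irr_self θ.2, mul_one]
    exact irr_one_ne_zero m.2
  · intro η η' ν hη hi hη' hi' hν h1 h2
    obtain ⟨l, hl⟩ := hK' η hη
    obtain ⟨l', hl'⟩ := hK' η' hη'
    obtain ⟨m, hm⟩ := hC' ν hν
    rw [hsplit η ν l m hl hm] at h1
    rw [hsplit η' ν l' m hl' hm] at h2
    obtain rfl := invariant_unique h.pgroup hι hfix hG ((hlinv η l hl).mp hi)
      ((hlinv η' l' hl').mp hi') h1 h2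
    exact Subtype.ext (hl.trans hl'.symm)
  · intro η ν ν' hη hi hν hν' h1 h2
    obtain ⟨l, hl⟩ := hK' η hη
    obtain ⟨m, hm⟩ := hC' ν hν
    obtain ⟨m', hm'⟩ := hC' ν' hν'
    rw [hsplit η ν l m hl hm] at h1
    rw [hsplit η ν' l m' hl hm'] at h2
    obtain rfl := mult_unique h.pgroup hι hfix hG ((hlinv η l hl).mp hi) h1 h2
    exact hμuniq ν ν' m hm hm'
  · intro η ν hη hi hν h1
    obtain ⟨l, hl⟩ := hK' η hη
    obtain ⟨m, hm⟩ := hC' ν hν
    rw [hsplit η ν l m hl hm] at h1 ⊢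
    exact mult_modEq h.pgroup hι hfix hG ((hlinv η l hl).mp hi) h1

end CfsgLib.CharBlocks.RelGlauberman
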