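import Cfsg.Agent.Lib.CharBlocks.RelGraph
import Cfsg.Agent.Lib.Char.BrolineGarrison
import Cfsg.Agent.Lib.Char.Linear
import Cfsg.Agent.Lib.CharNormal.Kernel

/-!
# Distances in the common-divisor graph on relative degrees

* `near_shift`: the one-step version of `link_shift`;
* `two_step`: two degrees far from the primes of `|N : N'|` have a common neighbour.
-/

set_option autoImplicit false

namespace CfsgLib.CharBlocks.RelGraph

open CfsgLib.Char CfsgLib.CharNormal

attribute [-instance] MonoidHom.instPow MonoidHom.mul MonoidHom.instInv instOneMonoidHom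

section Near

variable {G : Type*} [Group G] [Fintype G] {N : Subgroup G} [hN : N.Normal] [Fintype N] {q : ℕ}

variable (G N) in
/-- Two degrees in `cd(G|N)` with a common divisor greater than one. -/
def Near (a b : ℕ) : Prop :=
  a ∈ Cfsg.relCharDegrees N ∧ b ∈ Cfsg.relCharDegrees N ∧ ∃ r : ℕ, 1 < r ∧ r ∣ a ∧ r ∣ b

omit [Fintype G] [hN : N.Normal] [Fintype N] in
theorem near_of_dvd {a b r : ℕ} (ha : a ∈ Cfsg.relCharDegrees N) (hb : b ∈ Cfsg.relCharDegrees N)
    (hr : 1 < r) (h1 : r ∣ a) (h2 : r ∣ b) : Near G N a b := ⟨ha, hb, r, hr, h1, h2⟩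

theorem near_shift (hq : q.Prime) (hNG : N ≤ commutator G) {a : ℕ} (ha : a ∈ Cfsg.relCharDegrees N)
    (hqa : ¬ q ∣ a) {lz : N →* ℂˣ} (hlz : IsQ q lz) (hlz1 : lz ≠ 1) :
    (∃ μ : N →* ℂˣ, IsHub G N q μ ∧ (stab (G := G) μ).index ∣ a) ∨
      ∃ d, Near G N a d ∧ (stab (G := G) lz).index ∣ d ∧ ((stab (G := G) lz).index = 1 → q ∣ d) := by
  classical
  have ha' := ha
  obtain ⟨χ, hker, hdeg⟩ := ha
  obtain ⟨θ, hθi, hθ⟩ := exists_constituent (isCharacter_res N (isCharacter_of_isIrr χ.2))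
    (fun h0 => irr_one_ne_zero χ.2 (congrFun h0 1))
  set θI : Cfsg.IrrCharacter N := ⟨θ, hθi⟩
  obtain ⟨m, hm⟩ : ∃ m : ℕ, (θI : N → ℂ) 1 = (m : ℂ) := ⟨_, (coe_charDegree_irr θI).symm⟩
  have hθne : (θI : N → ℂ) ≠ fun _ => 1 := by
    intro h
    obtain ⟨x, hx, hne⟩ := hker
    have h2 := res_eq_smul_sum_orbit N χ.2 θI hθ
    rw [orbit_eq_singleton N fun g => by rw [h]; rfl, Finset.sum_singleton] at h2
    have e1 := congrFun h2 ⟨x, hx⟩
    have e2 := congrFun h2 1
    rw [h] at e1 e2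
    simp only [Pi.smul_apply, OneMemClass.coe_one] at e1 e2
    exact hne (e1.trans e2.symm)
  have hover : Over (G := G) θI a := ⟨χ, hθ, hdeg⟩
  obtain ⟨e, he⟩ := hover.degree hm
  have hqm : ¬ q ∣ m := fun h => hqa (he ▸ h.mul_left _)
  obtain ⟨μ, θ₀, n', hμ, hn', hD0, hm0, hθ0, hstab⟩ := normalise hq θI hm hqm
  have hia : (inertia N (θI : N → ℂ)).index ∣ a := ⟨e * m, by rw [he]; ring⟩
  have hμa : (stab (G := G) μ).index ∣ a :=
    (Subgroup.index_dvd_of_le (hstab.trans inf_le_right)).trans hia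
  by_cases hμ1 : (stab (G := G) μ).index = 1
  swap
  · refine Or.inl ⟨μ, ⟨hμ, fun h => hμ1 (by rw [h, stab_one, Subgroup.index_top]),
      fun h => hqa (h.trans hμa), hμ1⟩, hμa⟩
  refine Or.inr ?_
  have hμtop : stab (G := G) μ = ⊤ := Subgroup.index_eq_one.1 hμ1
  set η : Cfsg.IrrCharacter N := ⟨_, isIrr_mul_linear θ₀.2 (isCharacter_of_isIrr (linFun_isIrr lz))
    (linFun_one_apply lz)⟩ with hηdef
  have hη1 : (η : N → ℂ) 1 = (m : ℂ) := by simp [η, Pi.mul_apply, linFun_one_apply, hm0]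
  have hDη : dHom (η : N → ℂ) = lz ^ m * dHom (θ₀ : N → ℂ) :=
    dHom_mul_lin (isCharacter_of_isIrr θ₀.2) hm0 lz
  have hηD : dHom (η : N → ℂ) ^ n' = lz ^ (m * n') := by rw [hDη, mul_pow, hD0, pow_mul]; exact mul_one ((lz ^ m) ^ n')
  obtain ⟨k, hk⟩ := hlz
  have hmn : Nat.Coprime (m * n') (q ^ k) :=
    ((Nat.Prime.coprime_iff_not_dvd hq).2 fun h => (hq.dvd_mul.1 h).elim hqm hn').symm.pow_right k
  have hTη : inertia N (η : N → ℂ) ≤ inertia N (θ₀ : N → ℂ) ⊓ stab lz := by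
    intro g hg
    rw [mem_inertia] at hg
    have hgD : cjHom g (dHom (η : N → ℂ)) = dHom (η : N → ℂ) := by
      rw [← dHom_conjFun (isCharacter_of_isIrr η.2), hg]
    have hgl : g ∈ stab (G := G) (lz ^ (m * n')) := by
      rw [mem_stab, ← hηD, cjHom_pow, hgD]
    rw [stab_pow_eq hk hmn] at hgl
    refine ⟨?_, hgl⟩
    show conjFun N g (θ₀ : N → ℂ) = (θ₀ : N → ℂ)
    funext n
    have e1 := congrFun hg n
    have e2 := congrFun ((conjFun_linFun g lz).trans (congrArg linFun (mem_stab.1 hgl))) n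
    rw [conjFun_apply] at e1 e2 ⊢
    simp only [η, Pi.mul_apply, e2] at e1
    exact mul_right_cancel₀ (by rw [linFun_apply]; exact Units.ne_zero _) e1
  obtain ⟨d, hd⟩ := exists_over (G := G) η
  obtain ⟨e', he'⟩ := hd.degree hη1
  have hid : (inertia N (η : N → ℂ)).index ∣ d := ⟨e' * m, by rw [he']; ring⟩
  have hηne : (η : N → ℂ) ≠ fun _ => 1 := by
    intro h
    have h1 : dHom (η : N → ℂ) = 1 := by
      rw [h, show (fun _ : N => (1 : ℂ)) = linFun (1 : N →* ℂˣ) from funext fun n => by simp [linFun_apply],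
        dHom_linFun]
    have h2 := q_dvd_of_pow hq ⟨k, hk⟩ hlz1 (k := m * n') (by rw [← hηD, h1, one_pow])
    exact (hq.dvd_mul.1 h2).elim hqm hn'
  refine ⟨d, ?_, (Subgroup.index_dvd_of_le (hTη.trans inf_le_right)).trans hid, fun hl1 => ?_⟩
  swap
  · -- an invariant shift forces `q` into the degree
    obtain ⟨e'', hd'', hdet⟩ := det_orbit hNG hd hη1
    have hconst : ∀ ψ ∈ orbit N η, dHom (ψ : N → ℂ) ^ n' = lz ^ (m * n') := by
      intro ψ hψ
      obtain ⟨g, hg⟩ := (mem_orbit N).1 hψ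
      rw [← hg, dHom_conjFun (isCharacter_of_isIrr η.2), ← cjHom_pow, hηD, cjHom_pow,
        mem_stab.1 (by rw [Subgroup.index_eq_one.1 hl1]; exact Subgroup.mem_top g : g ∈ stab (G := G) lz)]
    have h := congrArg (fun f : N →* ℂˣ => f ^ n') hdet
    simp only [one_pow] at h
    rw [← pow_mul, mul_comm, pow_mul, ← Finset.prod_pow, Finset.prod_congr rfl hconst, Finset.prod_const,
      ← pow_mul, ← pow_mul] at h
    have h2 := q_dvd_of_pow hq ⟨k, hk⟩ hlz1 h
    rw [show m * n' * ((orbit N η).card * e'') = d * n' by rw [hd'']; ring] at h2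
    exact (hq.dvd_mul.1 h2).resolve_right hn'
  have hT : inertia N (θI : N → ℂ) ≤ inertia N (θ₀ : N → ℂ) := hstab.trans inf_le_left
  by_cases hI : (inertia N (θ₀ : N → ℂ)).index = 1
  swap
  · exact near_of_dvd ha' (hd.mem hηne)
      (Nat.one_lt_iff_ne_zero_and_ne_one.2 ⟨Subgroup.index_ne_zero_of_finite, hI⟩)
      ((Subgroup.index_dvd_of_le hT).trans hia)
      ((Subgroup.index_dvd_of_le (hTη.trans inf_le_left)).trans hid)
  by_cases hm1 : m = 1
  swap
  · refine near_of_dvd ha' (hd.mem hηne) (r := m) ?_ ⟨_, by rw [he, mul_comm]⟩ ⟨_, by rw [he', mul_comm]⟩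
    rcases Nat.lt_or_ge 1 m with h | h
    · exact h
    · interval_cases m
      · exact absurd (dvd_zero q) hqm
      · exact absurd rfl hm1
  -- `θ₀` is an invariant linear character, the determinant of `χ` links
  subst hm1
  obtain ⟨f, hf⟩ := exists_linHom (isCharacter_of_isIrr θI.2) (by simpa using hm)
  obtain ⟨f₀, hf₀⟩ := exists_linHom (isCharacter_of_isIrr θ₀.2) (by simpa using hm0)
  have hff : f = f₀ * μ := linFun_injective (by
    rw [hf, hθ0, ← hf₀]; funext n; simp [linFun_apply, Pi.mul_apply])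
  have hf0inv : ∀ g : G, cjHom g f₀ = f₀ := fun g => by
    have h : g ∈ inertia N (θ₀ : N → ℂ) := by rw [Subgroup.index_eq_one.1 hI]; exact Subgroup.mem_top g
    rw [← hf₀] at h
    exact mem_stab.1 h
  have hfinv : ∀ g : G, conjFun N g (θI : N → ℂ) = (θI : N → ℂ) := fun g => by
    rw [← hf, conjFun_linFun, hff, cjHom_mul, hf0inv,
      mem_stab.1 (by rw [hμtop]; exact Subgroup.mem_top g : g ∈ stab (G := G) μ)]
  obtain ⟨e1, ha1, hdet1⟩ := det_orbit hNG hover hm
  rw [orbit_eq_singleton N hfinv, Finset.prod_singleton, ← hf, dHom_linFun] at hdet1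
  rw [orbit_eq_singleton N hfinv, Finset.card_singleton, mul_one, mul_one] at ha1
  subst ha1
  have hf0n : f₀ ^ n' = 1 := by rw [← dHom_linFun f₀, hf₀]; exact hD0
  have hμe : μ = 1 := by
    by_contra hne
    have h := congrArg (fun x : N →* ℂˣ => x ^ n') hdet1
    simp only [one_pow] at h
    rw [hff, mul_pow, mul_pow, ← pow_mul f₀, mul_comm a n', pow_mul, hf0n, one_pow, one_mul, ← pow_mul] at h
    exact (hq.dvd_mul.1 (q_dvd_of_pow hq hμ hne h)).elim hqa hn'
  replace hff : f = f₀ := by rw [hff, hμe]; exact mul_one f₀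
  subst hff
  have hf1 : f ≠ 1 := fun h => hθne (by rw [← hf, h]; exact funext fun n => by simp [linFun_apply])
  obtain ⟨r, hr, hrf⟩ := Nat.exists_prime_and_dvd (fun h => hf1 (orderOf_eq_one_iff.1 h))
  have hra : r ∣ a := hrf.trans (orderOf_dvd_of_pow_eq_one hdet1)
  obtain ⟨e2, hd2, hdet2⟩ := det_orbit hNG hd hη1
  have hηeq : ∀ ψ ∈ orbit N η, dHom (ψ : N → ℂ) ^ q ^ k = f ^ q ^ k := by
    intro ψ hψ
    obtain ⟨g, hg⟩ := (mem_orbit N).1 hψ
    rw [← hg, dHom_conjFun (isCharacter_of_isIrr η.2), hDη, ← hf₀, dHom_linFun, pow_one, cjHom_mul,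
      hf0inv, mul_pow, ← cjHom_pow, hk, cjHom_one']
    exact one_mul (f ^ q ^ k)
  have h := congrArg (fun x : N →* ℂˣ => x ^ q ^ k) hdet2
  simp only [one_pow] at h
  rw [← pow_mul, mul_comm, pow_mul, ← Finset.prod_pow, Finset.prod_congr rfl hηeq, Finset.prod_const,
    ← pow_mul, ← pow_mul] at h
  have hrd : r ∣ d := by
    have h2 : r ∣ q ^ k * ((orbit N η).card * e2) := hrf.trans (orderOf_dvd_of_pow_eq_one h)
    rcases hr.dvd_mul.1 h2 with h3 | h3
    · exact absurd (((Nat.prime_dvd_prime_iff_eq hr hq).1 (hr.dvd_of_dvd_pow h3)) ▸ hra) hqa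
    · rw [hd2, mul_one, mul_comm e2]; exact h3
  exact near_of_dvd ha' (hd.mem hηne) hr.one_lt hra hrd


/-- A linear character of `r`-power order with a chosen nontrivial value. -/
theorem exists_isQ (hq : q.Prime) (hm : q ∣ (commutator N).index) :
    ∃ l : N →* ℂˣ, IsQ q l ∧ l ≠ 1 := by
  classical
  rw [Subgroup.index_eq_card] at hm
  have := Fact.mk hq
  have : Finite (Abelianization N) := inferInstanceAs (Finite (N ⧸ commutator N))
  obtain ⟨x, hx⟩ := exists_prime_orderOf_dvd_card' (G := Abelianization N) q hm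
  have hx1 : x ≠ 1 := fun h => hq.ne_one (by rw [← hx, h, orderOf_one])
  have : NeZero (Monoid.exponent (Abelianization N) : ℂ) :=
    ⟨by exact_mod_cast Monoid.exponent_ne_zero_of_finite⟩
  obtain ⟨φ, hφ⟩ := CommGroup.exists_apply_ne_one_of_hasEnoughRootsOfUnity (Abelianization N) ℂ hx1
  obtain ⟨a, n', hn', -, hn⟩ := exists_parts hq (φ.comp Abelianization.of)
  refine ⟨(φ.comp Abelianization.of) ^ n', ⟨a, by rw [← pow_mul, mul_comm, hn]⟩, fun h => hφ ?_⟩
  obtain ⟨y, rfl⟩ := QuotientGroup.mk_surjective x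
  have h1 : φ (Abelianization.of y) ^ n' = 1 := by
    have := DFunLike.congr_fun h y
    rwa [hpow_apply] at this
  have h2 : φ (Abelianization.of y) ^ q = 1 := by
    rw [← map_pow, show (Abelianization.of y) ^ q = 1 from hx ▸ pow_orderOf_eq_one _, map_one]
  exact orderOf_eq_one_iff.1 (Nat.eq_one_of_dvd_coprimes ((Nat.Prime.coprime_iff_not_dvd hq).2 hn')
    (orderOf_dvd_of_pow_eq_one h2) (orderOf_dvd_of_pow_eq_one h1))

end Near

section Descent

variable {G : Type*} [Group G] [Fintype G]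

/-- A degree is `π`-far when all its neighbours are prime to every prime dividing `m`. -/
def Far (N : Subgroup G) (m a : ℕ) : Prop :=
  ∀ d ∈ Cfsg.relCharDegrees N, ∀ r : ℕ, 1 < r → r ∣ a → r ∣ d → Nat.Coprime d m

/-- A common neighbour. -/
def CommonNbr (N : Subgroup G) (a b : ℕ) : Prop :=
  ∃ d ∈ Cfsg.relCharDegrees N, ¬ Nat.Coprime a d ∧ ¬ Nat.Coprime d b

omit [Fintype G] in
theorem rel_mono {K N : Subgroup G} (h : K ≤ N) {a : ℕ} (ha : a ∈ Cfsg.relCharDegrees K) :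
    a ∈ Cfsg.relCharDegrees N := by
  obtain ⟨χ, ⟨x, hx, hne⟩, hd⟩ := ha
  exact ⟨χ, ⟨x, h hx, hne⟩, hd⟩

theorem not_cop {r a b : ℕ} (hr : 1 < r) (h1 : r ∣ a) (h2 : r ∣ b) : ¬ Nat.Coprime a b :=
  Nat.not_coprime_of_dvd_of_dvd hr h1 h2

/-- An `r`-power linear character of `K ≤ N'` fixed by `N` is trivial when `r` is prime to `|N : K|` and `|N : N'|`. -/
theorem index_moved {N K : Subgroup G} [K.Normal] [Fintype K] [N.Normal] (hKN : K ≤ ⁅N, N⁆) {r : ℕ}
    (hr : r.Prime) (hrm : ¬ r ∣ K.relIndex N) {ν : K →* ℂˣ} (hν : IsQ r ν) (hν1 : ν ≠ 1) :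
    ∃ q : ℕ, q.Prime ∧ q ∣ K.relIndex N ∧ q ∣ (stab (G := G) ν).index := by
  classical
  have hKN' : K ≤ N := hKN.trans (Subgroup.commutator_le_left N N)
  set S := stab (G := G) ν
  have hKS : K ≤ S := fun k hk => mem_stab.2 (MonoidHom.ext fun n => by
    rw [cjHom_apply, show (⟨k * n * k⁻¹, _⟩ : K) = (⟨k, hk⟩ : K) * n * (⟨k, hk⟩ : K)⁻¹ from rfl,
      map_mul, map_mul, map_inv, mul_inv_cancel_comm])
  have h1 : S.relIndex N ∣ K.relIndex N := Subgroup.relIndex_dvd_of_le_left _ hKS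
  have h2 : S.relIndex N ∣ S.index := by
    obtain ⟨t, ht⟩ := Subgroup.relIndex_dvd_index_of_normal N S
    have e1 := Subgroup.relIndex_mul_index (inf_le_left : S ⊓ N ≤ S)
    have e2 := Subgroup.relIndex_mul_index (inf_le_right : S ⊓ N ≤ N)
    rw [Subgroup.inf_relIndex_left] at e1
    rw [Subgroup.inf_relIndex_right] at e2
    rw [← e1, ht, ← mul_assoc] at e2
    have hpos : 0 < N.relIndex S := Nat.pos_of_ne_zero Subgroup.index_ne_zero_of_finite
    refine ⟨t, Nat.eq_of_mul_eq_mul_left hpos ?_⟩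
    rw [← mul_assoc, mul_comm (N.relIndex S) (S.relIndex N)]
    exact e2.symm
  by_cases h3 : S.relIndex N = 1
  swap
  · obtain ⟨q, hq, hqd⟩ := Nat.exists_prime_and_dvd h3
    exact ⟨q, hq, hqd.trans h1, hqd.trans h2⟩
  exfalso
  have hNS : N ≤ S := Subgroup.relIndex_eq_one.1 h3
  let K' : Subgroup N := K.subgroupOf N
  let lam : K' → ℂ := fun n => (ν ⟨((n : N) : G), n.2⟩ : ℂ)
  let e : K' →* K := (Subgroup.subgroupOfEquivOfLe hKN').toMonoidHom
  have hlam : lam = linFun (ν.comp e) := rfl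
  obtain ⟨k, hk⟩ := hν
  have hord : orderOf lam ∣ r ^ k := by
    rw [hlam, orderOf_linFun]
    exact orderOf_dvd_of_pow_eq_one (MonoidHom.ext fun n => DFunLike.congr_fun hk (e n))
  have hcop : Nat.Coprime K'.index (orderOf lam) :=
    Nat.Coprime.coprime_dvd_right hord (((Nat.Prime.coprime_iff_not_dvd hr).2 hrm).symm.pow_right k)
  obtain ⟨f, ⟨hf, -⟩, -⟩ := canonical_linear_extension K' (lam := lam)
    (hlam ▸ isCharacter_linFun _) (fun g n => by
      have := DFunLike.congr_fun (mem_stab.1 (hNS g.2)) ⟨((n : N) : G), n.2⟩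
      exact congrArg Units.val this) hcop
  refine hν1 (MonoidHom.ext fun x => ?_)
  have hx : (⟨x, hKN' x.2⟩ : N) ∈ commutator N := by
    have h := hKN x.2
    rw [← Subgroup.map_subtype_commutator] at h
    obtain ⟨y, hy, hyx⟩ := h
    exact (show y = ⟨x, hKN' x.2⟩ from Subtype.ext hyx) ▸ hy
  have h := hf ⟨⟨x, hKN' x.2⟩, x.2⟩
  rw [linFun_apply] at h
  have h' : f ⟨x, hKN' x.2⟩ = 1 := Abelianization.commutator_subset_ker f hx
  rw [h'] at h
  exact Units.ext (by simpa [lam] using h.symm)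

/-- Degrees nontrivial on `K` but trivial on `K'` have a hub. -/
theorem hub_of_linear {K : Subgroup G} [K.Normal] [Fintype K] (hKG : K ≤ commutator G) {a m : ℕ}
    (hall : ∀ r : ℕ, r.Prime → r ∣ (commutator K).index → r ∣ m) (hcop : Nat.Coprime a m)
    (ha : a ∈ Cfsg.relCharDegrees K) :
    a ∈ Cfsg.relCharDegrees ⁅K, K⁆ ∨
      ∃ (r : ℕ) (l : K →* ℂˣ), r.Prime ∧ r ∣ (commutator K).index ∧ IsHub G K r l ∧
        (stab (G := G) l).index ∣ a := by
  classical
  obtain ⟨χ, hker, hdeg⟩ := ha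
  by_cases hK' : ∃ x ∈ ⁅K, K⁆, (χ : G → ℂ) x ≠ (χ : G → ℂ) 1
  · exact Or.inl ⟨χ, hK', hdeg⟩
  push Not at hK'
  refine Or.inr ?_
  obtain ⟨θ, hθi, hθ⟩ := exists_constituent (isCharacter_res K (isCharacter_of_isIrr χ.2))
    (fun h0 => irr_one_ne_zero χ.2 (congrFun h0 1))
  set θI : Cfsg.IrrCharacter K := ⟨θ, hθi⟩
  have hθK : ∀ x : K, x ∈ commutator K → θ x = θ 1 := by
    intro x hx
    refine CfsgLib.Broline.constituent_apply_eq (isCharacter_res K (isCharacter_of_isIrr χ.2)) hθi hθ ?_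
    refine hK' x ?_
    rw [← Subgroup.map_subtype_commutator]
    exact Subgroup.mem_map_of_mem _ hx
  have h1 : θ 1 = 1 := by
    obtain ⟨φ, hφ, he⟩ := exists_irr_eq_comp_mk' (commutator K) hθi hθK
    rw [← he]
    have := Fintype.ofFinite (K ⧸ commutator K)
    refine irr_one_eq_one_of_comm (G := K ⧸ commutator K) (χ := φ) (fun a b => ?_) hφ
    exact mul_comm (G := Abelianization K) a b
  obtain ⟨f, hf⟩ := exists_linHom (isCharacter_of_isIrr hθi) h1
  have hf1 : f ≠ 1 := by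
    rintro rfl
    obtain ⟨x, hx, hne⟩ := hker
    have h2 := res_eq_smul_sum_orbit K χ.2 θI hθ
    have hθ1 : ∀ y : K, θ y = 1 := fun y => by rw [← congrFun hf y, linFun_apply]; rfl
    rw [orbit_eq_singleton K fun g => by funext y; rw [conjFun_apply]; exact (hθ1 _).trans (hθ1 y).symm,
      Finset.sum_singleton] at h2
    have e1 := congrFun h2 ⟨x, hx⟩
    have e2 := congrFun h2 1
    simp only [Pi.smul_apply, OneMemClass.coe_one, θI, hθ1] at e1 e2
    exact hne (e1.trans e2.symm)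
  obtain ⟨r, hr, hro⟩ := Nat.exists_prime_and_dvd (fun h => hf1 (orderOf_eq_one_iff.1 h))
  have hfc : f ^ (commutator K).index = 1 :=
    pow_index_eq_one_of_trivial (commutator K) fun n => Abelianization.commutator_subset_ker f n.2
  have hrc : r ∣ (commutator K).index := hro.trans (orderOf_dvd_of_pow_eq_one hfc)
  have hra : ¬ r ∣ a := fun h => hr.ne_one (Nat.eq_one_of_dvd_coprimes hcop h (hall r hr hrc))
  have hfo : orderOf f ≠ 0 := fun h0 => by
    have := orderOf_dvd_of_pow_eq_one (hom_pow_card f)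
    rw [h0, zero_dvd_iff] at this
    exact Nat.card_pos.ne' this
  obtain ⟨t, ht⟩ := hro
  have hl : orderOf (f ^ t) = r := by
    have ht0 : t ≠ 0 := fun h0 => hfo (by rw [ht, h0, mul_zero])
    rw [orderOf_pow' f ht0, ht, Nat.gcd_eq_right (dvd_mul_left t r)]
    exact Nat.mul_div_cancel r (Nat.pos_of_ne_zero ht0)
  have hl1 : f ^ t ≠ 1 := fun h => hr.ne_one (by rw [← hl, h, orderOf_one])
  have hlq : IsQ r (f ^ t) := ⟨1, by rw [pow_one]; exact hl ▸ pow_orderOf_eq_one (f ^ t)⟩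
  have hθl : θI = lin f := Subtype.ext hf.symm
  have hover : Over (G := G) θI a := ⟨χ, hθ, hdeg⟩
  have hfa : (stab (G := G) f).index ∣ a := over_lin_index (hθl ▸ hover)
  have hia : (stab (G := G) (f ^ t)).index ∣ a :=
    (Subgroup.index_dvd_of_le (stab_le_pow f t)).trans hfa
  refine ⟨r, f ^ t, hr, hrc, ⟨hlq, hl1, fun h => hra (h.trans hia), fun h => ?_⟩, hia⟩
  obtain ⟨e, he, hdet⟩ := det_orbit hKG hover (m := 1) (by simpa using h1)
  have hconst : ∀ ψ ∈ orbit K θI, dHom (ψ : K → ℂ) ^ t = f ^ t := by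
    intro ψ hψ
    obtain ⟨g, hg⟩ := (mem_orbit K).1 hψ
    rw [← hg, dHom_conjFun (isCharacter_of_isIrr hθi), show θ = linFun f from hf.symm,
      dHom_linFun, ← cjHom_pow]
    exact mem_stab.1 (by rw [Subgroup.index_eq_one.1 h]; exact Subgroup.mem_top g)
  have h2 := congrArg (fun x : K →* ℂˣ => x ^ t) hdet
  simp only [one_pow] at h2
  rw [← pow_mul, mul_comm, pow_mul, ← Finset.prod_pow, Finset.prod_congr rfl hconst, Finset.prod_const,
    ← pow_mul] at h2
  exact hra (by rw [he, mul_one, mul_comm e]; exact q_dvd_of_pow hr hlq hl1 h2)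

/-- A vertex with a hub has a common neighbour with every other one. -/
theorem common_of_hub {N K : Subgroup G} [K.Normal] [Fintype K] (hKN : K ≤ N) (hKG : K ≤ commutator G)
    {r : ℕ} (hr : r.Prime) {l : K →* ℂˣ} (hl : IsHub G K r l) {a b : ℕ}
    (hla : (stab (G := G) l).index ∣ a) (hb : b ∈ Cfsg.relCharDegrees K) (hrb : ¬ r ∣ b) :
    CommonNbr N a b := by
  classical
  have hi : 1 < (stab (G := G) l).index :=
    Nat.one_lt_iff_ne_zero_and_ne_one.2 ⟨Subgroup.index_ne_zero_of_finite, hl.2.2.2⟩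
  rcases near_shift hr hKG hb hrb hl.1 hl.2.1 with ⟨μ, hμ, hμb⟩ | ⟨d, ⟨-, hd, s, hs, h1, h2⟩, h3, -⟩
  swap
  · exact ⟨d, rel_mono hKN hd, not_cop hi hla h3, not_cop hs h2 h1⟩
  by_cases hc : Nat.Coprime (stab (G := G) l).index (stab (G := G) μ).index
  · have h1 := not_coprime_stab_mul hr hl.1 hl.2.2.2 hμ.2.2.1 hc
    have h2 := not_coprime_stab_mul hr hμ.1 hμ.2.2.2 hl.2.2.1 hc.symm
    rw [mul_comm μ l] at h2
    have hne : l * μ ≠ 1 := fun e => h1 (by rw [e, stab_one, Subgroup.index_top]; exact Nat.coprime_one_left _)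
    obtain ⟨d, hd⟩ := exists_over (G := G) (lin (l * μ))
    obtain ⟨s, hs, s1, s2⟩ := Nat.Prime.not_coprime_iff_dvd.1 h1
    obtain ⟨u, hu, u1, u2⟩ := Nat.Prime.not_coprime_iff_dvd.1 h2
    exact ⟨d, rel_mono hKN (hd.mem (lin_ne_one hne)),
      not_cop hs.one_lt (s2.trans hla) (s1.trans (over_lin_index hd)),
      not_cop hu.one_lt (u1.trans (over_lin_index hd)) (u2.trans hμb)⟩
  · obtain ⟨s, hs, s1, s2⟩ := Nat.Prime.not_coprime_iff_dvd.1 hc
    obtain ⟨d, hd⟩ := exists_over (G := G) (lin l)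
    exact ⟨d, rel_mono hKN (hd.mem (lin_ne_one hl.2.1)),
      not_cop hi hla (over_lin_index hd), not_cop hs.one_lt (s1.trans (over_lin_index hd)) (s2.trans hμb)⟩

/-- The degree prime to `r` of a far vertex cannot see a new prime `r`. -/
theorem dvd_of_far {N K : Subgroup G} [K.Normal] [Fintype K] [N.Normal] (hK : K ≤ ⁅N, N⁆)
    (hKG : K ≤ commutator G) {m r : ℕ} (hall : ∀ q : ℕ, q.Prime → q ∣ K.relIndex N → q ∣ m)
    (hr : r.Prime) (hrc : r ∣ (commutator K).index) (hrm : ¬ r ∣ m) {a : ℕ}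
    (ha : a ∈ Cfsg.relCharDegrees K) (hcop : Nat.Coprime a m) (hfar : Far N m a) : r ∣ a := by
  classical
  by_contra hra
  obtain ⟨lz, hlz, hlz1⟩ := exists_isQ hr hrc
  have hKN : K ≤ N := hK.trans (Subgroup.commutator_le_left N N)
  have hrK : ¬ r ∣ K.relIndex N := fun h => hrm (hall r hr h)
  rcases near_shift hr hKG ha hra hlz hlz1 with ⟨μ, hμ, hμa⟩ | ⟨d, ⟨-, hd, s, hs, h1, h2⟩, h3, -⟩
  · obtain ⟨q, hq, hqK, hqi⟩ := index_moved hK hr hrK hμ.1 hμ.2.1
    exact hq.ne_one (Nat.eq_one_of_dvd_coprimes hcop (hqi.trans hμa) (hall q hq hqK))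
  · obtain ⟨q, hq, hqK, hqi⟩ := index_moved hK hr hrK hlz hlz1
    exact hq.ne_one (Nat.eq_one_of_dvd_coprimes (hfar d (rel_mono hKN hd) s hs h1 h2) (hqi.trans h3)
      (hall q hq hqK))

/-- Two far vertices have a common neighbour. -/
theorem two_step (N : Subgroup G) [N.Normal] [Group.IsSolvable N] (hNG : N ≤ commutator G) {m : ℕ}
    (hm : ⁅N, N⁆.relIndex N = m) {a b : ℕ}
    (ha : a ∈ Cfsg.relCharDegrees N) (hb : b ∈ Cfsg.relCharDegrees N)
    (hca : Nat.Coprime a m) (hcb : Nat.Coprime b m) (hfa : Far N m a) (hfb : Far N m b) :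
    CommonNbr N a b := by
  classical
  suffices H : ∀ (n : ℕ) (K : Subgroup G), Nat.card K = n → K.Normal → K ≤ N →
      (K = N ∨ K ≤ ⁅N, N⁆) → (∀ q : ℕ, q.Prime → q ∣ K.relIndex N → q ∣ m) →
      a ∈ Cfsg.relCharDegrees K → b ∈ Cfsg.relCharDegrees K → CommonNbr N a b by
    exact H _ N rfl inferInstance le_rfl (Or.inl rfl)
      (fun q hq h => absurd (by rwa [Subgroup.relIndex_self, Nat.dvd_one] at h) hq.ne_one) ha hb
  intro n
  induction n using Nat.strong_induction_on with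
  | _ n ih =>
    intro K hcard hKn hKN hcase hall haK hbK
    have := Fintype.ofFinite K
    have hKG : K ≤ commutator G := hKN.trans hNG
    have hidx : ⁅K, K⁆.relIndex K = (commutator K).index := by
      rw [← Subgroup.map_subtype_commutator, Subgroup.relIndex, Subgroup.subgroupOf,
        Subgroup.comap_map_eq_self_of_injective K.subtype_injective]
    by_cases hnew : ∃ r : ℕ, r.Prime ∧ r ∣ (commutator K).index ∧ ¬ r ∣ m
    · obtain ⟨r, hr, hrc, hrm⟩ := hnew
      rcases hcase with rfl | hK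
      · exact absurd (by rw [← hm, hidx]; exact hrc) hrm
      have h1 := dvd_of_far hK hKG hall hr hrc hrm haK hca hfa
      have h2 := dvd_of_far hK hKG hall hr hrc hrm hbK hcb hfb
      exact ⟨a, rel_mono hKN haK, not_cop hr.one_lt h1 h1, not_cop hr.one_lt h1 h2⟩
    push Not at hnew
    rcases hub_of_linear hKG hnew hca haK with haK' | ⟨r, l, hr, hrc, hl, hla⟩
    swap
    · exact common_of_hub hKN hKG hr hl hla hbK
        fun h => hr.ne_one (Nat.eq_one_of_dvd_coprimes hcb h (hnew r hr hrc))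
    rcases hub_of_linear hKG hnew hcb hbK with hbK' | ⟨r, l, hr, hrc, hl, hlb⟩
    swap
    · obtain ⟨d, hd, h1, h2⟩ := common_of_hub hKN hKG hr hl hlb haK
        fun h => hr.ne_one (Nat.eq_one_of_dvd_coprimes hca h (hnew r hr hrc))
      exact ⟨d, hd, fun h => h2 h.symm, fun h => h1 h.symm⟩
    have hKb : K ≠ ⊥ := by
      rintro rfl
      obtain ⟨χ, ⟨x, hx, hne⟩, -⟩ := haK
      exact hne (by rw [Subgroup.mem_bot.1 hx])
    have hle : ⁅K, K⁆ ≤ K := Subgroup.commutator_le_left K K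
    have hlt : Nat.card (⁅K, K⁆ : Subgroup G) < n := by
      have : Nontrivial K := (Subgroup.nontrivial_iff_ne_bot K).2 hKb
      have : Group.IsSolvable K :=
        solvable_of_solvable_injective (f := Subgroup.inclusion hKN) (Subgroup.inclusion_injective hKN)
      have hs : (commutator K) < ⊤ := IsSolvable.commutator_lt_top_of_nontrivial K
      rw [← hcard, ← Subgroup.map_subtype_commutator, Subgroup.card_map_of_injective K.subtype_injective]
      exact lt_of_le_of_ne (Nat.le_of_dvd Nat.card_pos (Subgroup.card_subgroup_dvd_card _))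
        fun h => hs.ne (Subgroup.card_eq_iff_eq_top _ |>.1 h)
    refine ih _ hlt _ rfl (Subgroup.commutator_normal K K) (hle.trans hKN)
      (Or.inr (Subgroup.commutator_mono hKN hKN)) (fun q hq h => ?_) haK' hbK'
    rw [← Subgroup.relIndex_mul_relIndex _ _ _ hle hKN, hidx] at h
    exact (hq.dvd_mul.1 h).elim (hnew q hq) (hall q hq)

end Descent

end CfsgLib.CharBlocks.RelGraph
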