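import Cfsg.Agent.Lib.SL2Table.SL2Results
import Cfsg.Agent.Lib.SL2Table.PSLProducts
import Cfsg.Agent.Lib.CharNormal.Kernel

/-!
The degree sets of `SL(2, q)` and `PSL(2, q)`.
-/

namespace CfsgLib.CharBlocks.SL2Deg

open Cfsg Matrix CfsgLib.SL2Table

theorem charDegree_of_one {G : Type*} [Group G] {χ : G → ℂ} {n : ℕ} (h : χ 1 = n) :
    charDegree χ = n := by
  simp [charDegree, h]

theorem charDegrees_congr {G H : Type*} [Group G] [Group H] [Finite G] [Finite H] (e : G ≃* H) :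
    charDegrees G = charDegrees H := by
  have hG := Fintype.ofFinite G
  have hH := Fintype.ofFinite H
  ext d
  constructor
  · rintro ⟨χ, rfl⟩
    exact ⟨⟨_, CfsgLib.CharNormal.isIrr_comp_mulEquiv χ.2 e.symm⟩, by simp [charDegree]⟩
  · rintro ⟨χ, rfl⟩
    exact ⟨⟨_, CfsgLib.CharNormal.isIrr_comp_mulEquiv χ.2 e⟩, by simp [charDegree]⟩

variable {F : Type*} [Field F] [Fintype F]

local notation "S" => Matrix.SpecialLinearGroup (Fin 2) F
local notation "P" => Matrix.ProjectiveSpecialLinearGroup (Fin 2) F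
local notation "M2" => Matrix (Fin 2) (Fin 2) F

omit [Fintype F] in
theorem center_entries {z : S} (hz : z ∈ Subgroup.center S) :
    (¬ NonScalar (z : M2)) ∧ ∃ r : F, r * r = 1 ∧ r ≠ 0 ∧ (z : M2) 0 0 = r ∧ (z : M2) 1 1 = r ∧
      (z : M2) 0 1 = 0 ∧ (z : M2) 1 0 = 0 := by
  obtain ⟨r, hr, h⟩ := (central_iff z).1 hz
  refine ⟨fun hn => hn ⟨r, h⟩, r, hr, left_ne_zero_of_mul_eq_one hr, ?_⟩
  rw [h]
  simp

theorem stS_center [DecidableEq F] {z : S} (hz : z ∈ Subgroup.center S) :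
    (stS : S → ℂ) z = (stS : S → ℂ) 1 := by
  obtain ⟨-, r, hr, hr0, h00, h11, h01, h10⟩ := center_entries hz
  rw [stS_one, stS_apply, pr_scalar 1 h01 h10 (h00.trans h11.symm), h00,
    MulChar.one_apply (isUnit_iff_ne_zero.2 hr0)]
  ring

/-- An irreducible character of `PSL` inflates to one of `SL` of the same degree. -/
theorem exists_sl_char (ψ : IrrCharacter P) : ∃ χ : IrrCharacter S,
    (χ : S → ℂ) 1 = (ψ : P → ℂ) 1 :=
  ⟨(CfsgLib.CharNormal.inflEquiv (Subgroup.center S) ψ).1, rfl⟩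

theorem psl_degrees_subset : charDegrees P ⊆ charDegrees S := by
  rintro d ⟨ψ, rfl⟩
  obtain ⟨χ, hχ⟩ := exists_sl_char ψ
  exact ⟨χ, by simp only [charDegree, hχ]⟩

theorem mem_psl_degrees {χ : S → ℂ} (hχ : IsIrrCharacter S χ)
    (hz : ∀ z ∈ Subgroup.center S, χ z = χ 1) {n : ℕ} (hn : χ 1 = n) : n ∈ charDegrees P := by
  obtain ⟨ψ, hψ⟩ := (CfsgLib.CharNormal.inflEquiv (Subgroup.center S)).surjective ⟨⟨χ, hχ⟩, hz⟩
  refine ⟨ψ, charDegree_of_one ?_⟩
  have h : (χ : S → ℂ) 1 = (ψ : P → ℂ) 1 := by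
    have := congrArg (fun a => (a.1 : S → ℂ) 1) hψ
    exact this.symm
  rw [← h, hn]

theorem card_mem_psl_degrees : Fintype.card F ∈ charDegrees P := by
  classical
  exact mem_psl_degrees isIrr_stS (fun z hz => stS_center hz) stS_one

/-- The possible degrees of an irreducible character of `SL(2, q)`. -/
theorem sl_degree_cases (χ : IrrCharacter S) :
    ((χ : S → ℂ) = fun _ => 1) ∨
    ∃ n : ℕ, (χ : S → ℂ) 1 = n ∧ ((n = Fintype.card F ∧
        ∀ (d : DecidableEq F), (χ : S → ℂ) = @stS F _ _ d) ∨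
      n ∣ Fintype.card F + 1 ∨ n ∣ Fintype.card F - 1) := by
  classical
  have hq := Fintype.one_lt_card (α := F)
  rcases Nat.even_or_odd (Fintype.card F) with he | ho
  · have := charP_two_of_even he
    rcases degreeE_cases χ.2 with ⟨-, h⟩ | ⟨h, e⟩ | ⟨h, -⟩ | ⟨h, -⟩
    · exact Or.inl h
    · exact Or.inr ⟨_, h, Or.inl ⟨rfl, fun d => by convert e⟩⟩
    · exact Or.inr ⟨Fintype.card F + 1, by rw [h]; simp, Or.inr (Or.inl dvd_rfl)⟩
    · exact Or.inr ⟨Fintype.card F - 1, by rw [h, cast_card_pred], Or.inr (Or.inr dvd_rfl)⟩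
  · obtain ⟨C, hT, θ₀, χ₁, χ₂, χ₃, χ₄, hTb⟩ := exists_all (F := F) ho
    obtain ⟨n, hn, h⟩ := hTb.degree_cases χ.2
    obtain ⟨k, hk⟩ := ho
    rcases h with ⟨-, h⟩ | ⟨h, e⟩ | ⟨h, -⟩ | ⟨h, -⟩ | ⟨h, -⟩ | ⟨h, -⟩
    · exact Or.inl h
    · exact Or.inr ⟨n, hn, Or.inl ⟨h, fun d => by convert e⟩⟩
    · exact Or.inr ⟨n, hn, Or.inr (Or.inl (h ▸ dvd_rfl))⟩
    · exact Or.inr ⟨n, hn, Or.inr (Or.inl ⟨2, by omega⟩)⟩
    · exact Or.inr ⟨n, hn, Or.inr (Or.inr (h ▸ dvd_rfl))⟩
    · exact Or.inr ⟨n, hn, Or.inr (Or.inr ⟨2, by omega⟩)⟩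

theorem mem_degrees_cases {d : ℕ} (hd : d ∈ charDegrees S) :
    d = 1 ∨ d = Fintype.card F ∨ d ∣ Fintype.card F + 1 ∨ d ∣ Fintype.card F - 1 := by
  obtain ⟨χ, rfl⟩ := hd
  rcases sl_degree_cases χ with h | ⟨n, hn, h⟩
  · exact Or.inl (by rw [charDegree_of_one (n := 1) (by rw [h]; simp)])
  · rw [charDegree_of_one hn]
    rcases h with ⟨h, -⟩ | h
    · exact Or.inr (Or.inl h)
    · exact Or.inr (Or.inr h)

/-- For odd `q > 5`, `PSL(2, q)` has characters of degrees `q + 1` and `q - 1`. -/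
theorem odd_psl_pm (hodd : Odd (Fintype.card F)) (h5 : 5 < Fintype.card F) :
    Fintype.card F + 1 ∈ charDegrees P ∧ Fintype.card F - 1 ∈ charDegrees P := by
  classical
  obtain ⟨C, hT⟩ := exists_torus (F := F) hodd
  constructor
  · obtain ⟨β, hβ⟩ := MulChar.exists_mulChar_orderOf_eq_card_units F (R := ℂ)
      (Complex.isPrimitiveRoot_exp _ Fintype.card_ne_zero)
    rw [Fintype.card_units] at hβ
    have hα : (β ^ 2) ^ 2 ≠ 1 := by
      rw [← pow_mul]
      intro e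
      have := Nat.le_of_dvd (by norm_num) (orderOf_dvd_of_pow_eq_one e)
      omega
    refine mem_psl_degrees ((isIrr_pr_iff (β ^ 2)).2 hα) (fun z hz => ?_)
      (by rw [pr_one]; simp)
    obtain ⟨-, r, hr, hr0, h00, h11, h01, h10⟩ := center_entries hz
    rw [pr_scalar _ h01 h10 (h00.trans h11.symm), pr_one, h00, MulChar.pow_apply' _ two_ne_zero,
      ← map_pow, pow_two, hr, map_one, mul_one]
  · have hcy := hT.cyclic
    letI : CommGroup C := IsCyclic.commGroup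
    obtain ⟨e⟩ := CommGroup.monoidHom_mulEquiv_of_hasEnoughRootsOfUnity C ℂ
    obtain ⟨g, hg⟩ := IsCyclic.exists_ofOrder_eq_natCard (α := C)
    have hη : (e.symm g) ^ 4 ≠ 1 := by
      intro h4
      have := congrArg e h4
      rw [map_pow, MulEquiv.apply_symm_apply, map_one] at this
      have := Nat.le_of_dvd (by norm_num) (orderOf_dvd_of_pow_eq_one this)
      rw [hg, hT.card] at this
      omega
    set η : C →* ℂˣ := e.symm g with hdef
    have hθ : η ^ 2 ≠ (η ^ 2)⁻¹ := by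
      intro h
      apply hη
      refine MonoidHom.ext fun x => ?_
      have hx : (η ^ 2) x = ((η ^ 2) x)⁻¹ := by
        conv_lhs => rw [h]
        rfl
      rw [MonoidHom.pow_apply, ← mul_eq_one_iff_eq_inv, ← pow_add] at hx
      simpa using hx
    refine mem_psl_degrees (isIrr_wFun (hT := hT) hθ) (fun z hz => ?_)
      (by rw [wFun_one, cast_card_pred])
    obtain ⟨hs, r, hr, hr0, h00, h11, h01, h10⟩ := center_entries hz
    have hz2 : (⟨z, hT.scalar_mem hs⟩ : C) ^ 2 = 1 := by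
      apply Subtype.ext
      apply Subtype.ext
      change ((z ^ 2 : S) : M2) = ((1 : S) : M2)
      rw [pow_two, Matrix.SpecialLinearGroup.coe_mul]
      ext i j
      fin_cases i <;> fin_cases j <;>
        simp [Matrix.mul_apply, Fin.sum_univ_two, h00, h11, h01, h10, hr]
    rw [wFun_scalar hT (η ^ 2) hs, wFun_one, MonoidHom.pow_apply, ← map_pow, hz2, map_one,
      Units.val_one, mul_one]

omit [Fintype F] in
/-- In characteristic two the centre is trivial. -/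
theorem center_bot [CharP F 2] : Subgroup.center S = ⊥ := by
  refine (Subgroup.eq_bot_iff_forall _).2 fun z hz => ?_
  obtain ⟨r, hr, h⟩ := (central_iff z).1 hz
  have hr1 : r = 1 := by
    have h' : (r - 1) ^ 2 = 0 := by rw [CharTwo.sub_eq_add, CharTwo.add_sq, pow_two r, hr, one_pow,
      CharTwo.add_self_eq_zero]
    exact sub_eq_zero.1 (pow_eq_zero_iff two_ne_zero |>.1 h')
  exact Subtype.ext (by rw [h, hr1, one_smul]; simp)

theorem even_psl_degrees [CharP F 2] : charDegrees P = charDegrees S :=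
  charDegrees_congr ((QuotientGroup.quotientMulEquivOfEq center_bot).trans QuotientGroup.quotientBot)

theorem even_pm [CharP F 2] (h4 : 4 ≤ Fintype.card F) :
    Fintype.card F + 1 ∈ charDegrees S ∧ Fintype.card F - 1 ∈ charDegrees S := by
  classical
  obtain ⟨-, -, h3, h5⟩ := even_degree_counts (F := F) h4
  have key : ∀ (v : ℂ) (m : ℕ), Nat.card {χ : IrrCharacter S // (χ : S → ℂ) 1 = v} = m → 0 < m →
      ∃ χ : IrrCharacter S, (χ : S → ℂ) 1 = v := by
    intro v m h hm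
    rw [← h, Nat.card_pos_iff] at hm
    obtain ⟨⟨χ, hχ⟩⟩ := hm.1
    exact ⟨χ, hχ⟩
  obtain ⟨a, ha⟩ := key _ _ h3 (by omega)
  obtain ⟨b, hb⟩ := key _ _ h5 (by omega)
  exact ⟨⟨a, charDegree_of_one (by rw [ha]; simp)⟩, ⟨b, charDegree_of_one (by rw [hb, cast_card_pred])⟩⟩

end CfsgLib.CharBlocks.SL2Deg
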