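import Cfsg.Agent.Lib.CharBlocks.IntComb
import Cfsg.Agent.Lib.CharNormal.GlaubermanCyclic
import Cfsg.Agent.Lib.CharNormal.Gallagher
import Cfsg.Agent.Lib.Blocks.AlgInt
import Mathlib.Algebra.Group.AddChar
import Mathlib.GroupTheory.SemidirectProduct
import Mathlib.LinearAlgebra.Matrix.BilinearForm

/-!
# Square roots of `|U / C_U(h)|` for coprime actions with forms

For a `p'`-group `H` acting on an `𝔽_p`-space with an invariant form:

* `gauss`: the Gauss sums of a symmetric form;
* `IsWeil`: the functions attached to an alternating form by the Heisenberg group.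
-/

set_option autoImplicit false

namespace CfsgLib.CharBlocks.SelfDual

open CfsgLib.Char CfsgLib.Blocks Cfsg
open scoped ComplexConjugate

variable {p : ℕ} [hp : Fact p.Prime]

/-! ### Additive characters -/

section addChar

variable (ψ : AddChar (ZMod p) ℂ)

theorem addChar_pow (z : ZMod p) : ψ z ^ p = 1 := by
  rw [← AddChar.map_nsmul_eq_pow, nsmul_eq_mul, ZMod.natCast_self, zero_mul, AddChar.map_zero_eq_one]

theorem addChar_isIntegral (z : ZMod p) : IsIntegral ℤ (ψ z) :=
  IsIntegral.of_pow hp.out.pos (by rw [addChar_pow]; exact isIntegral_one)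

theorem addChar_neg (z : ZMod p) : ψ (-z) = conj (ψ z) := by
  have h : ‖ψ z‖ = 1 := norm_eq_one_of_pow_eq_one' hp.out.ne_zero (addChar_pow ψ z)
  rw [AddChar.map_neg_eq_inv, Complex.inv_eq_conj h]

variable {ψ}

theorem sum_addChar_linear (hψ : ∀ z, z ≠ 0 → ψ z ≠ 1) {U : Type*} [AddCommGroup U] [Fintype U]
    [Module (ZMod p) U] (L : U →ₗ[ZMod p] ZMod p) [Decidable (L = 0)] :
    ∑ x, ψ (L x) = if L = 0 then (Nat.card U : ℂ) else 0 := by
  split_ifs with h
  · simp [h, Nat.card_eq_fintype_card]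
  · obtain ⟨a, ha⟩ : ∃ a, L a ≠ 0 := by
      by_contra hc
      push Not at hc
      exact h (LinearMap.ext hc)
    have h1 : (∑ x, ψ (L x)) * ψ (L a) = ∑ x, ψ (L x) := by
      rw [Finset.sum_mul]
      exact Fintype.sum_equiv (Equiv.addRight a) _ _ fun x => by simp [AddChar.map_add_eq_mul]
    have h2 : (∑ x, ψ (L x)) * (ψ (L a) - 1) = 0 := by rw [mul_sub, h1, mul_one, sub_self]
    exact (mul_eq_zero.mp h2).resolve_right (sub_ne_zero.mpr (hψ _ ha))

theorem mk_addChar (ψ : AddChar (ZMod p) ℂ) {M : Ideal AlgInt} (hM : IsPModular p M) (z : ZMod p) :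
    Ideal.Quotient.mk M ⟨ψ z, addChar_isIntegral ψ z⟩ = 1 := by
  have := hM.2.1
  have := res_charP M hM
  set w : AlgInt := ⟨ψ z, addChar_isIntegral ψ z⟩
  have h1 : Ideal.Quotient.mk M w ^ p = 1 := by
    rw [← map_pow, show w ^ p = 1 from Subtype.ext (by
      rw [SubmonoidClass.coe_pow, OneMemClass.coe_one]; exact addChar_pow ψ z), map_one]
  have h2 : (Ideal.Quotient.mk M w - 1) ^ p = 0 := by
    rw [sub_pow_char, h1, one_pow, sub_self]
  exact sub_eq_zero.mp (eq_zero_of_pow_eq_zero h2)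

end addChar

/-! ### Fixed points -/

variable {H : Type*} [Group H] [Fintype H] {U : Type*} [AddCommGroup U] [Module (ZMod p) U]
  (ρ : Representation (ZMod p) H U)

/-- The fixed space of an element. -/
def fixSp (h : H) : Submodule (ZMod p) U := LinearMap.ker (LinearMap.id - ρ h)

theorem mem_fixSp {h : H} {x : U} : x ∈ fixSp ρ h ↔ ρ h x = x := by
  rw [fixSp, LinearMap.mem_ker, LinearMap.sub_apply, LinearMap.id_apply, sub_eq_zero, eq_comm]

theorem rho_apply_apply (g k : H) (x : U) : ρ g (ρ k x) = ρ (g * k) x := by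
  rw [map_mul]; rfl

theorem card_conj_fix (h g : H) : Nat.card (fixSp ρ (g * h * g⁻¹)) = Nat.card (fixSp ρ h) := by
  refine (Nat.card_congr ((Equiv.ofBijective (ρ g) (ρ.apply_bijective g)).subtypeEquiv fun x => ?_)).symm
  simp only [mem_fixSp, Equiv.ofBijective_apply, rho_apply_apply, inv_mul_cancel_right]
  rw [← rho_apply_apply]
  exact (ρ.apply_bijective g).injective.eq_iff.symm

variable (hH : (Nat.card H : ZMod p) ≠ 0)

include hH in
theorem orderOf_cast_ne_zero (h : H) : (orderOf h : ZMod p) ≠ 0 := fun e => hH (by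
  obtain ⟨k, hk⟩ := orderOf_dvd_natCard h
  rw [hk, Nat.cast_mul, e, zero_mul])

include hH in
theorem fixed_of_sub_fixed {h : H} {d : U} (hd : ρ h (d - ρ h d) = d - ρ h d) : ρ h d = d := by
  set w := d - ρ h d with hw
  have hk : ∀ k : ℕ, ρ (h ^ k) d = d - (k : ZMod p) • w := by
    intro k
    induction k with
    | zero => simp
    | succ k ih =>
      rw [pow_succ', ← rho_apply_apply, ih, map_sub, map_smul, hd,
        show ρ h d = d - w by rw [hw]; abel, Nat.cast_succ, add_smul, one_smul]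
      abel
  have h1 := hk (orderOf h)
  rw [pow_orderOf_eq_one, map_one, Module.End.one_apply, eq_comm, sub_eq_self, smul_eq_zero] at h1
  exact (sub_eq_zero.mp (h1.resolve_left (orderOf_cast_ne_zero hH h))).symm

theorem dvd_card_of_ne_top [Finite U] {h : H} (hne : fixSp ρ h ≠ ⊤) :
    p ∣ Nat.card (U ⧸ fixSp ρ h) := by
  have : Finite (U ⧸ fixSp ρ h) := Finite.of_surjective _ (Submodule.mkQ_surjective _)
  have := Fintype.ofFinite (U ⧸ fixSp ρ h)
  have : Nontrivial (U ⧸ fixSp ρ h) := Submodule.Quotient.nontrivial_iff.mpr hne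
  rw [Nat.card_eq_fintype_card, Module.card_eq_pow_finrank (K := ZMod p), ZMod.card]
  exact dvd_pow_self p Module.finrank_pos.ne'

/-! ### Gauss sums -/

variable [Fintype U] (ψ : AddChar (ZMod p) ℂ) (S : LinearMap.BilinForm (ZMod p) U)
  (hSinv : ∀ g x y, S (ρ g x) (ρ g y) = S x y)

/-- The Gauss sum. -/
noncomputable def gauss (h : H) : ℂ := ∑ x, ψ (S x (x - ρ h x))

theorem galois_gauss (σ : ℂ ≃+* ℂ) (h : H) :
    σ (gauss ρ ψ S h) = gauss ρ ((σ : ℂ →* ℂ).compAddChar ψ) S h := by
  simp [gauss, map_sum]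

theorem gauss_one : gauss ρ ψ S 1 = (Nat.card U : ℂ) := by
  simp [gauss, Nat.card_eq_fintype_card]

include hSinv in
theorem intComb_gauss : IntComb (gauss ρ ψ S) := by
  refine intComb_of_linear (fun h g => ?_) fun E lam => ?_
  · refine (Fintype.sum_equiv (Equiv.ofBijective (ρ g) (ρ.apply_bijective g)) _ _ fun x => ?_).symm
    simp only [Equiv.ofBijective_apply, rho_apply_apply, inv_mul_cancel_right]
    rw [← rho_apply_apply, ← map_sub, hSinv]
  · have := Fintype.ofFinite E
    let := MulAction.compHom U (ρ.comp E.subtype : E →* Module.End (ZMod p) U)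
    rw [finsum_eq_sum_of_fintype]
    exact isIntegral_sum_smul lam (fun x y => ψ (S x (x - y)))
      (fun x y => addChar_isIntegral ψ _) fun g x y => by
        show ψ (S (ρ g x) (ρ g x - ρ g y)) = _
        rw [← map_sub, hSinv]

include hSinv in
theorem form_fix_left {h : H} {c : U} (hc : ρ h c = c) (x : U) : S c (x - ρ h x) = 0 := by
  rw [map_sub]
  conv_lhs => arg 2; rw [← hc, hSinv]
  rw [sub_self]

include hSinv in
theorem gauss_div {M : Ideal AlgInt} (hM : IsPModular p M) (h : H) :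
    ∃ z : AlgInt, gauss ρ ψ S h = (Nat.card (fixSp ρ h) : ℂ) * z ∧
      (fixSp ρ h ≠ ⊤ → Ideal.Quotient.mk M z = 0) := by
  classical
  let q : U → ℂ := fun x => ψ (S x (x - ρ h x))
  have hq : ∀ x y : U, (Submodule.Quotient.mk x : U ⧸ fixSp ρ h) = Submodule.Quotient.mk y → q x = q y := by
    intro x y e
    have hc : ρ h (x - y) = x - y := (mem_fixSp ρ).mp ((Submodule.Quotient.eq _).mp e)
    have h1 : x - ρ h x = y - ρ h y := by
      rw [map_sub] at hc
      calc x - ρ h x = y - ρ h y + ((x - y) - (ρ h x - ρ h y)) := by abel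
        _ = _ := by rw [hc, sub_self, add_zero]
    simp only [q]
    rw [h1, show x = y + (x - y) by abel, map_add, LinearMap.add_apply,
      show S (x - y) (y - ρ h y) = 0 from form_fix_left ρ S hSinv hc y, add_zero]
  have := Fintype.ofFinite (U ⧸ fixSp ρ h)
  refine ⟨∑ r : U ⧸ fixSp ρ h, ⟨q r.out, addChar_isIntegral ψ _⟩, ?_, fun hne => ?_⟩
  · rw [AddSubmonoidClass.coe_finsetSum, Finset.mul_sum]
    show ∑ x, q x = _
    rw [← Finset.sum_fiberwise (g := fun x : U => (Submodule.Quotient.mk x : U ⧸ fixSp ρ h))]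
    refine Finset.sum_congr rfl fun r _ => ?_
    rw [Finset.sum_congr rfl fun x hx => hq x r.out
      ((Finset.mem_filter.mp hx).2.trans r.out_eq.symm), Finset.sum_const, nsmul_eq_mul]
    congr 2
    rw [← Fintype.card_subtype, ← Nat.card_eq_fintype_card]
    refine Nat.card_congr
      { toFun := fun x => ⟨x.1 - r.out, (Submodule.Quotient.eq _).mp (x.2.trans r.out_eq.symm)⟩
        invFun := fun c => ⟨r.out + c.1, by
          rw [Submodule.Quotient.mk_add, (Submodule.Quotient.mk_eq_zero _).mpr c.2, add_zero]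
          exact r.out_eq⟩
        left_inv := fun x => Subtype.ext (by simp)
        right_inv := fun c => Subtype.ext (by simp) }
  · have := hM.2.1
    have := res_charP M hM
    rw [map_sum, Finset.sum_congr rfl fun r _ => mk_addChar ψ hM _, Finset.sum_const, Finset.card_univ,
      nsmul_one, ← Nat.card_eq_fintype_card]
    exact (CharP.cast_eq_zero_iff (Res M) p _).mpr (dvd_card_of_ne_top ρ hne)

include hSinv hH in
theorem normSq_gauss (hψ : ∀ z, z ≠ 0 → ψ z ≠ 1) (hS : ∀ x y, S x y = S y x)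
    (hnd : ∀ x, (∀ y, S x y = 0) → x = 0) (h : H) :
    Complex.normSq (gauss ρ ψ S h) = (Nat.card U * Nat.card (fixSp ρ h) : ℕ) := by
  classical
  apply Complex.ofReal_injective
  rw [← Complex.mul_conj, gauss, map_sum, Finset.sum_mul_sum, Finset.sum_comm]
  let L : U → (U →ₗ[ZMod p] ZMod p) := fun d => LinearMap.flip S (d - ρ h d) + (S d).comp (LinearMap.id - ρ h)
  have e : ∀ d y, ψ (S (y + d) (y + d - ρ h (y + d))) * conj (ψ (S y (y - ρ h y))) =
      ψ (S d (d - ρ h d)) * ψ (L d y) := by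
    intro d y
    rw [← addChar_neg, ← AddChar.map_add_eq_mul, ← AddChar.map_add_eq_mul]
    congr 1
    simp only [L, LinearMap.add_apply, LinearMap.flip_apply, LinearMap.comp_apply, LinearMap.sub_apply,
      LinearMap.id_apply, map_add, map_sub]
    abel
  rw [Finset.sum_congr rfl fun y _ => (Fintype.sum_equiv (Equiv.addLeft y)
    (fun d => ψ (S d (d - ρ h d)) * ψ (L d y)) _ fun d => (e d y).symm).symm, Finset.sum_comm]
  simp only [← Finset.mul_sum, sum_addChar_linear hψ]
  have hfix : ∀ d, L d = 0 ↔ d ∈ fixSp ρ h := by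
    intro d
    rw [mem_fixSp]
    have hL : ∀ y, L d y = S y (d - ρ h d + (d - ρ h⁻¹ d)) := fun y => by
      simp only [L, LinearMap.add_apply, LinearMap.flip_apply, LinearMap.comp_apply, LinearMap.sub_apply,
        LinearMap.id_apply]
      rw [map_add (S y), map_sub (S d), map_sub (S y) d (ρ h⁻¹ d), hS y (ρ h⁻¹ d), hS y d]
      congr 2
      rw [← hSinv h (ρ h⁻¹ d) y, rho_apply_apply, mul_inv_cancel, map_one, Module.End.one_apply]
    constructor
    · intro h0
      have h1 : d - ρ h d + (d - ρ h⁻¹ d) = 0 := hnd _ fun y => by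
        rw [hS, ← hL, h0, LinearMap.zero_apply]
      refine fixed_of_sub_fixed ρ hH ?_
      have h2 := congrArg (ρ h) h1
      rw [map_zero, map_add, map_sub (ρ h) d (ρ h⁻¹ d), rho_apply_apply, mul_inv_cancel, map_one,
        Module.End.one_apply] at h2
      rw [← sub_eq_zero, ← h2]
      abel
    · intro hd
      have hd' : ρ h⁻¹ d = d := by
        conv_lhs => rw [← hd]
        rw [rho_apply_apply, inv_mul_cancel, map_one, Module.End.one_apply]
      exact LinearMap.ext fun y => by simp [hL, hd, hd']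
  rw [Finset.sum_congr rfl fun d _ => (show ψ (S d (d - ρ h d)) *
      (if L d = 0 then (Nat.card U : ℂ) else 0) = if d ∈ fixSp ρ h then (Nat.card U : ℂ) else 0 from by
    simp only [hfix]
    split_ifs with hd
    · rw [(mem_fixSp ρ).mp hd, sub_self, map_zero, AddChar.map_zero_eq_one, one_mul]
    · rw [mul_zero]), ← Finset.sum_filter, Finset.sum_const, nsmul_eq_mul, ← Fintype.card_subtype,
    ← Nat.card_eq_fintype_card]
  push_cast
  ring

/-! ### The Heisenberg group -/

variable (c : LinearMap.BilinForm (ZMod p) U)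

/-- The Heisenberg group of a bilinear form. -/
@[ext] structure Heis (c : LinearMap.BilinForm (ZMod p) U) where
  /-- the vector -/
  u : U
  /-- the central part -/
  z : ZMod p

instance : Group (Heis c) where
  mul e f := ⟨e.u + f.u, e.z + f.z + c e.u f.u⟩
  one := ⟨0, 0⟩
  inv e := ⟨-e.u, -e.z + c e.u e.u⟩
  mul_assoc a b d := Heis.ext (add_assoc _ _ _) (by
    show a.z + b.z + c a.u b.u + d.z + c (a.u + b.u) d.u =
      a.z + (b.z + d.z + c b.u d.u) + c a.u (b.u + d.u)
    rw [map_add, map_add, LinearMap.add_apply]; ring)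
  one_mul a := Heis.ext (zero_add _) (by show 0 + a.z + c 0 a.u = a.z; simp)
  mul_one a := Heis.ext (add_zero _) (by show a.z + 0 + c a.u 0 = a.z; simp)
  inv_mul_cancel a := Heis.ext (neg_add_cancel _) (by
    show -a.z + c a.u a.u + a.z + c (-a.u) a.u = 0
    simp)

omit [Fintype U] in
theorem Heis.mul_u (e f : Heis c) : (e * f).u = e.u + f.u := rfl

omit [Fintype U] in
theorem Heis.mul_z (e f : Heis c) : (e * f).z = e.z + f.z + c e.u f.u := rfl

/-- The underlying product. -/
def Heis.equivProd : Heis c ≃ U × ZMod p :=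
  ⟨fun e => (e.u, e.z), fun x => ⟨x.1, x.2⟩, fun _ => rfl, fun _ => rfl⟩

noncomputable instance : Fintype (Heis c) := Fintype.ofEquiv _ (Heis.equivProd c).symm

theorem Heis.card : Nat.card (Heis c) = Nat.card U * p := by
  rw [Nat.card_congr (Heis.equivProd c), Nat.card_prod, Nat.card_zmod]

omit [Fintype U] in
theorem Heis.central (a : ZMod p) : (⟨0, a⟩ : Heis c) ∈ Subgroup.center (Heis c) :=
  Subgroup.mem_center_iff.mpr fun e => Heis.ext (by simp [Heis.mul_u]) (by simp [Heis.mul_z, add_comm])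

omit [Fintype U] in
theorem Heis.central_mul (e : Heis c) : (⟨0, e.z⟩ : Heis c) * ⟨e.u, 0⟩ = e :=
  Heis.ext (by simp [Heis.mul_u]) (by simp [Heis.mul_z])

/-- `θ` has central character `ψ`. -/
def Over (θ : Heis c → ℂ) : Prop := ∀ a, θ ⟨0, a⟩ = θ 1 * ψ a

theorem exists_over : ∃ θ : Heis c → ℂ, IsIrrCharacter (Heis c) θ ∧ Over ψ c θ := by
  classical
  have h : ∑ θ : IrrCharacter (Heis c), (θ : Heis c → ℂ) 1 *
      ∑ a : ZMod p, (θ : Heis c → ℂ) ⟨0, a⟩ * conj (ψ a) = (Nat.card (Heis c) : ℂ) := by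
    simp only [Finset.mul_sum]
    rw [Finset.sum_comm, Finset.sum_eq_single (0 : ZMod p) ?_ (by simp)]
    · simp only [AddChar.map_zero_eq_one, map_one, mul_one]
      exact (sum_degree_mul_apply (1 : Heis c)).trans (if_pos rfl)
    · intro a _ ha
      simp only [← mul_assoc, ← Finset.sum_mul]
      rw [sum_degree_mul_apply, if_neg fun e => ha (congrArg Heis.z e), zero_mul]
  obtain ⟨θ, -, hθ⟩ := Finset.exists_ne_zero_of_sum_ne_zero
    (h.trans_ne (Nat.cast_ne_zero.mpr Nat.card_pos.ne'))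
  refine ⟨θ, θ.2, fun b => ?_⟩
  set S := ∑ a : ZMod p, (θ : Heis c → ℂ) ⟨0, a⟩ * conj (ψ a)
  have hS : S ≠ 0 := (mul_ne_zero_iff.mp hθ).2
  have h1 : S * ((θ : Heis c → ℂ) ⟨0, b⟩ * conj (ψ b)) = S * (θ : Heis c → ℂ) 1 := by
    simp only [S, Finset.sum_mul]
    refine Fintype.sum_equiv (Equiv.addRight b) _ _ fun a => ?_
    rw [Equiv.coe_addRight, AddChar.map_add_eq_mul, map_mul,
      show (⟨0, a + b⟩ : Heis c) = ⟨0, a⟩ * ⟨0, b⟩ from Heis.ext (by simp [Heis.mul_u]) (by simp [Heis.mul_z]),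
      show (θ : Heis c → ℂ) (⟨0, a⟩ * ⟨0, b⟩) * (conj (ψ a) * conj (ψ b)) * (θ : Heis c → ℂ) 1 =
        (θ : Heis c → ℂ) (⟨0, a⟩ * ⟨0, b⟩) * (θ : Heis c → ℂ) 1 * (conj (ψ a) * conj (ψ b)) by ring,
      CfsgLib.CharNormal.char_center_mul θ.2 (Heis.central c a)]
    ring
  have h2 := mul_left_cancel₀ hS h1
  calc (θ : Heis c → ℂ) ⟨0, b⟩ = (θ : Heis c → ℂ) ⟨0, b⟩ * (conj (ψ b) * ψ b) := by
        rw [← addChar_neg, ← AddChar.map_add_eq_mul, neg_add_cancel, AddChar.map_zero_eq_one, mul_one]
    _ = (θ : Heis c → ℂ) 1 * ψ b := by rw [← mul_assoc, h2]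

variable (A : LinearMap.BilinForm (ZMod p) U) (hcA : ∀ x y, c x y - c y x = A x y)
  (hAnd : ∀ x, (∀ y, A x y = 0) → x = 0) (hψ : ∀ z, z ≠ 0 → ψ z ≠ 1)

include hcA hAnd hψ in
theorem vanish {θ : Heis c → ℂ} (hθ : IsIrrCharacter (Heis c) θ) (hov : Over ψ c θ)
    {e : Heis c} (he : e.u ≠ 0) : θ e = 0 := by
  obtain ⟨y, hy⟩ : ∃ y, A e.u y ≠ 0 := by
    by_contra h
    push Not at h
    exact he (hAnd _ h)
  have h1 : (⟨y, 0⟩ : Heis c) * e * (⟨y, 0⟩ : Heis c)⁻¹ = ⟨0, - A e.u y⟩ * e := by
    rw [mul_inv_eq_iff_eq_mul]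
    refine Heis.ext (by simp [Heis.mul_u, add_comm]) ?_
    simp only [Heis.mul_z, Heis.mul_u, map_zero, LinearMap.zero_apply, zero_add, add_zero]
    rw [← hcA]; ring
  have h2 := CfsgLib.CharNormal.char_center_mul hθ (Heis.central c (- A e.u y)) e
  rw [← h1, isClassFunction_of_isIrr hθ, hov] at h2
  have h3 : θ e * θ 1 * (ψ (- A e.u y) - 1) = 0 := by
    rw [mul_sub, mul_one, sub_eq_zero]
    conv_rhs => rw [h2]
    ring
  exact (mul_eq_zero.mp ((mul_eq_zero.mp h3).resolve_right
    (sub_ne_zero.mpr (hψ _ (neg_ne_zero.mpr hy))))).resolve_right (irr_one_ne_zero hθ)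

include hcA hAnd hψ in
theorem sum_over {θ : Heis c → ℂ} (hθ : IsIrrCharacter (Heis c) θ) (hov : Over ψ c θ)
    {F : Heis c → ℂ} {F0 : ℂ} (hF : ∀ a, F ⟨0, a⟩ = F0 * ψ a) :
    ∑ e, F e * conj (θ e) = F0 * θ 1 * p := by
  classical
  rw [← (Heis.equivProd c).symm.sum_comp, Fintype.sum_prod_type, Finset.sum_eq_single (0 : U)]
  · rw [Finset.sum_congr rfl fun a _ => (show F ((Heis.equivProd c).symm (0, a)) *
        conj (θ ((Heis.equivProd c).symm (0, a))) = F0 * θ 1 from by
      show F ⟨0, a⟩ * conj (θ ⟨0, a⟩) = _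
      rw [hF, hov, map_mul, char_conj_one (isCharacter_of_isIrr hθ),
        show F0 * ψ a * (θ 1 * conj (ψ a)) = F0 * θ 1 * (ψ a * conj (ψ a)) by ring,
        ← addChar_neg, ← AddChar.map_add_eq_mul, add_neg_cancel, AddChar.map_zero_eq_one, mul_one]),
      Finset.sum_const, Finset.card_univ, ZMod.card, nsmul_eq_mul, mul_comm]
  · intro x _ hx
    refine Finset.sum_eq_zero fun a _ => ?_
    rw [vanish ψ c A hcA hAnd hψ hθ hov (e := (Heis.equivProd c).symm (x, a)) hx, map_zero, mul_zero]
  · simp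

include hcA hAnd hψ in
theorem degree_over {θ : Heis c → ℂ} (hθ : IsIrrCharacter (Heis c) θ) (hov : Over ψ c θ) :
    ∃ n : ℕ, θ 1 = n ∧ n ^ 2 = Nat.card U := by
  obtain ⟨n, hn⟩ := exists_degree (isCharacter_of_isIrr hθ)
  refine ⟨n, hn, ?_⟩
  have h := sum_over ψ c A hcA hAnd hψ hθ hov hov
  rw [← card_mul_classInner, classInner_irr_self hθ, mul_one, Heis.card, hn] at h
  have h2 : Nat.card U * p = n * n * p := by exact_mod_cast h
  rw [sq]
  exact (Nat.eq_of_mul_eq_mul_right hp.out.pos h2).symm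

variable (hcinv : ∀ g x y, c (ρ g x) (ρ g y) = c x y)

/-- The automorphisms of the Heisenberg group. -/
def act : H →* MulAut (Heis c) where
  toFun g :=
    { toFun := fun e => ⟨ρ g e.u, e.z⟩
      invFun := fun e => ⟨ρ g⁻¹ e.u, e.z⟩
      left_inv := fun e => Heis.ext (by simp [rho_apply_apply]) rfl
      right_inv := fun e => Heis.ext (by simp [rho_apply_apply]) rfl
      map_mul' := fun e f => Heis.ext (map_add _ _ _)
        (by show e.z + f.z + c e.u f.u = e.z + f.z + c (ρ g e.u) (ρ g f.u); rw [hcinv]) }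
  map_one' := MulEquiv.ext fun e => Heis.ext (by simp) rfl
  map_mul' g k := MulEquiv.ext fun e => Heis.ext (rho_apply_apply ρ g k e.u).symm rfl

/-- The extended Heisenberg group. -/
abbrev Ext := Heis c ⋊[act ρ c hcinv] H

noncomputable instance : Fintype (Ext ρ c hcinv) :=
  Fintype.ofEquiv _ SemidirectProduct.equivProd.symm

/-- The Weil functions. -/
def IsWeil (f : H → ℂ) : Prop :=
  ∃ χ : Ext ρ c hcinv → ℂ, IsCharacter (Ext ρ c hcinv) χ ∧
    IsIrrCharacter (Heis c) (fun e => χ (SemidirectProduct.inl e)) ∧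
    Over ψ c (fun e => χ (SemidirectProduct.inl e)) ∧ f = fun h => χ (SemidirectProduct.inr h)

include hH hcA hAnd hψ in
theorem exists_weil : ∃ f, IsWeil ρ ψ c hcinv f := by
  classical
  obtain ⟨θ, hθ, hov⟩ := exists_over ψ c
  have hker : (SemidirectProduct.inl (φ := act ρ c hcinv)).range =
      (SemidirectProduct.rightHom (φ := act ρ c hcinv)).ker :=
    SemidirectProduct.range_inl_eq_ker_rightHom
  set N := (SemidirectProduct.inl (φ := act ρ c hcinv)).range with hN
  have he0 : ∃ e0 : Heis c ≃* N, ∀ e, ((e0 e : N) : Ext ρ c hcinv) = SemidirectProduct.inl e :=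
    ⟨MonoidHom.ofInjective SemidirectProduct.inl_injective, fun _ => rfl⟩
  obtain ⟨e0, he0⟩ := he0
  have hNn : N.Normal := hker ▸ inferInstance
  have := Fintype.ofFinite N
  have hidx : N.index = Nat.card H := by
    rw [hker, Subgroup.index_ker, MonoidHom.range_eq_top.mpr SemidirectProduct.rightHom_surjective,
      Subgroup.card_top]
  have hcardN : Nat.card N = Nat.card U * p := by rw [← Nat.card_congr e0.toEquiv, Heis.card]
  have hcop : (Nat.card N).Coprime N.index := by
    rw [hcardN, hidx]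
    have hpH : p.Coprime (Nat.card H) := hp.out.coprime_iff_not_dvd.mpr fun h =>
      hH ((CharP.cast_eq_zero_iff (ZMod p) p _).mpr h)
    refine Nat.Coprime.mul_left ?_ hpH
    rw [Nat.card_eq_fintype_card (α := U), Module.card_eq_pow_finrank (K := ZMod p), ZMod.card]
    exact hpH.pow_left _
  have hθ' : IsIrrCharacter N (θ ∘ e0.symm) := CfsgLib.CharNormal.isIrr_comp_mulEquiv hθ e0.symm
  obtain ⟨χ, hχ, hres, -⟩ := CfsgLib.CharNormal.CyclicGlauberman.exists_ext hθ' hcop fun g n => by
    obtain ⟨e, rfl⟩ := e0.surjective n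
    obtain ⟨a, b, rfl⟩ : ∃ a b, g = SemidirectProduct.inl a * SemidirectProduct.inr b :=
      ⟨g.left, g.right, (SemidirectProduct.inl_left_mul_inr_right g).symm⟩
    have h1 : (⟨_, hNn.conj_mem ((e0 e : N) : Ext ρ c hcinv) (e0 e).2
        (SemidirectProduct.inl a * SemidirectProduct.inr b)⟩ : N) = e0 (a * act ρ c hcinv b e * a⁻¹) := by
      refine Subtype.ext ?_
      simp only [map_mul, map_inv, Subgroup.coe_mul, InvMemClass.coe_inv, he0]
      rw [SemidirectProduct.inl_aut]
      simp only [mul_inv_rev, map_inv, mul_assoc]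
    rw [h1]
    simp only [Function.comp_apply, MulEquiv.symm_apply_apply]
    rw [isClassFunction_of_isIrr hθ]
    by_cases he : e.u = 0
    · congr 1
      exact Heis.ext (show ρ b e.u = e.u by rw [he, map_zero]) rfl
    · rw [vanish ψ c A hcA hAnd hψ hθ hov he, vanish ψ c A hcA hAnd hψ hθ hov (fun h => he ?_)]
      exact (ρ.apply_bijective b).injective ((show ρ b e.u = 0 from h).trans (map_zero _).symm)
  have e : (fun e => χ (SemidirectProduct.inl e)) = θ := funext fun e => by
    have := hres (e0 e)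
    simp only [Function.comp_apply, MulEquiv.symm_apply_apply] at this
    rw [← this]
    exact congrArg χ (he0 e).symm
  exact ⟨_, χ, isCharacter_of_isIrr hχ, e.symm ▸ hθ, e.symm ▸ hov, rfl⟩

variable {f : H → ℂ} (hf : IsWeil ρ ψ c hcinv f)

include hf in
theorem IsWeil.isCharacter : IsCharacter H f := by
  obtain ⟨χ, hχ, -, -, rfl⟩ := hf
  exact isCharacter_comp hχ SemidirectProduct.inr

include hf in
theorem IsWeil.galois (σ : ℂ ≃+* ℂ) :
    IsWeil ρ ((σ : ℂ →* ℂ).compAddChar ψ) c hcinv fun h => σ (f h) := by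
  obtain ⟨χ, hχ, hirr, hov, rfl⟩ := hf
  exact ⟨fun x => σ (χ x), CfsgLib.CharNormal.isCharacter_ringEquiv σ hχ,
    CfsgLib.CharNormal.isIrr_ringEquiv σ hirr, fun a => by
      show σ (χ _) = σ (χ _) * σ (ψ a)
      rw [← map_mul]; exact congrArg σ (hov a), rfl⟩

include hf hcA hAnd hψ in
theorem IsWeil.one : ∃ n : ℕ, f 1 = n ∧ n ^ 2 = Nat.card U := by
  obtain ⟨χ, -, hirr, hov, rfl⟩ := hf
  obtain ⟨n, hn, hn2⟩ := degree_over ψ c A hcA hAnd hψ hirr hov
  exact ⟨n, by simpa using hn, hn2⟩

include hf in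
theorem IsWeil.normSq_le (h : H) : Complex.normSq (f h) ≤ Nat.card (fixSp ρ h) := by
  classical
  obtain ⟨χ, hχ, hirr, hov, rfl⟩ := hf
  set N := (SemidirectProduct.inl (φ := act ρ c hcinv)).range with hN
  have : Fintype N := Fintype.ofFinite N
  have hNn : N.Normal := by rw [hN, SemidirectProduct.range_inl_eq_ker_rightHom]; infer_instance
  let e0 : Heis c ≃* N := MonoidHom.ofInjective SemidirectProduct.inl_injective
  have hres : IsIrrCharacter N (fun n : N => χ n) := by
    have := CfsgLib.CharNormal.isIrr_comp_mulEquiv hirr e0.symm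
    convert this using 1
    funext n
    obtain ⟨e, rfl⟩ := e0.surjective n
    simp only [Function.comp_apply, MulEquiv.symm_apply_apply]
    rfl
  have hsum := CfsgLib.CharNormal.sum_normSq_coset N hχ hres (SemidirectProduct.inr h)
  simp only [Complex.mul_conj] at hsum
  rw [← Complex.ofReal_sum, ← Nat.card_congr e0.toEquiv, Heis.card, ← Complex.ofReal_natCast] at hsum
  have hsum' := Complex.ofReal_injective hsum
  -- conjugates of `h` in the coset
  let Φ : (U ⧸ fixSp ρ h) × ZMod p → N := fun z =>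
    e0 (act ρ c hcinv h⁻¹ ⟨z.1.out, 0⟩ * (⟨z.1.out, 0⟩ : Heis c)⁻¹ * ⟨0, z.2⟩)
  have hΦ : Function.Injective Φ := by
    rintro ⟨q, a⟩ ⟨q', a'⟩ hh
    have h1 := e0.injective hh
    have hu := congrArg Heis.u h1
    change ρ h⁻¹ q.out + -q.out + 0 = ρ h⁻¹ q'.out + -q'.out + 0 at hu
    have hq : q = q' := by
      rw [← q.out_eq, ← q'.out_eq]
      refine (Submodule.Quotient.eq _).mpr ((mem_fixSp ρ).mpr ?_)
      have h2 := congrArg (ρ h) hu
      simp only [map_add, map_neg, add_zero, rho_apply_apply, mul_inv_cancel, map_one,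
        Module.End.one_apply] at h2
      rw [map_sub, sub_eq_sub_iff_add_eq_add]
      rw [← sub_eq_add_neg, ← sub_eq_add_neg, sub_eq_sub_iff_add_eq_add] at h2
      rw [h2]; abel
    subst hq
    have hz := mul_left_cancel h1
    exact Prod.ext rfl (congrArg Heis.z hz)
  have hval : ∀ z, Complex.normSq (χ (SemidirectProduct.inr h * (Φ z : Ext ρ c hcinv))) =
      Complex.normSq (χ (SemidirectProduct.inr h)) := by
    rintro ⟨q, a⟩
    set e : Heis c := ⟨q.out, 0⟩
    show Complex.normSq (χ (SemidirectProduct.inr h * SemidirectProduct.inl _)) = _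
    rw [map_mul, map_mul, SemidirectProduct.inl_aut, map_inv, map_inv]
    simp only [map_inv, inv_inv, ← mul_assoc, mul_inv_cancel, one_mul]
    obtain ⟨d, σ, rfl⟩ := hχ
    have hconj : σ.character (SemidirectProduct.inl e * SemidirectProduct.inr h *
        (SemidirectProduct.inl e)⁻¹ * SemidirectProduct.inl ⟨0, a⟩) =
        σ.character (SemidirectProduct.inr h * SemidirectProduct.inl ⟨0, a⟩) := by
      have hc : (SemidirectProduct.inl e : Ext ρ c hcinv)⁻¹ * SemidirectProduct.inl ⟨0, a⟩ =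
          SemidirectProduct.inl ⟨0, a⟩ * (SemidirectProduct.inl e)⁻¹ := by
        rw [← map_inv, ← map_mul, ← map_mul]
        exact congrArg _ (Subgroup.mem_center_iff.mp (Heis.central c a) _)
      rw [mul_assoc, hc, ← mul_assoc, mul_assoc (SemidirectProduct.inl e)]
      exact isClassFunction_of_isCharacter ⟨d, σ, rfl⟩ _ _
    rw [hconj]
    have hz1 : σ.character (SemidirectProduct.inl (⟨0, a⟩ : Heis c)) = σ.character 1 * ψ a := by
      have := hov a
      simpa using this
    obtain ⟨ω, hω⟩ := (norm_character_eq_iff σ (SemidirectProduct.inl (⟨0, a⟩ : Heis c))).mp (by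
      rw [hz1, norm_mul, norm_eq_one_of_pow_eq_one' hp.out.ne_zero (addChar_pow ψ a), mul_one]
      simp [Representation.character])
    have hω' : σ.character (SemidirectProduct.inl (⟨0, a⟩ : Heis c)) = ω * σ.character 1 := by
      simp [Representation.character, hω]
    have hωψ : ω = ψ a := mul_right_cancel₀ (show σ.character 1 ≠ 0 from fun h0 =>
      irr_one_ne_zero hirr (by simpa using h0)) (by rw [← hω', hz1, mul_comm])
    have : σ.character (SemidirectProduct.inr h * SemidirectProduct.inl ⟨0, a⟩) =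
        ψ a * σ.character (SemidirectProduct.inr h) := by
      simp [Representation.character, map_mul, hω, hωψ, Module.End.mul_eq_comp]
    rw [this, map_mul, Complex.normSq_eq_norm_sq (ψ a),
      norm_eq_one_of_pow_eq_one' hp.out.ne_zero (addChar_pow ψ a), one_pow, one_mul]
  have hle : (Nat.card (U ⧸ fixSp ρ h) * p : ℝ) * Complex.normSq (χ (SemidirectProduct.inr h)) ≤
      (Nat.card U * p : ℕ) := by
    rw [← hsum']
    refine le_trans ?_ (Finset.sum_le_sum_of_subset_of_nonneg
      (Finset.subset_univ (Finset.univ.map ⟨Φ, hΦ⟩)) fun _ _ _ => Complex.normSq_nonneg _)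
    rw [Finset.sum_map, Function.Embedding.coeFn_mk, Finset.sum_congr rfl fun z _ => hval z,
      Finset.sum_const, nsmul_eq_mul, Finset.card_univ, ← Nat.card_eq_fintype_card, Nat.card_prod,
      Nat.card_zmod, Nat.cast_mul]
  rw [Submodule.card_eq_card_quotient_mul_card (fixSp ρ h)] at hle
  push_cast at hle
  have h1 : (0 : ℝ) < (Nat.card (U ⧸ fixSp ρ h) : ℝ) * p :=
    mul_pos (Nat.cast_pos.mpr Nat.card_pos) (Nat.cast_pos.mpr hp.out.pos)
  refine le_of_mul_le_mul_left (hle.trans_eq ?_) h1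
  ring

include hH hf hcA hAnd hψ in
theorem IsWeil.div (hAinv : ∀ g x y, A (ρ g x) (ρ g y) = A x y) (h : H) :
    ∃ (m : ℕ) (z : AlgInt), m ^ 2 = Nat.card (fixSp ρ h) ∧ f h = (m : ℂ) * z := by
  classical
  obtain ⟨χ, hχ, -, hov, rfl⟩ := hf
  set C := fixSp ρ h with hC
  have := Fintype.ofFinite C
  let cC : LinearMap.BilinForm (ZMod p) C := c.compl₁₂ C.subtype C.subtype
  let AC : LinearMap.BilinForm (ZMod p) C := A.compl₁₂ C.subtype C.subtype
  have hACnd : ∀ x : C, (∀ y, AC x y = 0) → x = 0 := fun x hx => Subtype.ext (hAnd _ fun y => by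
    let y' : U := ∑ k ∈ Finset.range (orderOf h), ρ (h ^ k) y
    have hy' : y' ∈ C := by
      rw [hC, mem_fixSp]
      simp only [y', map_sum, rho_apply_apply, ← pow_succ']
      have h1 := Finset.sum_range_succ' (fun k => ρ (h ^ k) y) (orderOf h)
      rw [Finset.sum_range_succ, pow_zero, pow_orderOf_eq_one] at h1
      exact (add_right_cancel h1).symm
    have h2 : A (x : U) y' = (orderOf h : ZMod p) * A (x : U) y := by
      simp only [y', map_sum]
      rw [Finset.sum_congr rfl fun k _ => (show A (x : U) (ρ (h ^ k) y) = A (x : U) y from ?_),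
        Finset.sum_const, Finset.card_range, nsmul_eq_mul]
      have hkk : ∀ j : ℕ, ρ (h ^ j) (x : U) = x := fun j => by
        induction j with
        | zero => simp
        | succ j ih => rw [pow_succ, ← rho_apply_apply, show ρ h (x : U) = x from (mem_fixSp ρ).mp x.2, ih]
      have hk := hkk k
      conv_lhs => rw [← hk]
      exact hAinv _ _ _
    have h3 := hx ⟨y', hy'⟩
    change A (x : U) y' = 0 at h3
    rw [h2, mul_eq_zero] at h3
    exact h3.resolve_left (orderOf_cast_ne_zero hH h))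
  let incl : Heis cC →* Ext ρ c hcinv := SemidirectProduct.inl.comp
    { toFun := fun e => (⟨(e.u : U), e.z⟩ : Heis c)
      map_one' := rfl
      map_mul' := fun _ _ => rfl }
  have hcomm : ∀ e, Commute (SemidirectProduct.inr h) (incl e) := by
    intro e
    show _ * SemidirectProduct.inl _ = SemidirectProduct.inl _ * _
    rw [← mul_inv_eq_iff_eq_mul, ← map_inv, ← SemidirectProduct.inl_aut]
    exact congrArg _ (Heis.ext ((mem_fixSp ρ).mp e.u.2) rfl)
  obtain ⟨θ, hθ, hθov⟩ := exists_over ψ cC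
  have hcA' : ∀ x y, cC x y - cC y x = AC x y := fun x y => hcA x y
  obtain ⟨m, hm, hm2⟩ := degree_over ψ cC AC hcA' hACnd hψ hθ hθov
  have hI := (intComb_central_translate hχ incl hcomm).2 ⟨θ, hθ⟩
  have hsum := sum_over ψ cC AC hcA' hACnd hψ hθ hθov
    (F := fun e => χ (SemidirectProduct.inr h * incl e)) (F0 := χ (SemidirectProduct.inr h)) fun a => ?_
  · rw [classInner_def] at hI
    change IsIntegral ℤ ((Nat.card (Heis cC) : ℂ)⁻¹ * ∑ e, χ (SemidirectProduct.inr h * incl e) * conj (θ e)) at hI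
    rw [hsum, Heis.card, hm, ← hm2] at hI
    push_cast at hI
    refine ⟨m, ⟨_, hI⟩, hm2, ?_⟩
    have hm0 : (m : ℂ) ≠ 0 := hm ▸ irr_one_ne_zero hθ
    have hp0 : (p : ℂ) ≠ 0 := Nat.cast_ne_zero.mpr hp.out.ne_zero
    field_simp
  · obtain ⟨d, σ, rfl⟩ := hχ
    have hz1 : σ.character (SemidirectProduct.inl (⟨0, a⟩ : Heis c)) = σ.character 1 * ψ a := by
      simpa using hov a
    obtain ⟨ω, hω⟩ := (norm_character_eq_iff σ (SemidirectProduct.inl (⟨0, a⟩ : Heis c))).mp (by
      rw [hz1, norm_mul, norm_eq_one_of_pow_eq_one' hp.out.ne_zero (addChar_pow ψ a), mul_one]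
      simp [Representation.character])
    show σ.character (SemidirectProduct.inr h * SemidirectProduct.inl ⟨0, a⟩) = _
    rcases eq_or_ne d 0 with rfl | hd
    · simp [Representation.character, Subsingleton.elim (σ _) 0]
    · have hωψ : ω = ψ a := by
        have hω' : σ.character (SemidirectProduct.inl (⟨0, a⟩ : Heis c)) = ω * σ.character 1 := by
          simp [Representation.character, hω]
        refine mul_right_cancel₀ (show σ.character 1 ≠ 0 from ?_) (by rw [← hω', hz1, mul_comm])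
        simpa [Representation.character] using hd
      simp [Representation.character, map_mul, hω, hωψ, Module.End.mul_eq_comp, mul_comm]

include hH in
/-- An invariant cocycle of an invariant alternating form. -/
theorem exists_cocycle {A : LinearMap.BilinForm (ZMod p) U} (hA : ∀ x, A x x = 0)
    (hAinv : ∀ g x y, A (ρ g x) (ρ g y) = A x y) :
    ∃ c : LinearMap.BilinForm (ZMod p) U,
      (∀ g x y, c (ρ g x) (ρ g y) = c x y) ∧ ∀ x y, c x y - c y x = A x y := by
  classical
  let b := Module.finBasis (ZMod p) U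
  let c0 : LinearMap.BilinForm (ZMod p) U :=
    Matrix.toBilin b (Matrix.of fun i j => if i < j then A (b i) (b j) else 0)
  have hc0 : ∀ x y, c0 x y - c0 y x = A x y := by
    have he : c0 - LinearMap.BilinForm.flip c0 = A := by
      refine LinearMap.BilinForm.ext_basis b fun i j => ?_
      simp only [LinearMap.sub_apply, LinearMap.BilinForm.flip_apply]
      have hb : ∀ i j, c0 (b i) (b j) = if i < j then A (b i) (b j) else 0 := fun i j => by
        have := congrFun (congrFun (LinearMap.BilinForm.toMatrix_toBilin b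
          (Matrix.of fun i j => if i < j then A (b i) (b j) else 0)) i) j
        rwa [LinearMap.BilinForm.toMatrix_apply] at this
      have halt : A (b j) (b i) = - A (b i) (b j) := by
        have h0 := hA (b i + b j)
        simp only [map_add, LinearMap.add_apply, hA, zero_add, add_zero] at h0
        linear_combination h0
      rw [hb, hb]
      rcases lt_trichotomy i j with h | h | h
      · rw [if_pos h, if_neg h.asymm, sub_zero]
      · subst h; rw [sub_self, hA]
      · rw [if_neg h.asymm, if_pos h, halt, zero_sub, neg_neg]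
    intro x y
    simpa using congrArg (fun F : LinearMap.BilinForm (ZMod p) U => F x y) he
  refine ⟨(Nat.card H : ZMod p)⁻¹ • ∑ g : H, c0.compl₁₂ (ρ g) (ρ g), fun k x y => ?_, fun x y => ?_⟩
  · simp only [LinearMap.smul_apply, LinearMap.coe_sum, Finset.sum_apply, LinearMap.compl₁₂_apply,
      rho_apply_apply]
    congr 1
    exact Fintype.sum_equiv (Equiv.mulRight k) _ _ fun g => rfl
  · simp only [LinearMap.smul_apply, LinearMap.coe_sum, Finset.sum_apply, LinearMap.compl₁₂_apply,
      ← smul_sub, ← Finset.sum_sub_distrib, hc0, hAinv]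
    rw [Finset.sum_const, Finset.card_univ, nsmul_eq_mul, ← Nat.card_eq_fintype_card, smul_eq_mul,
      inv_mul_cancel_left₀ hH]

end CfsgLib.CharBlocks.SelfDual
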