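import Cfsg.Agent.Lib.CharBlocks.IntegralRep
import Cfsg.Agent.Lib.CharBlocks.Degree
import Mathlib

/-!
# Small-dimensional representations of groups with a TI Sylow subgroup

If `P` is a TI Sylow `p`-subgroup of `G` and `A` is an `n`-dimensional complex representation
with `p`-integral entries and `n² ≤ #P`, then every matrix commuting with `A(N_G(P))` commutes
with `A(G)` (`commute_of_commute_normalizer`).
-/

set_option maxHeartbeats 800000

namespace CfsgLib.CharBlocks.TICommute

open Matrix

section Residue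

variable {k : Type*} [Field k] {p : ℕ} [Fact p.Prime] [CharP k p] {P : Type*} [Group P] [Fintype P]
  {V : Type*} [AddCommGroup V] [Module k V]

/-- A nonzero translation invariant subspace of functions on a finite `p`-group in
characteristic `p` contains a nonzero constant. -/
theorem exists_const (hP : IsPGroup p P) (K : Submodule k (P → k))
    (hK : ∀ a ∈ K, ∀ σ : P, (fun τ => a (σ⁻¹ * τ)) ∈ K) (h0 : K ≠ ⊥) :
    ∃ c : k, c ≠ 0 ∧ (fun _ => c) ∈ K := by
  classical
  obtain ⟨a, ha, ha0⟩ := Submodule.exists_mem_ne_zero_of_ne_bot h0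
  letI : Algebra (ZMod p) k := ZMod.algebra k p
  let L : (P → ZMod p) →ₗ[ZMod p] (P → k) :=
    { toFun := fun c => fun τ => ∑ h : P, algebraMap (ZMod p) k (c h) * a (h⁻¹ * τ)
      map_add' := fun x y => by funext τ; simp [add_mul, Finset.sum_add_distrib]
      map_smul' := fun x y => by
        funext τ; simp [Finset.mul_sum, Algebra.smul_def, mul_assoc] }
  let S := LinearMap.range L
  have hsub : ∀ s ∈ S, s ∈ K := by
    rintro _ ⟨c, rfl⟩
    have : L c = ∑ h : P, algebraMap (ZMod p) k (c h) • (fun τ => a (h⁻¹ * τ)) := by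
      funext τ
      simp only [L, LinearMap.coe_mk, AddHom.coe_mk, Finset.sum_apply, Pi.smul_apply, smul_eq_mul]
    rw [this]
    exact K.sum_mem fun h _ => K.smul_mem _ (hK a ha h)
  have hinv : ∀ (σ : P) (s : P → k), s ∈ S → (fun τ => s (σ⁻¹ * τ)) ∈ S := by
    rintro σ _ ⟨c, rfl⟩
    refine ⟨fun h => c (σ⁻¹ * h), funext fun τ => ?_⟩
    refine Fintype.sum_equiv (Equiv.mulLeft σ⁻¹) _ _ (fun h => ?_)
    simp [mul_assoc]
  letI : MulAction P S :=
    { smul := fun σ s => ⟨fun τ => (s : P → k) (σ⁻¹ * τ), hinv σ s s.2⟩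
      one_smul := fun s => Subtype.ext (funext fun τ => by
        show (s : P → k) ((1 : P)⁻¹ * τ) = _
        simp)
      mul_smul := fun g h s => Subtype.ext (funext fun τ => by
        show (s : P → k) ((g * h)⁻¹ * τ) = (s : P → k) (h⁻¹ * (g⁻¹ * τ))
        simp [mul_assoc]) }
  haveI : Finite S := Finite.of_surjective L.rangeRestrict L.surjective_rangeRestrict
  have haS : a ∈ S := ⟨Pi.single 1 1, funext fun τ => by
    show (∑ h : P, _) = _
    rw [Finset.sum_eq_single (1 : P)]
    · simp
    · intro h _ hh; simp [hh]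
    · simp⟩
  have : Nontrivial S :=
    ⟨⟨⟨a, haS⟩, 0, fun h => ha0 (congrArg Subtype.val h)⟩⟩
  have hdvd : p ∣ Nat.card S := by
    rw [Module.natCard_eq_pow_finrank (K := ZMod p) (V := S), Nat.card_zmod]
    exact dvd_pow_self p (Module.finrank_pos).ne'
  have h0S : (0 : S) ∈ MulAction.fixedPoints P S := fun σ => Subtype.ext rfl
  obtain ⟨b, hb, hb0⟩ := hP.exists_fixed_point_of_prime_dvd_card_of_fixed_point S hdvd h0S
  refine ⟨(b : P → k) 1, fun hc => hb0 (Subtype.ext (funext fun τ => ?_)), ?_⟩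
  · have := congrFun (congrArg Subtype.val (hb τ)) τ
    show (0 : k) = (b : P → k) τ
    rw [← this]
    show 0 = (b : P → k) (τ⁻¹ * τ)
    rw [inv_mul_cancel, hc]
  · have hfun : (fun _ => (b : P → k) 1) = (b : P → k) := funext fun τ => by
      have := congrFun (congrArg Subtype.val (hb τ)) τ
      rw [← this]
      show (b : P → k) 1 = (b : P → k) (τ⁻¹ * τ)
      rw [inv_mul_cancel]
    rw [hfun]
    exact hsub b b.2

/-- If a `p`-group acts on a space of dimension at most its order and some norm `∑ σ m` is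
nonzero, then every fixed vector is a multiple of that norm. -/
theorem fixed_eq_smul_norm [FiniteDimensional k V] (hP : IsPGroup p P)
    (act : Representation k P V) (hV : Module.finrank k V ≤ Fintype.card P) (m : V)
    (hm : ∑ σ : P, act σ m ≠ 0) {x : V} (hx : ∀ σ : P, act σ x = x) :
    ∃ c : k, x = c • ∑ σ : P, act σ m := by
  classical
  let ψ : (P → k) →ₗ[k] V := Fintype.linearCombination k (fun σ => act σ m)
  have hψ : ∀ a, ψ a = ∑ σ : P, a σ • act σ m := fun a => rfl
  have heq : ∀ (a : P → k) (σ : P), act σ (ψ a) = ψ fun τ => a (σ⁻¹ * τ) := by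
    intro a σ
    rw [hψ, hψ, map_sum]
    refine Fintype.sum_equiv (Equiv.mulLeft σ) _ _ fun τ => ?_
    simp [map_mul]
  have hinj : Function.Injective ψ := by
    rw [← LinearMap.ker_eq_bot]
    by_contra hne
    obtain ⟨c, hc, hcK⟩ := exists_const hP (LinearMap.ker ψ) (fun a ha σ => by
      rw [LinearMap.mem_ker] at ha ⊢
      rw [← heq, ha, map_zero]) hne
    rw [LinearMap.mem_ker, hψ, ← Finset.smul_sum] at hcK
    exact hm ((smul_eq_zero.mp hcK).resolve_left hc)
  have hsurj : Function.Surjective ψ := by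
    refine (LinearMap.injective_iff_surjective_of_finrank_eq_finrank ?_).mp hinj
    refine le_antisymm (LinearMap.finrank_le_finrank_of_injective hinj) ?_
    rwa [Module.finrank_pi]
  obtain ⟨a, rfl⟩ := hsurj x
  refine ⟨a 1, ?_⟩
  rw [hψ, Finset.smul_sum]
  refine Finset.sum_congr rfl fun σ _ => ?_
  have h1 := congrFun (hinj ((heq a σ).symm.trans (hx σ))) σ
  simp only [inv_mul_cancel] at h1
  rw [← h1]

end Residue

variable {G : Type*} [Group G] [Finite G] {p : ℕ} [hp : Fact p.Prime]
  {ι : Type*} [Fintype ι] [DecidableEq ι]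

/-- A nonzero matrix can be scaled to have entries in `R`, one of them equal to `1`. -/
theorem exists_normalized (R : ValuationSubring ℂ) {w : Matrix ι ι ℂ} (hw : w ≠ 0) :
    ∃ (t : ℂ) (i j : ι), t ≠ 0 ∧ t * w i j = 1 ∧ ∀ a b, t * w a b ∈ R := by
  have hne : ∃ ab : ι × ι, w ab.1 ab.2 ≠ 0 := by
    by_contra h
    push Not at h
    exact hw (Matrix.ext fun a b => h (a, b))
  have : Nonempty (ι × ι) := let ⟨ab, _⟩ := hne; ⟨ab⟩
  obtain ⟨⟨i, j⟩, hij⟩ := Finite.exists_max fun ab : ι × ι => R.valuation (w ab.1 ab.2)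
  have h0 : w i j ≠ 0 := by
    intro h
    obtain ⟨ab, hab⟩ := hne
    have h1 := hij ab
    simp only [h, map_zero] at h1
    exact hab ((Valuation.zero_iff _).mp (le_antisymm h1 zero_le))
  refine ⟨(w i j)⁻¹, i, j, inv_ne_zero h0, inv_mul_cancel₀ h0, fun a b => ?_⟩
  rw [← ValuationSubring.valuation_le_one_iff, map_mul, map_inv₀]
  exact inv_mul_le_one_of_le₀ (hij (a, b)) zero_le

/-- Conjugation by `A g`. -/
def conjAct (A : G →* Matrix ι ι ℂ) (g : G) : Matrix ι ι ℂ →ₗ[ℂ] Matrix ι ι ℂ where
  toFun v := A g * v * A g⁻¹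
  map_add' v w := by rw [mul_add, add_mul]
  map_smul' c v := by simp

theorem conjAct_mul (A : G →* Matrix ι ι ℂ) (g h : G) (v : Matrix ι ι ℂ) :
    conjAct A g (conjAct A h v) = conjAct A (g * h) v := by
  simp [conjAct, mul_assoc]

theorem conjAct_eq_iff (A : G →* Matrix ι ι ℂ) (g : G) (v : Matrix ι ι ℂ) :
    conjAct A g v = v ↔ A g * v = v * A g := by
  constructor
  · intro h
    calc A g * v = A g * v * (A g⁻¹ * A g) := by rw [← map_mul, inv_mul_cancel, map_one, mul_one]
      _ = conjAct A g v * A g := by simp [conjAct, mul_assoc]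
      _ = v * A g := by rw [h]
  · intro h
    show A g * v * A g⁻¹ = v
    rw [h, mul_assoc, ← map_mul, mul_inv_cancel, map_one, mul_one]

/-- See the file docstring. -/
theorem commute_of_commute_normalizer (R : ValuationSubring ℂ) (hR : R.valuation (p : ℂ) < 1)
    (A : G →* Matrix ι ι ℂ) (hA : ∀ g i j, A g i j ∈ R) (P : Sylow p G)
    (hTI : ∀ g : G, g ∉ Subgroup.normalizer ((P : Subgroup G) : Set G) →
      ∀ σ ∈ (P : Subgroup G), g⁻¹ * σ * g ∈ (P : Subgroup G) → σ = 1)
    (hcard : Fintype.card ι ^ 2 ≤ Nat.card (P : Subgroup G))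
    (v : Matrix ι ι ℂ)
    (hv : ∀ g ∈ Subgroup.normalizer ((P : Subgroup G) : Set G), A g * v = v * A g) :
    ∀ g, A g * v = v * A g := by
  classical
  set N := Subgroup.normalizer ((P : Subgroup G) : Set G) with hN
  have := Fintype.ofFinite (G ⧸ N)
  have := Fintype.ofFinite (P : Subgroup G)
  have hPN : (P : Subgroup G) ≤ N := Subgroup.le_normalizer
  let T : Matrix ι ι ℂ → Matrix ι ι ℂ := fun w => ∑ q : G ⧸ N, conjAct A q.out w
  have hindep : ∀ w, (∀ g ∈ N, conjAct A g w = w) → ∀ (g : G),
      conjAct A (Quotient.out (g : G ⧸ N)) w = conjAct A g w := by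
    intro w hw g
    obtain ⟨h, hh⟩ := QuotientGroup.mk_out_eq_mul N g
    rw [hh, ← conjAct_mul, hw _ h.2]
  have hTfix : ∀ w, (∀ g ∈ N, conjAct A g w = w) → ∀ g, conjAct A g (T w) = T w := by
    intro w hw g
    show conjAct A g (∑ q : G ⧸ N, conjAct A q.out w) = _
    rw [map_sum]
    refine Fintype.sum_equiv (MulAction.toPerm g) _ _ fun q => ?_
    rw [conjAct_mul]
    show _ = conjAct A (Quotient.out (g • q)) w
    conv_rhs => rw [← QuotientGroup.out_eq' q, MulAction.Quotient.smul_mk]
    rw [hindep w hw]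
    rfl
  have he : (Fintype.card (G ⧸ N)) % p = 1 := by
    rw [← Nat.card_eq_fintype_card]
    show N.index % p = 1
    rw [hN, show (Subgroup.normalizer ((P : Subgroup G) : Set G)).index = Nat.card (Sylow p G) from
      P.card_eq_index_normalizer.symm]
    have h : Nat.card (Sylow p G) % p = 1 % p := card_sylow_modEq_one p G
    rw [h, Nat.one_mod_eq_one.mpr hp.out.ne_one]
  set e : ℕ := Fintype.card (G ⧸ N) with he'
  have he0 : (e : ℂ) ≠ 0 := Nat.cast_ne_zero.mpr Fintype.card_ne_zero
  have hTG : ∀ u, (∀ g, conjAct A g u = u) → T u = (e : ℂ) • u := by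
    intro u hu
    show ∑ q : G ⧸ N, conjAct A q.out u = _
    simp [hu, he', Nat.cast_smul_eq_nsmul]
  -- suffices: kernel of the trace on fixed points is zero
  suffices key : ∀ w, (∀ g ∈ N, conjAct A g w = w) → T w = 0 → w = 0 by
    have hvN : ∀ g ∈ N, conjAct A g v = v := fun g hg => (conjAct_eq_iff A g v).mpr (hv g hg)
    have hw := key ((e : ℂ) • v - T v) (fun g hg => by
      rw [map_sub, map_smul, hvN g hg, hTfix v hvN g]) (by
      have hsub : ∀ a b, T (a - b) = T a - T b := fun a b => by simp [T, map_sub]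
      have hsmul : T ((e : ℂ) • v) = (e : ℂ) • T v := by simp [T, Finset.smul_sum]
      rw [hsub, hsmul, hTG (T v) (hTfix v hvN), sub_self])
    intro g
    rw [← conjAct_eq_iff]
    refine smul_right_injective _ he0 (?_ : (e : ℂ) • conjAct A g v = (e : ℂ) • v)
    rw [← map_smul, sub_eq_zero.mp hw, hTfix v hvN g]
  intro w hw hTw
  by_contra hw0
  obtain ⟨t, i₀, j₀, ht, ht1, htR⟩ := exists_normalized R hw0
  -- work with the integral matrix `wR`
  let AR : G → Matrix ι ι R := fun g => Matrix.of fun a b => ⟨A g a b, hA g a b⟩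
  have hAR : ∀ g, (AR g).map R.subtype = A g := fun g => Matrix.ext fun a b => rfl
  have hinjm : Function.Injective fun x : Matrix ι ι R => x.map R.subtype :=
    Matrix.map_injective Subtype.coe_injective
  have hARmul : ∀ g h, AR (g * h) = AR g * AR h := fun g h => hinjm (by
    show (AR (g * h)).map R.subtype = (AR g * AR h).map R.subtype
    rw [Matrix.map_mul, hAR, hAR, hAR, map_mul])
  have hARone : AR 1 = 1 := hinjm (by
    show (AR 1).map R.subtype = (1 : Matrix ι ι R).map R.subtype
    rw [hAR, map_one, Matrix.map_one _ (map_zero _) (map_one _)])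
  let cR : G → Matrix ι ι R → Matrix ι ι R := fun g x => AR g * x * AR g⁻¹
  have hcR : ∀ g x, (cR g x).map R.subtype = conjAct A g (x.map R.subtype) := fun g x => by
    simp only [cR, Matrix.map_mul, hAR]
    rfl
  let wR : Matrix ι ι R := Matrix.of fun a b => ⟨t * w a b, htR a b⟩
  have hwR : wR.map R.subtype = t • w := Matrix.ext fun a b => rfl
  have hwRN : ∀ g ∈ N, cR g wR = wR := fun g hg => hinjm (by
    show (cR g wR).map R.subtype = wR.map R.subtype
    rw [hcR, hwR, map_smul, hw g hg])
  have hsum0 : ∑ q : G ⧸ N, cR q.out wR = 0 := hinjm (by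
    show (∑ q : G ⧸ N, cR q.out wR).map R.subtype = (0 : Matrix ι ι R).map R.subtype
    show R.subtype.mapMatrix (∑ q : G ⧸ N, cR q.out wR) = R.subtype.mapMatrix 0
    rw [map_sum, map_zero]
    simp only [RingHom.mapMatrix_apply, hcR, hwR, map_smul, ← Finset.smul_sum]
    rw [show ∑ q : G ⧸ N, conjAct A q.out w = T w from rfl, hTw, smul_zero])
  -- the other cosets fall into regular `P`-orbits
  have horb : ∀ s : Finset (G ⧸ N), (∀ q ∈ s, q ≠ ((1 : G) : G ⧸ N)) →
      (∀ σ ∈ (P : Subgroup G), ∀ q ∈ s, σ • q ∈ s) →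
      ∃ m : Matrix ι ι R, ∑ q ∈ s, cR q.out wR = ∑ σ : (P : Subgroup G), cR σ m := by
    intro s
    induction s using Finset.strongInduction with
    | H s ih =>
      intro hs hinv
      rcases s.eq_empty_or_nonempty with rfl | ⟨q, hq⟩
      · exact ⟨0, by simp [cR]⟩
      have hinj : Function.Injective fun σ : (P : Subgroup G) => (σ : G) • q := by
        intro σ τ h
        obtain ⟨g, rfl⟩ := QuotientGroup.mk_surjective q
        have hgN : g ∉ N := fun h' => hs _ hq ((QuotientGroup.eq).mpr (by simpa using N.inv_mem h'))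
        have h1 : (σ : G) • (g : G ⧸ N) = (τ : G) • (g : G ⧸ N) := h
        rw [MulAction.Quotient.smul_mk, MulAction.Quotient.smul_mk, QuotientGroup.eq] at h1
        have h2 : g⁻¹ * (((σ⁻¹ * τ : (P : Subgroup G)) : G)) * g ∈ N := by
          simpa [mul_assoc] using h1
        refine inv_mul_eq_one.mp (Subtype.ext (hTI g hgN _ (σ⁻¹ * τ).2 ?_))
        -- a `p`-element of `N` lies in `P`
        have hp' : IsPGroup p ↥(Subgroup.zpowers (g⁻¹ * ((σ⁻¹ * τ : (P : Subgroup G)) : G) * g)) := by
          obtain ⟨k, hk⟩ := P.2 (σ⁻¹ * τ)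
          refine IsPGroup.of_card_dvd_pow (n := k) ?_
          rw [Nat.card_zpowers]
          refine orderOf_dvd_of_pow_eq_one ?_
          have h3 : (((σ⁻¹ * τ : (P : Subgroup G)) : G)) ^ p ^ k = 1 := congrArg Subtype.val hk
          rw [show g⁻¹ * ((σ⁻¹ * τ : (P : Subgroup G)) : G) * g =
            g⁻¹ * ((σ⁻¹ * τ : (P : Subgroup G)) : G) * g⁻¹⁻¹ by rw [inv_inv], conj_pow, h3]
          simp
        have hle : (P : Subgroup G) ⊔ Subgroup.zpowers (g⁻¹ * ((σ⁻¹ * τ : (P : Subgroup G)) : G) * g)
            = (P : Subgroup G) :=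
          P.3 (P.2.to_sup_of_normal_left' hp' ((Subgroup.zpowers_le).mpr h2)) le_sup_left
        exact hle.le (Subgroup.mem_sup_right (Subgroup.mem_zpowers _))
      set O := (Finset.univ : Finset (P : Subgroup G)).image
        (fun σ : (P : Subgroup G) => (σ : G) • q) with hO
      have hOs : O ⊆ s := by
        intro r hr
        obtain ⟨σ, -, rfl⟩ := Finset.mem_image.mp hr
        exact hinv _ σ.2 q hq
      have hqO : q ∈ O := Finset.mem_image.mpr ⟨1, Finset.mem_univ _, by simp⟩
      have hlt : s \ O ⊂ s := Finset.sdiff_ssubset hOs ⟨q, hqO⟩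
      obtain ⟨m, hm⟩ := ih _ hlt (fun r hr => hs r (Finset.mem_sdiff.mp hr).1) (by
        intro σ hσ r hr
        obtain ⟨hrs, hrO⟩ := Finset.mem_sdiff.mp hr
        refine Finset.mem_sdiff.mpr ⟨hinv σ hσ r hrs, fun h => hrO ?_⟩
        obtain ⟨τ, -, hτ⟩ := Finset.mem_image.mp h
        refine Finset.mem_image.mpr ⟨(⟨σ, hσ⟩ : (P : Subgroup G))⁻¹ * τ, Finset.mem_univ _, ?_⟩
        show (σ⁻¹ * (τ : G)) • q = r
        rw [mul_smul, hτ, inv_smul_smul])
      refine ⟨cR q.out wR + m, ?_⟩
      rw [← Finset.sum_sdiff hOs, hm, hO, Finset.sum_image fun a _ b _ h => hinj h]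
      simp only [cR, Matrix.mul_add, Matrix.add_mul, Finset.sum_add_distrib]
      rw [add_comm]
      congr 1
      refine Finset.sum_congr rfl fun σ _ => hinjm ?_
      show (cR (Quotient.out ((σ : G) • q)) wR).map R.subtype = (cR σ (cR q.out wR)).map R.subtype
      rw [hcR, hcR, hcR, hwR, map_smul, map_smul, map_smul, conjAct_mul]
      congr 1
      conv_lhs => rw [← QuotientGroup.out_eq' q, MulAction.Quotient.smul_mk]
      rw [hindep w hw]
      rfl
  obtain ⟨m, hm⟩ := horb (Finset.univ.erase ((1 : G) : G ⧸ N))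
    (fun q hq => (Finset.mem_erase.mp hq).1) (fun σ hσ q hq => by
      refine Finset.mem_erase.mpr ⟨fun h => (Finset.mem_erase.mp hq).1 ?_, Finset.mem_univ _⟩
      rw [← inv_smul_smul σ q, h, MulAction.Quotient.smul_mk, QuotientGroup.eq]
      simpa using hPN hσ)
  rw [← Finset.add_sum_erase _ _ (Finset.mem_univ ((1 : G) : G ⧸ N)), hm] at hsum0
  have hone : cR (Quotient.out ((1 : G) : G ⧸ N)) wR = wR := by
    obtain ⟨h, hh⟩ := QuotientGroup.mk_out_eq_mul N 1
    refine hwRN _ ?_
    rw [hh, one_mul]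
    exact h.2
  rw [hone] at hsum0
  -- reduce modulo the maximal ideal
  let res := IsLocalRing.residue R
  have hpk : (p : IsLocalRing.ResidueField R) = 0 := by
    rw [← map_natCast res, IsLocalRing.residue_eq_zero_iff]
    exact (ValuationSubring.valuation_lt_one_iff R _).mpr (by simpa using hR)
  haveI : CharP (IsLocalRing.ResidueField R) p := (CharP.charP_iff_prime_eq_zero hp.out).mpr hpk
  let red : Matrix ι ι R →+* Matrix ι ι (IsLocalRing.ResidueField R) := res.mapMatrix
  let act : Representation (IsLocalRing.ResidueField R) (P : Subgroup G)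
      (Matrix ι ι (IsLocalRing.ResidueField R)) :=
    { toFun := fun σ =>
        { toFun := fun x => red (AR σ) * x * red (AR (σ : G)⁻¹)
          map_add' := fun x y => by rw [mul_add, add_mul]
          map_smul' := fun c x => by simp }
      map_one' := by
        refine LinearMap.ext fun x => ?_
        show red (AR ((1 : (P : Subgroup G)) : G)) * x * red (AR ((1 : (P : Subgroup G)) : G)⁻¹) = x
        simp only [OneMemClass.coe_one, inv_one, hARone, map_one, one_mul, mul_one]
      map_mul' := fun σ τ => by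
        refine LinearMap.ext fun x => ?_
        show red (AR ((σ * τ : (P : Subgroup G)) : G)) * x *
            red (AR ((σ * τ : (P : Subgroup G)) : G)⁻¹) =
          red (AR σ) * (red (AR τ) * x * red (AR (τ : G)⁻¹)) * red (AR (σ : G)⁻¹)
        simp only [Subgroup.coe_mul, _root_.mul_inv_rev, hARmul, map_mul, mul_assoc] }
  have hact : ∀ (σ : (P : Subgroup G)) (x : Matrix ι ι R), act σ (red x) = red (cR σ x) := fun σ x => by
    show red (AR σ) * red x * red (AR (σ : G)⁻¹) = _
    simp [cR, map_mul]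
  have hwred : red wR ≠ 0 := fun h => by
    have h1 := congrFun (congrFun h i₀) j₀
    have h2 : wR i₀ j₀ = 1 := Subtype.ext ht1
    rw [show red wR i₀ j₀ = res (wR i₀ j₀) from rfl, h2, map_one] at h1
    exact one_ne_zero h1
  have hnorm : ∑ σ : (P : Subgroup G), act σ (red m) ≠ 0 := by
    intro h
    simp only [hact, ← map_sum] at h
    refine hwred ?_
    rw [eq_neg_of_add_eq_zero_left hsum0, map_neg, h, neg_zero]
  have hdim : Module.finrank (IsLocalRing.ResidueField R) (Matrix ι ι (IsLocalRing.ResidueField R)) ≤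
      Fintype.card (P : Subgroup G) := by
    simp only [Nat.card_eq_fintype_card] at hcard
    rw [Module.finrank_matrix, Module.finrank_self, mul_one, ← sq]
    exact hcard
  have : Nonempty ι := ⟨i₀⟩
  obtain ⟨c, hc⟩ := fixed_eq_smul_norm P.2 act hdim (red m) hnorm
    (x := (1 : Matrix ι ι (IsLocalRing.ResidueField R))) (fun σ => by
      rw [← map_one red, hact]
      simp only [cR, mul_one, ← hARmul, mul_inv_cancel, hARone])
  -- so `w` is a scalar
  have hscalar : w = w i₀ i₀ • (1 : Matrix ι ι ℂ) := by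
    by_contra hne
    set u := w - w i₀ i₀ • (1 : Matrix ι ι ℂ) with hu
    obtain ⟨s, a, b, hs, hs1, hsR⟩ := exists_normalized R (sub_ne_zero.mpr hne)
    let uR : Matrix ι ι R := Matrix.of fun x y => ⟨s * u x y, hsR x y⟩
    have huR : uR.map R.subtype = s • u := Matrix.ext fun x y => rfl
    have hufix : ∀ σ : (P : Subgroup G), cR σ uR = uR := fun σ => hinjm (by
      show (cR σ uR).map R.subtype = uR.map R.subtype
      have h1 : conjAct A σ 1 = 1 := (conjAct_eq_iff A _ _).mpr (by rw [mul_one, one_mul])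
      rw [hcR, huR, map_smul, hu, map_sub, map_smul, hw _ (hPN σ.2), h1])
    obtain ⟨d, hd⟩ := fixed_eq_smul_norm P.2 act hdim (red m) hnorm (x := red uR)
      (fun σ => by rw [hact, hufix σ])
    have hc0 : c ≠ 0 := fun h0 => by
      rw [h0, zero_smul] at hc
      exact one_ne_zero hc
    have hd' : red uR = (d / c) • (1 : Matrix ι ι (IsLocalRing.ResidueField R)) := by
      rw [hd, hc, smul_smul, div_mul_cancel₀ _ hc0]
    have h00 : uR i₀ i₀ = 0 := Subtype.ext (by simp [uR, hu])
    have h1 := congrFun (congrFun hd' i₀) i₀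
    rw [show red uR i₀ i₀ = res (uR i₀ i₀) from rfl, h00, map_zero, Matrix.smul_apply,
      Matrix.one_apply_eq, smul_eq_mul, mul_one] at h1
    rw [← h1, zero_smul] at hd'
    have h2 := congrFun (congrFun hd' a) b
    have h3 : uR a b = 1 := Subtype.ext hs1
    rw [show red uR a b = res (uR a b) from rfl, h3, map_one] at h2
    exact one_ne_zero h2
  have hwG : ∀ g, conjAct A g w = w := fun g => by
    rw [conjAct_eq_iff, hscalar, mul_smul_comm, smul_mul_assoc, mul_one, one_mul]
  exact hw0 ((smul_eq_zero.mp ((hTG w hwG).symm.trans hTw)).resolve_left he0)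

end CfsgLib.CharBlocks.TICommute

namespace CfsgLib.CharBlocks.TICommute

variable {G : Type*} [Group G] [Finite G] {p : ℕ} [hp : Fact p.Prime]

open scoped Pointwise in
/-- TI condition in element form. -/
theorem ti_elementwise {P : Sylow p G}
    (hTI : ∀ g : G, g ∉ Subgroup.normalizer ((P : Subgroup G) : Set G) →
      (P : Subgroup G) ⊓ (MulAut.conj g • (P : Subgroup G)) = ⊥) :
    ∀ g : G, g ∉ Subgroup.normalizer ((P : Subgroup G) : Set G) →
      ∀ σ ∈ (P : Subgroup G), g⁻¹ * σ * g ∈ (P : Subgroup G) → σ = 1 := by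
  intro g hg σ hσ hσ'
  have h : σ ∈ (P : Subgroup G) ⊓ (MulAut.conj g • (P : Subgroup G)) := by
    refine Subgroup.mem_inf.mpr ⟨hσ, ?_⟩
    rw [Subgroup.mem_pointwise_smul_iff_inv_smul_mem, MulAut.smul_def, MulAut.conj_inv_apply]
    exact hσ'
  rw [hTI g hg, Subgroup.mem_bot] at h
  exact h

/-- The representation of a matrix homomorphism. -/
noncomputable def matrixRep {n : ℕ} (A : G →* Matrix (Fin n) (Fin n) ℂ) :
    Representation ℂ G (Fin n → ℂ) :=
  (Matrix.toLinAlgEquiv' : _ ≃ₐ[ℂ] _).toAlgHom.toRingHom.toMonoidHom.comp A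

omit [Finite G] in
theorem matrixRep_character {n : ℕ} (A : G →* Matrix (Fin n) (Fin n) ℂ) (g : G) :
    (matrixRep A).character g = (A g).trace := by
  show LinearMap.trace ℂ _ (Matrix.toLin' (A g)) = _
  exact Matrix.trace_toLin'_eq (A g)

/-- A TI Sylow subgroup and a small degree: the norm of `χ` is the norm of its restriction to
any subgroup containing the normalizer. -/
theorem classInner_res_eq [Fintype G] (P : Sylow p G)
    (hTI : ∀ g : G, g ∉ Subgroup.normalizer ((P : Subgroup G) : Set G) →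
      ∀ σ ∈ (P : Subgroup G), g⁻¹ * σ * g ∈ (P : Subgroup G) → σ = 1)
    {χ : G → ℂ} (hχ : Cfsg.IsCharacter G χ)
    (hdeg : Cfsg.charDegree χ ^ 2 ≤ Nat.card (P : Subgroup G))
    (H : Subgroup G) [Fintype H] (hH : Subgroup.normalizer ((P : Subgroup G) : Set G) ≤ H) :
    Cfsg.classInner χ χ = Cfsg.classInner (fun h : H => χ h) (fun h : H => χ h) := by
  obtain ⟨R, hR⟩ := exists_pLocal p
  obtain ⟨n, A, hA, htr⟩ := exists_integral_matrix R hχ
  have hn : χ 1 = n := by rw [← htr 1, map_one, Matrix.trace_one, Fintype.card_fin]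
  have hcard : Fintype.card (Fin n) ^ 2 ≤ Nat.card (P : Subgroup G) := by
    rwa [Fintype.card_fin, ← charDegree_eq hn]
  set ρ := matrixRep A with hρ
  have hchar : ρ.character = χ := funext fun g => (matrixRep_character A g).trans (htr g)
  let ρH : Representation ℂ H (Fin n → ℂ) := ρ.comp H.subtype
  have hcharH : ρH.character = fun h : H => χ h :=
    funext fun h => congrFun hchar (h : G)
  rw [← hcharH, ← hchar, CfsgLib.Char.classInner_character, CfsgLib.Char.classInner_character]
  congr 1
  let e : Representation.IntertwiningMap ρ ρ →ₗ[ℂ] Representation.IntertwiningMap ρH ρH :=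
    { toFun := fun f => ⟨f.toLinearMap, fun h => f.isIntertwining' (h : G)⟩
      map_add' := fun _ _ => rfl
      map_smul' := fun _ _ => rfl }
  have heinj : Function.Injective e := fun f f' h =>
    Representation.IntertwiningMap.toLinearMap_injective ρ ρ (congrArg (fun u => u.toLinearMap) h :)
  have hesurj : Function.Surjective e := by
    intro f
    refine ⟨⟨f.toLinearMap, fun g => ?_⟩, rfl⟩
    set v := LinearMap.toMatrix' f.toLinearMap with hv
    have hf : f.toLinearMap = Matrix.toLin' v := (Matrix.toLin'_toMatrix' _).symm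
    have hρ' : ∀ g, ρ g = Matrix.toLin' (A g) := fun g => rfl
    have hcomm : ∀ g ∈ Subgroup.normalizer ((P : Subgroup G) : Set G), A g * v = v * A g := by
      intro g hg
      refine Matrix.toLin'.injective ?_
      rw [Matrix.toLin'_mul, Matrix.toLin'_mul, ← hρ', ← hf]
      exact (f.isIntertwining' ⟨g, hH hg⟩).symm
    rw [hρ', hf, ← Matrix.toLin'_mul, ← Matrix.toLin'_mul,
      commute_of_commute_normalizer R hR A hA P hTI hcard v hcomm g]
  exact (LinearEquiv.ofBijective e ⟨heinj, hesurj⟩).finrank_eq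

/-- In a group with a normal subgroup meeting `P` trivially, faithful small characters force
`Z(P)` to centralize that subgroup. -/
theorem eq_one_of_central (P : Sylow p G)
    (hTI : ∀ g : G, g ∉ Subgroup.normalizer ((P : Subgroup G) : Set G) →
      ∀ σ ∈ (P : Subgroup G), g⁻¹ * σ * g ∈ (P : Subgroup G) → σ = 1)
    {χ : G → ℂ} (hχ : Cfsg.IsCharacter G χ) (hfaith : ∀ g, χ g = χ 1 → g = 1)
    (hdeg : Cfsg.charDegree χ ^ 2 ≤ Nat.card (P : Subgroup G)) {z : G}
    (hz : ∀ g ∈ Subgroup.normalizer ((P : Subgroup G) : Set G), g * z = z * g) :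
    ∀ g, g * z = z * g := by
  classical
  obtain ⟨R, hR⟩ := exists_pLocal p
  obtain ⟨n, A, hA, htr⟩ := exists_integral_matrix R hχ
  have hn : χ 1 = n := by rw [← htr 1, map_one, Matrix.trace_one, Fintype.card_fin]
  have hcard : Fintype.card (Fin n) ^ 2 ≤ Nat.card (P : Subgroup G) := by
    rwa [Fintype.card_fin, ← charDegree_eq hn]
  have h := commute_of_commute_normalizer R hR A hA P hTI hcard (A z)
    (fun g hg => by rw [← map_mul, ← map_mul, hz g hg])
  intro g
  refine inv_mul_eq_one.mp (hfaith ((g * z)⁻¹ * (z * g)) ?_)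
  rw [← htr, ← htr 1, map_mul, map_mul A z g, ← h g, ← map_mul, ← map_mul, inv_mul_cancel]

end CfsgLib.CharBlocks.TICommute
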