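import Cfsg.Agent.Lib.CharNormal.Kernel
import Cfsg.Agent.Lib.CharBlocks.Degree

/-!
# Irreducible characters which are nonzero on exactly two classes

The hypothesis `hχ : TwoSupp χ` says that `χ` is nonzero on exactly two conjugacy classes.
For `2 < #G`: `χ` is faithful, every other irreducible character has the support of `χ` in its
kernel, the support of `χ` is a normal subgroup, the unique minimal normal one, and all its
nontrivial elements are conjugate.
-/

namespace CfsgLib.CharBlocks.TwoClass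

open CfsgLib.Char CfsgLib.CharNormal
open scoped ComplexConjugate

variable {G : Type*} [Group G] [Finite G]

/-- `χ` is nonzero on exactly two classes. -/
abbrev TwoSupp (χ : Cfsg.IrrCharacter G) : Prop :=
  Nat.card {C : ConjClasses G // ∃ g ∈ C.carrier, (χ : G → ℂ) g ≠ 0} = 2

variable {χ : Cfsg.IrrCharacter G}

theorem exists_rep (hχ : TwoSupp χ) :
    ∃ x : G, x ≠ 1 ∧ ∀ g, (χ : G → ℂ) g ≠ 0 ↔ g = 1 ∨ IsConj x g := by
  have h1 : ∃ g ∈ (ConjClasses.mk (1 : G)).carrier, (χ : G → ℂ) g ≠ 0 :=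
    ⟨1, ConjClasses.mem_carrier_iff_mk_eq.mpr rfl, irr_one_ne_zero χ.2⟩
  obtain ⟨⟨C, hC⟩, hne, huniq⟩ := (Nat.card_eq_two_iff' ⟨_, h1⟩).mp hχ
  obtain ⟨x, hxC, hx⟩ := id hC
  rw [ConjClasses.mem_carrier_iff_mk_eq] at hxC
  subst hxC
  have hx1 : x ≠ 1 := fun h => hne (Subtype.ext (congrArg ConjClasses.mk h))
  refine ⟨x, hx1, fun g => ⟨fun hg => ?_, ?_⟩⟩
  · by_cases hg1 : g = 1
    · exact Or.inl hg1
    refine Or.inr ?_
    have := huniq ⟨ConjClasses.mk g, g, ConjClasses.mem_carrier_iff_mk_eq.mpr rfl, hg⟩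
      (fun h => hg1 (by
        have h' : ConjClasses.mk g = ConjClasses.mk (1 : G) := congrArg Subtype.val h
        rwa [ConjClasses.mk_eq_mk_iff_isConj, isConj_one_left] at h'))
    have h' : ConjClasses.mk g = ConjClasses.mk x := congrArg Subtype.val this
    exact (ConjClasses.mk_eq_mk_iff_isConj.mp h').symm
  · rintro (rfl | hg)
    · exact irr_one_ne_zero χ.2
    · rwa [← isClassFunction_iff.mp (isClassFunction_of_isIrr χ.2) x g hg]

theorem ne_one (hG : 2 < Nat.card G) (hχ : TwoSupp χ) : (χ : G → ℂ) ≠ fun _ => 1 := by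
  classical
  intro h
  obtain ⟨x, hx1, hx⟩ := exists_rep hχ
  have hall : ∀ g : G, IsConj x g ↔ g ≠ 1 := fun g => by
    refine ⟨fun hg h1 => hx1 ?_, fun hg => ((hx g).mp (by rw [h]; exact one_ne_zero)).resolve_left hg⟩
    rw [h1] at hg
    exact isConj_one_left.mp hg
  have hk := card_isConj_mul_card_centralizer x
  have := Fintype.ofFinite G
  rw [Nat.card_congr (Equiv.subtypeEquivRight hall), Nat.card_eq_fintype_card,
    Fintype.card_subtype_compl, Fintype.card_subtype_eq, ← Nat.card_eq_fintype_card] at hk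
  obtain ⟨m, hm⟩ : ∃ m, Nat.card G = m + 1 := ⟨Nat.card G - 1, by omega⟩
  rw [hm, Nat.add_sub_cancel] at hk
  rcases (show Nat.card (Subgroup.centralizer ({x} : Set G)) = 0 ∨
      Nat.card (Subgroup.centralizer ({x} : Set G)) = 1 ∨
      2 ≤ Nat.card (Subgroup.centralizer ({x} : Set G)) by omega) with h0 | h0 | h0
  · rw [h0] at hk; omega
  · rw [h0] at hk; omega
  · nlinarith

/-- Every other irreducible character has the support of `χ` in its kernel. -/
theorem apply_eq_degree (hG : 2 < Nat.card G) (hχ : TwoSupp χ) {ψ : Cfsg.IrrCharacter G}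
    (hψ : ψ ≠ χ) {g : G} (hg : (χ : G → ℂ) g ≠ 0) : (ψ : G → ℂ) g = (ψ : G → ℂ) 1 := by
  classical
  obtain ⟨x, hx1, hx⟩ := exists_rep hχ
  have := Fintype.ofFinite G
  have key : ∀ φ : Cfsg.IrrCharacter G, φ ≠ χ →
      (χ : G → ℂ) 1 * conj ((φ : G → ℂ) 1) + (Finset.univ.filter (IsConj x)).card *
        ((χ : G → ℂ) x * conj ((φ : G → ℂ) x)) = 0 := by
    intro φ hφ
    have h := classInner_irr_ne χ.2 φ.2 (fun h => hφ (Subtype.ext h.symm))
    rw [classInner_def, mul_eq_zero, or_iff_right (inv_ne_zero card_ne_zero')] at h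
    rw [← h]
    have hsplit : ∀ y : G, (χ : G → ℂ) y * conj ((φ : G → ℂ) y) =
        (if y = 1 then (χ : G → ℂ) 1 * conj ((φ : G → ℂ) 1) else 0) +
        (if IsConj x y then (χ : G → ℂ) x * conj ((φ : G → ℂ) x) else 0) := by
      intro y
      by_cases h1 : y = 1
      · subst h1
        rw [if_pos rfl, if_neg (fun h => hx1 (isConj_one_left.mp h)), add_zero]
      · by_cases h2 : IsConj x y
        · rw [if_neg h1, if_pos h2, zero_add,
            isClassFunction_iff.mp (isClassFunction_of_isIrr χ.2) x y h2,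
            isClassFunction_iff.mp (isClassFunction_of_isIrr φ.2) x y h2]
        · rw [if_neg h1, if_neg h2, add_zero,
            not_ne_iff.mp (fun h => ((hx y).mp h).elim h1 h2), zero_mul]
    rw [Finset.sum_congr rfl fun y _ => hsplit y, Finset.sum_add_distrib, Finset.sum_ite_eq',
      if_pos (Finset.mem_univ _), ← Finset.sum_filter, Finset.sum_const, nsmul_eq_mul]
  have h0 := key irrOne (fun h => ne_one hG hχ (by rw [← h]; rfl))
  have h1 := key ψ hψ
  simp only [irrOne_apply, map_one, mul_one] at h0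
  rw [char_conj_one (isCharacter_of_isIrr ψ.2), ← mul_assoc,
    eq_neg_of_add_eq_zero_right h0] at h1
  have h2 : conj ((ψ : G → ℂ) x) = (ψ : G → ℂ) 1 := by
    have h3 : (χ : G → ℂ) 1 * ((ψ : G → ℂ) 1 - conj ((ψ : G → ℂ) x)) = 0 := by linear_combination h1
    exact (sub_eq_zero.mp ((mul_eq_zero.mp h3).resolve_left (irr_one_ne_zero χ.2))).symm
  have h4 : (ψ : G → ℂ) x = (ψ : G → ℂ) 1 := by
    rw [← Complex.conj_conj ((ψ : G → ℂ) x), h2, char_conj_one (isCharacter_of_isIrr ψ.2)]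
  rcases (hx g).mp hg with rfl | hg'
  · rfl
  · rw [← isClassFunction_iff.mp (isClassFunction_of_isIrr ψ.2) x g hg', h4]

theorem faithful (hG : 2 < Nat.card G) (hχ : TwoSupp χ) {g : G}
    (hg : (χ : G → ℂ) g = (χ : G → ℂ) 1) : g = 1 := by
  have := Fintype.ofFinite G
  by_contra hne
  have hg0 : (χ : G → ℂ) g ≠ 0 := by rw [hg]; exact irr_one_ne_zero χ.2
  have hall : ∀ ψ : Cfsg.IrrCharacter G, (ψ : G → ℂ) g = (ψ : G → ℂ) 1 := fun ψ => by
    by_cases h : ψ = χ
    · rw [h, hg]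
    · exact apply_eq_degree hG hχ h hg0
  exact hne (isConj_one_left.mp ((isConj_iff_forall_irr g 1).mpr hall))

theorem supp_iff (hG : 2 < Nat.card G) (hχ : TwoSupp χ) (g : G) :
    (χ : G → ℂ) g ≠ 0 ↔ ∀ ψ : Cfsg.IrrCharacter G, ψ ≠ χ → (ψ : G → ℂ) g = (ψ : G → ℂ) 1 := by
  classical
  refine ⟨fun hg ψ hψ => apply_eq_degree hG hχ hψ hg, fun h h0 => ?_⟩
  have hg1 : g ≠ 1 := fun he => irr_one_ne_zero χ.2 (he ▸ h0)
  have := Fintype.ofFinite G
  have hs := sum_degree_mul_apply g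
  rw [if_neg hg1, ← Finset.add_sum_erase _ _ (Finset.mem_univ χ), h0, mul_zero, zero_add] at hs
  have hs' : ((∑ ψ ∈ Finset.univ.erase χ, Cfsg.charDegree (ψ : G → ℂ) ^ 2 : ℕ) : ℂ) = 0 := by
    rw [← hs, Nat.cast_sum]
    refine Finset.sum_congr rfl fun ψ hψ => ?_
    rw [Nat.cast_pow, coe_charDegree_irr, h ψ (Finset.mem_erase.mp hψ).1, sq]
  have hne : (irrOne : Cfsg.IrrCharacter G) ≠ χ := fun h => ne_one hG hχ (by rw [← h]; rfl)
  have := Finset.sum_eq_zero_iff.mp (Nat.cast_eq_zero.mp hs') irrOne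
    (Finset.mem_erase.mpr ⟨hne, Finset.mem_univ _⟩)
  exact pow_ne_zero 2 (charDegree_pos irrOne.2).ne' this

/-- The support of `χ`, a normal subgroup. -/
theorem exists_support (hG : 2 < Nat.card G) (hχ : TwoSupp χ) :
    ∃ N : Subgroup G, N.Normal ∧ N ≠ ⊥ ∧ ∀ g, g ∈ N ↔ (χ : G → ℂ) g ≠ 0 := by
  let N : Subgroup G := ⨅ ψ : {ψ : Cfsg.IrrCharacter G // ψ ≠ χ}, charKer (isCharacter_of_isIrr ψ.1.2)
  have hN : ∀ g, g ∈ N ↔ (χ : G → ℂ) g ≠ 0 := fun g => by
    rw [supp_iff hG hχ g]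
    simp only [N, Subgroup.mem_iInf, mem_charKer, Subtype.forall]
  refine ⟨N, ⟨fun n hn g => ?_⟩, ?_, hN⟩
  · rw [hN] at hn ⊢
    rwa [isClassFunction_of_isIrr χ.2]
  · obtain ⟨x, hx1, hx⟩ := exists_rep hχ
    intro hbot
    exact hx1 ((Subgroup.eq_bot_iff_forall N).mp hbot x ((hN x).mpr ((hx x).mpr (Or.inr (IsConj.refl x)))))

/-- The support lies in every nontrivial normal subgroup. -/
theorem supp_mem_of_normal (hG : 2 < Nat.card G) (hχ : TwoSupp χ) (K : Subgroup G) [K.Normal]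
    (hK : K ≠ ⊥) {g : G} (hg : (χ : G → ℂ) g ≠ 0) : g ∈ K := by
  have := Fintype.ofFinite G
  have := Fintype.ofFinite (G ⧸ K)
  rw [← QuotientGroup.eq_one_iff]
  refine isConj_one_left.mp ((isConj_iff_forall_irr _ _).mpr fun ψ => ?_)
  have hne : (inflEquiv K ψ).1 ≠ χ := by
    intro h
    refine hK ((Subgroup.eq_bot_iff_forall K).mpr fun k hk => faithful hG hχ ?_)
    have := (inflEquiv K ψ).2 k hk
    rwa [h] at this
  have h := apply_eq_degree hG hχ hne hg
  rwa [inflEquiv_apply, inflEquiv_apply, QuotientGroup.mk_one] at h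

theorem conj_of_supp (hχ : TwoSupp χ) {a b : G} (ha : (χ : G → ℂ) a ≠ 0)
    (hb : (χ : G → ℂ) b ≠ 0) (ha1 : a ≠ 1) (hb1 : b ≠ 1) : IsConj a b := by
  obtain ⟨x, hx1, hx⟩ := exists_rep hχ
  exact (((hx a).mp ha).resolve_left ha1).symm.trans (((hx b).mp hb).resolve_left hb1)

theorem elementaryAbelian (hG : 2 < Nat.card G) (hχ : TwoSupp χ) {N : Subgroup G} [N.Normal]
    (hN : ∀ g, g ∈ N ↔ (χ : G → ℂ) g ≠ 0) (hN1 : N ≠ ⊥) :
    ∃ p : ℕ, p.Prime ∧ IsPGroup p N ∧ (∀ n ∈ N, n ^ p = 1) ∧ IsMulCommutative N := by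
  have hcard : Nat.card N ≠ 1 := fun h => hN1 (Subgroup.card_eq_one.mp h)
  obtain ⟨p, hp, hdvd⟩ := Nat.exists_prime_and_dvd hcard
  have : Fact p.Prime := ⟨hp⟩
  obtain ⟨a, ha⟩ := exists_prime_orderOf_dvd_card' p hdvd
  have ha1 : (a : G) ≠ 1 := fun h => by
    rw [← Subgroup.orderOf_coe, h, orderOf_one] at ha
    exact hp.ne_one ha.symm
  have hpow : ∀ n ∈ N, n ^ p = 1 := fun n hn => by
    by_cases hn1 : n = 1
    · rw [hn1, one_pow]
    obtain ⟨c, hc⟩ := isConj_iff.mp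
      (conj_of_supp hχ ((hN _).mp a.2) ((hN _).mp hn) ha1 hn1)
    rw [← hc, conj_pow, ← ha, ← Subgroup.orderOf_coe, pow_orderOf_eq_one, mul_one, mul_inv_cancel]
  have hpg : IsPGroup p N := fun n => ⟨1, Subtype.ext (by simpa using hpow n n.2)⟩
  refine ⟨p, hp, hpg, hpow, ?_⟩
  have : Nontrivial N := (Subgroup.nontrivial_iff_ne_bot N).mpr hN1
  have hZ := hpg.center_nontrivial
  let Z : Subgroup G := (Subgroup.center N).map N.subtype
  have : Z.Normal := inferInstance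
  have hZ1 : Z ≠ ⊥ := by
    rw [Ne, Subgroup.map_eq_bot_iff_of_injective _ N.subtype_injective]
    exact (Subgroup.nontrivial_iff_ne_bot _).mp hZ
  refine ⟨⟨fun a b => ?_⟩⟩
  have hb : (b : G) ∈ Z := supp_mem_of_normal hG hχ Z hZ1 ((hN _).mp b.2)
  obtain ⟨b', hb', he⟩ := Subgroup.mem_map.mp hb
  obtain rfl : b' = b := Subtype.ext he
  exact Subgroup.mem_center_iff.mp hb' a

end CfsgLib.CharBlocks.TwoClass
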