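import Mathlib.GroupTheory.SemidirectProduct
import Cfsg.Agent.Lib.CharBlocks.TwoClass
import Cfsg.Agent.Lib.CharNormal.Linear

/-!
# Irreducible characters nonzero on two classes: centralizers and inertia groups
-/

namespace CfsgLib.CharBlocks.TwoClass

open CfsgLib.Char CfsgLib.CharNormal
open scoped ComplexConjugate

variable {G : Type*} [Group G] {χ : Cfsg.IrrCharacter G}

theorem sum_eq_sum_supp [Fintype G] {N : Subgroup G} [Fintype N]
    (hN : ∀ g, g ∈ N ↔ (χ : G → ℂ) g ≠ 0) (f : G → ℂ) (hf : ∀ g, (χ : G → ℂ) g = 0 → f g = 0) :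
    ∑ g : G, f g = ∑ n : N, f n := by
  classical
  rw [← Finset.sum_subset (Finset.subset_univ (Finset.univ.filter (· ∈ N)))
    (fun x _ hx => hf x (not_ne_iff.mp fun h => (by simpa using hx : x ∉ N) ((hN x).mpr h)))]
  exact Finset.sum_subtype (p := fun x => x ∈ N) _ (fun x => by simp) f

variable [Finite G] {N : Subgroup G} [hNn : N.Normal]

/-- There is a positive integer `e` such that `(χ|N, μ) = e` for every nontrivial `μ ∈ Irr N`,
`#G = #N (#N - 1) e²`, and the inertia group of every such `μ` and the centralizer of every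
nontrivial element of `N` have order `e² #N`. -/
theorem exists_e (hG : 2 < Nat.card G) (hχ : TwoSupp χ) (hN : ∀ g, g ∈ N ↔ (χ : G → ℂ) g ≠ 0)
    (hN1 : N ≠ ⊥) [Fintype N] :
    ∃ e : ℕ, 0 < e ∧
      Nat.card G = (Nat.card N - 1) * (e ^ 2 * Nat.card N) ∧
      (∀ μ : Cfsg.IrrCharacter N, (μ : N → ℂ) ≠ (fun _ => 1) →
        Cfsg.classInner (fun n : N => (χ : G → ℂ) n) (μ : N → ℂ) = e ∧
          Nat.card (inertia N (μ : N → ℂ)) = e ^ 2 * Nat.card N) ∧
      ∀ x ∈ N, x ≠ 1 →
        Nat.card (Subgroup.centralizer ({x} : Set G)) = e ^ 2 * Nat.card N := by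
  classical
  have := Fintype.ofFinite G
  obtain ⟨p, hp, hpg, hpow, hcomm⟩ := elementaryAbelian hG hχ hN hN1
  have hc : ∀ a b : N, a * b = b * a := mul_comm'
  obtain ⟨x, hx, hx1⟩ := Subgroup.bot_or_exists_ne_one N |>.resolve_left hN1
  have hval : ∀ n : N, (χ : G → ℂ) n = (χ : G → ℂ) x +
      if n = 1 then (χ : G → ℂ) 1 - (χ : G → ℂ) x else 0 := by
    intro n
    by_cases h : n = 1
    · subst h; simp
    · rw [if_neg h, add_zero]
      exact (isClassFunction_iff.mp (isClassFunction_of_isIrr χ.2) _ _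
        (conj_of_supp hχ ((hN _).mp hx) ((hN _).mp n.2) hx1
          (fun h' => h (Subtype.ext h')))).symm
  have hne : irrOne ≠ χ := fun h => ne_one hG hχ (by rw [← h]; rfl)
  have h0 : (χ : G → ℂ) 1 - (χ : G → ℂ) x = - ((Nat.card N : ℂ) * (χ : G → ℂ) x) := by
    have h := classInner_irr_ne χ.2 (irrOne (G := G)).2 (fun h => hne (Subtype.ext h.symm))
    rw [classInner_def, mul_eq_zero, or_iff_right (inv_ne_zero card_ne_zero'),
      sum_eq_sum_supp hN _ (fun g hg => by rw [hg, zero_mul])] at h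
    simp only [irrOne_apply, map_one, mul_one] at h
    rw [Finset.sum_congr rfl fun n _ => hval n, Finset.sum_add_distrib, Finset.sum_const,
      Finset.sum_ite_eq', if_pos (Finset.mem_univ _), Finset.card_univ, nsmul_eq_mul,
      ← Nat.card_eq_fintype_card] at h
    linear_combination h
  have hlin : ∀ μ : Cfsg.IrrCharacter N, (μ : N → ℂ) 1 = 1 := fun μ => irr_one_of_comm hc μ.2
  have hin : ∀ μ : Cfsg.IrrCharacter N, (μ : N → ℂ) ≠ (fun _ => 1) →
      Cfsg.classInner (fun n : N => (χ : G → ℂ) n) (μ : N → ℂ) = - (χ : G → ℂ) x := by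
    intro μ hμ
    have h := classInner_irr_ne isIrrCharacter_one μ.2 (fun h => hμ h.symm)
    rw [classInner_def, mul_eq_zero, or_iff_right (inv_ne_zero card_ne_zero')] at h
    simp only [one_mul] at h
    rw [classInner_def, Finset.sum_congr rfl fun n _ => by rw [hval n, add_mul],
      Finset.sum_add_distrib, ← Finset.mul_sum, h, mul_zero, zero_add]
    simp only [ite_mul, zero_mul, Finset.sum_ite_eq', Finset.mem_univ, if_true, hlin μ, map_one,
      mul_one, h0]
    rw [mul_neg, inv_mul_cancel_left₀ card_ne_zero']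
  have hcardIrr : Fintype.card (Cfsg.IrrCharacter N) = Nat.card N := by
    rw [← Nat.card_eq_fintype_card, card_irr_eq_card_conjClasses]
    refine (Nat.card_congr (Equiv.ofBijective ConjClasses.mk ⟨fun a b h => ?_,
      ConjClasses.mk_surjective⟩)).symm
    obtain ⟨c, hc'⟩ := isConj_iff.mp (ConjClasses.mk_eq_mk_iff_isConj.mp h)
    rw [← hc', hc c a, mul_inv_cancel_right]
  obtain ⟨μ₀, hμ₀⟩ : ∃ μ : Cfsg.IrrCharacter N, (μ : N → ℂ) ≠ (fun _ => 1) := by
    by_contra h
    push Not at h
    have : Fintype.card (Cfsg.IrrCharacter N) ≤ 1 :=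
      Fintype.card_le_one_iff.mpr fun a b => Subtype.ext ((h a).trans (h b).symm)
    rw [hcardIrr] at this
    exact hN1 (Subgroup.eq_bot_of_card_le N this)
  obtain ⟨e, he⟩ := classInner_char_nat (isCharacter_res N (isCharacter_of_isIrr χ.2))
    (isCharacter_of_isIrr μ₀.2)
  have hex : - (χ : G → ℂ) x = e := (hin μ₀ hμ₀).symm.trans he
  have he0 : 0 < e := Nat.pos_of_ne_zero fun h => (hN x).mp hx (by
    rw [h, Nat.cast_zero, neg_eq_zero] at hex; exact hex)
  have hone : Cfsg.classInner (fun n : N => (χ : G → ℂ) n) (fun _ => (1 : ℂ)) = 0 := by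
    rw [classInner_one_right, Finset.sum_congr rfl fun n _ => hval n, Finset.sum_add_distrib,
      Finset.sum_const, Finset.sum_ite_eq', if_pos (Finset.mem_univ _), Finset.card_univ,
      nsmul_eq_mul, ← Nat.card_eq_fintype_card, h0]
    ring
  have horb : ∀ μ : Cfsg.IrrCharacter N, (μ : N → ℂ) ≠ (fun _ => 1) →
      orbit N μ = Finset.univ.erase irrOne := by
    intro μ hμ
    ext ν
    rw [Finset.mem_erase, and_iff_left (Finset.mem_univ ν), mem_orbit]
    constructor
    · rintro ⟨g, hg⟩ rfl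
      exact hμ (conjFun_injective N g (hg.trans (conjFun_const N g 1).symm))
    · intro hν
      refine exists_conj_of_constituents N χ.2 μ.2 ν.2 ?_ ?_
      · rw [hin μ hμ, hex]; exact Nat.cast_ne_zero.mpr he0.ne'
      · rw [hin ν (fun h => hν (Subtype.ext h)), hex]; exact Nat.cast_ne_zero.mpr he0.ne'
  have hGcard : Nat.card G = (Nat.card N - 1) * (e ^ 2 * Nat.card N) := by
    have h := classInner_irr_self χ.2
    rw [classInner_def, sum_eq_sum_supp hN _ (fun g hg => by rw [hg, zero_mul]),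
      inv_mul_eq_one₀ card_ne_zero'] at h
    have h2 : ∑ n : N, (χ : G → ℂ) n * conj ((χ : G → ℂ) n) =
        (Nat.card N : ℂ) * ((Nat.card N - 1 : ℕ) * ((e : ℂ) * e)) := by
      rw [← card_mul_classInner]
      congr 1
      rw [classInner_eq_sum (isClassFunction_of_isCharacter
        (isCharacter_res N (isCharacter_of_isIrr χ.2)))]
      rw [← Finset.add_sum_erase _ _ (Finset.mem_univ (irrOne : Cfsg.IrrCharacter N)),
        Finset.sum_congr rfl fun ν hν => ?_, Finset.sum_const,
        Finset.card_erase_of_mem (Finset.mem_univ _), Finset.card_univ, hcardIrr, nsmul_eq_mul,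
        show Cfsg.classInner (fun n : N => (χ : G → ℂ) n) ((irrOne : Cfsg.IrrCharacter N) : N → ℂ)
          = 0 from hone, zero_mul, zero_add]
      have hν1 : (ν : N → ℂ) ≠ fun _ => 1 :=
        fun h => (Finset.mem_erase.mp hν).1 (Subtype.ext h)
      rw [hin ν hν1, hex, Complex.conj_natCast]
    have h3 : (Nat.card G : ℂ) = ((Nat.card N - 1) * (e ^ 2 * Nat.card N) : ℕ) := by
      rw [h, h2]; push_cast; ring
    exact_mod_cast h3
  have hN2 : 1 < Nat.card N := Subgroup.one_lt_card_iff_ne_bot N |>.mpr hN1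
  refine ⟨e, he0, hGcard, fun μ hμ => ⟨(hin μ hμ).trans hex, ?_⟩, fun y hy hy1 => ?_⟩
  · have h := Subgroup.index_mul_card (inertia N (μ : N → ℂ))
    rw [← card_orbit_eq_index, horb μ hμ, Finset.card_erase_of_mem (Finset.mem_univ _),
      Finset.card_univ, hcardIrr, hGcard] at h
    exact Nat.eq_of_mul_eq_mul_left (by omega) h
  · have h := card_isConj_mul_card_centralizer y
    have hiff : ∀ z : G, IsConj y z ↔ z ∈ N ∧ z ≠ 1 := by
      refine fun z => ⟨fun hz => ?_, fun hz => conj_of_supp hχ ((hN _).mp hy) ((hN _).mp hz.1) hy1 hz.2⟩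
      obtain ⟨c, rfl⟩ := isConj_iff.mp hz
      exact ⟨hNn.conj_mem y hy c, fun h => hy1 (by simpa using h)⟩
    have hcard : Nat.card {z : G // IsConj y z} = Nat.card N - 1 := by
      rw [Nat.card_congr ((Equiv.subtypeEquivRight hiff).trans
        (Equiv.subtypeSubtypeEquivSubtypeInter (fun z => z ∈ N) (fun z => z ≠ 1)).symm),
        Nat.card_congr (Equiv.subtypeEquivRight (q := fun z : N => z ≠ 1)
          (fun z => not_congr OneMemClass.coe_eq_one)), Nat.card_eq_fintype_card,
        Fintype.card_subtype_compl, Fintype.card_subtype_eq, ← Nat.card_eq_fintype_card]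
    rw [hcard, hGcard] at h
    exact Nat.eq_of_mul_eq_mul_left (by omega) h

/-- The integer `e` of `exists_e` is a power of `p`. -/
theorem eq_of_prime_dvd (hG : 2 < Nat.card G) (hχ : TwoSupp χ)
    (hN : ∀ g, g ∈ N ↔ (χ : G → ℂ) g ≠ 0) (hN1 : N ≠ ⊥) [Fintype N] {p : ℕ} [Fact p.Prime]
    (hNp : IsPGroup p N) {e : ℕ} (he0 : 0 < e)
    {μ : Cfsg.IrrCharacter N} (hμ : Cfsg.classInner (fun n : N => (χ : G → ℂ) n) (μ : N → ℂ) = e)
    (hT : Nat.card (inertia N (μ : N → ℂ)) = e ^ 2 * Nat.card N) {q : ℕ} (hq : q.Prime)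
    (hqe : q ∣ e) : q = p := by
  classical
  by_contra hqp
  have : Fact q.Prime := ⟨hq⟩
  have := Fintype.ofFinite G
  obtain ⟨p', hp', -, -, hcomm⟩ := elementaryAbelian hG hχ hN hN1
  have hc : ∀ a b : N, a * b = b * a := mul_comm'
  have hlin := irr_one_of_comm hc μ.2
  obtain ⟨j, hj⟩ := IsPGroup.iff_card.mp hNp
  let T := inertia N (μ : N → ℂ)
  obtain ⟨S⟩ : Nonempty (Sylow q T) := inferInstance
  let Q : Subgroup G := (S : Subgroup T).map T.subtype
  have := Fintype.ofFinite Q
  have hQT : Q ≤ T := Subgroup.map_subtype_le _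
  have hQcard : Nat.card Q = q ^ (2 * e.factorization q) := by
    rw [Nat.card_congr ((S : Subgroup T).equivMapOfInjective _ T.subtype_injective).toEquiv.symm,
      Sylow.card_eq_multiplicity, hT, Nat.factorization_mul (pow_ne_zero _ he0.ne') Nat.card_pos.ne',
      Finsupp.add_apply, hj, Nat.factorization_pow, Nat.factorization_pow]
    simp [Nat.Prime.factorization (Fact.out : p.Prime), Ne.symm hqp]
  have hinf : ∀ g : G, g ∈ Q → g ∈ N → g = 1 := by
    intro g hgQ hgN
    have hd : Nat.Coprime (Nat.card Q) (Nat.card N) := by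
      rw [hQcard, hj]
      exact Nat.Coprime.pow _ _ ((Nat.coprime_primes hq Fact.out).mpr hqp)
    exact (Subgroup.disjoint_def.mp
      (disjoint_iff.mpr (Subgroup.inf_eq_bot_of_coprime hd))) hgQ hgN
  let φ : Q →* MulAut N := MulAut.conjNormal.comp Q.subtype
  let f : SemidirectProduct N Q φ →* G := SemidirectProduct.lift N.subtype Q.subtype (fun g =>
    MonoidHom.ext fun n => by simp [φ])
  let lam : SemidirectProduct N Q φ →* ℂˣ :=
    SemidirectProduct.lift (linearHom (isCharacter_of_isIrr μ.2) hlin) 1 (fun g => by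
      ext n
      simp only [MonoidHom.comp_apply, MulEquiv.coe_toMonoidHom, MonoidHom.one_apply,
        map_one, MulAut.one_apply, linearHom_apply]
      have h := congrFun ((mem_inertia N).mp (hQT g.2)) n
      rw [conjFun_eq_comp] at h
      exact h)
  have : Finite (SemidirectProduct N Q φ) := .of_equiv _ SemidirectProduct.equivProd.symm
  have := Fintype.ofFinite (SemidirectProduct N Q φ)
  obtain ⟨m, hm⟩ := classInner_char_nat (isCharacter_comp (isCharacter_of_isIrr χ.2) f)
    (isCharacter_of_isIrr (isIrrCharacter_units_hom lam))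
  have hval : Cfsg.classInner ((χ : G → ℂ) ∘ f) (fun g => (lam g : ℂ)) = (Nat.card Q : ℂ)⁻¹ * e := by
    rw [classInner_def, ← Equiv.sum_comp SemidirectProduct.equivProd.symm, Fintype.sum_prod_type,
      Nat.card_congr SemidirectProduct.equivProd, Nat.card_prod, ← hμ, classInner_def,
      Nat.cast_mul, mul_inv, mul_comm (Nat.card N : ℂ)⁻¹, mul_assoc]
    congr 2
    refine Finset.sum_congr rfl fun n _ => ?_
    rw [Finset.sum_eq_single (1 : Q)]
    · rw [show SemidirectProduct.equivProd.symm (n, (1 : Q)) =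
        (SemidirectProduct.inl n : SemidirectProduct N Q φ) from rfl]
      simp [f, lam, linearHom_apply]
    · intro g _ hg
      have : (χ : G → ℂ) ((n : G) * g) = 0 := by
        by_contra h
        exact hg (Subtype.ext (hinf g g.2 ((Subgroup.mul_mem_cancel_left N n.2).mp ((hN _).mpr h))))
      simp [f, SemidirectProduct.lift, this]
    · simp
  rw [show Cfsg.classInner _ _ = (m : ℂ) from hm, eq_inv_mul_iff_mul_eq₀ card_ne_zero'] at hval
  have hdvd : q ^ (2 * e.factorization q) ∣ e := ⟨m, by rw [← hQcard]; exact_mod_cast hval.symm⟩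
  rw [hq.pow_dvd_iff_le_factorization he0.ne'] at hdvd
  have := hq.factorization_pos_of_dvd he0.ne' hqe
  omega

/-- Inertia groups of nontrivial characters of `N` and centralizers of nontrivial elements of `N`
are Sylow `p`-subgroups. -/
theorem exists_sylow (hG : 2 < Nat.card G) (hχ : TwoSupp χ)
    (hN : ∀ g, g ∈ N ↔ (χ : G → ℂ) g ≠ 0) (hN1 : N ≠ ⊥) [Fintype N] {p : ℕ} [Fact p.Prime]
    (hNp : IsPGroup p N) :
    (∀ x ∈ N, x ≠ 1 → ∃ P : Sylow p G, Subgroup.centralizer ({x} : Set G) = P) ∧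
      ∀ μ : Cfsg.IrrCharacter N, (μ : N → ℂ) ≠ (fun _ => 1) →
        ∃ P : Sylow p G, inertia N (μ : N → ℂ) = P := by
  classical
  obtain ⟨e, he0, hG2, hT, hC⟩ := exists_e hG hχ hN hN1
  obtain ⟨j, hj⟩ := IsPGroup.iff_card.mp hNp
  have hN2 : 1 < Nat.card N := Subgroup.one_lt_card_iff_ne_bot N |>.mpr hN1
  have hj0 : 0 < j := Nat.pos_of_ne_zero fun h => by rw [hj, h, pow_zero] at hN2; omega
  obtain ⟨k, hk⟩ : ∃ k, e ^ 2 * Nat.card N = p ^ k := by
    by_cases hall : ∀ μ : Cfsg.IrrCharacter N, (μ : N → ℂ) = fun _ => 1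
    · exfalso
      have : Fintype.card (Cfsg.IrrCharacter N) ≤ 1 :=
        Fintype.card_le_one_iff.mpr fun a b => Subtype.ext ((hall a).trans (hall b).symm)
      obtain ⟨p', -, -, -, hcomm⟩ := elementaryAbelian hG hχ hN hN1
      have hcard : Nat.card (Cfsg.IrrCharacter N) = Nat.card N := by
        rw [card_irr_eq_card_conjClasses]
        refine (Nat.card_congr (Equiv.ofBijective ConjClasses.mk ⟨fun a b h => ?_,
          ConjClasses.mk_surjective⟩)).symm
        obtain ⟨c, hc'⟩ := isConj_iff.mp (ConjClasses.mk_eq_mk_iff_isConj.mp h)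
        rw [← hc', mul_comm' c a, mul_inv_cancel_right]
      rw [← Nat.card_eq_fintype_card, hcard] at this
      omega
    push Not at hall
    obtain ⟨μ, hμ⟩ := hall
    have hep : e = p ^ e.factorization p := by
      refine Nat.eq_pow_of_factorization_eq_single he0.ne' ?_
      ext q
      by_cases hq : q = p
      · subst hq; simp
      rw [Finsupp.single_eq_of_ne hq]
      by_contra h
      obtain ⟨hqp, hqe, -⟩ := Nat.mem_primeFactors.mp
        (show q ∈ e.primeFactors from Nat.support_factorization e ▸ Finsupp.mem_support_iff.mpr h)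
      exact hq (eq_of_prime_dvd hG hχ hN hN1 hNp he0 (hT μ hμ).1 (hT μ hμ).2 hqp hqe)
    exact ⟨e.factorization p * 2 + j, by rw [hj, pow_add, pow_mul, ← hep]⟩
  have key : ∀ H : Subgroup G, Nat.card H = e ^ 2 * Nat.card N → ∃ P : Sylow p G, H = P := by
    intro H hH
    refine ⟨Sylow.ofCard H ?_, rfl⟩
    have h0 : Nat.card N - 1 ≠ 0 := by omega
    have hcop : ¬ p ∣ Nat.card N - 1 := fun h => by
      have h1 : p ∣ Nat.card N - (Nat.card N - 1) :=
        Nat.dvd_sub (hj ▸ dvd_pow_self p hj0.ne') h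
      rw [show Nat.card N - (Nat.card N - 1) = 1 by omega] at h1
      exact (Fact.out : p.Prime).not_dvd_one h1
    rw [hH, hG2, hk, Nat.factorization_mul h0 (pow_ne_zero _ (Fact.out : p.Prime).ne_zero),
      Finsupp.add_apply, Nat.factorization_eq_zero_of_not_dvd hcop, zero_add,
      (Fact.out : p.Prime).factorization_pow, Finsupp.single_eq_same]
  exact ⟨fun x hx hx1 => key _ (hC x hx hx1), fun μ hμ => key _ (hT μ hμ).2⟩

end CfsgLib.CharBlocks.TwoClass
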